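import Cfsg.Agent.Lib.BrauerChar.Lifting
import Cfsg.Agent.Lib.Clifford.Rep
import Cfsg.Agent.Lib.DegSubTwo.Basic

/-!
# Matrices over the local ring affording an irreducible character

They are irreducible over `ℂ`; the centre acts by scalars, a nonzero vector generates, and two
nonzero vectors for two different characters generate the sum.
-/

set_option autoImplicit false
set_option linter.unusedSectionVars false
set_option linter.style.haveILetI false

namespace Cfsg.Agent.Lib.FeitSmall.Affords

open Cfsg.Agent.Lib Cfsg.Agent.Lib.Blocks Cfsg.Agent.Lib.Characters.Basic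
open Cfsg.Agent.Lib.DegSubTwo.Basic (lam)
open scoped ComplexConjugate

universe u

variable {M : Ideal Cfsg.AlgInt} [M.IsMaximal] {G : Type u} [Group G] [Finite G]
  {χ : Cfsg.IrrCharacter G} {n : ℕ} {T : G →* Matrix (Fin n) (Fin n) (localRing M)}

/-- The complex representation. -/
noncomputable def cplx (T : G →* Matrix (Fin n) (Fin n) (localRing M)) :
    Representation ℂ G (Fin n → ℂ) :=
  (Matrix.toLinAlgEquiv'.toMulEquiv.toMonoidHom).comp
    (((localRing M).subtype.mapMatrix.toMonoidHom).comp T)

theorem cplx_apply (g : G) (v : Fin n → ℂ) :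
    cplx T g v = ((localRing M).subtype.mapMatrix (T g)).mulVec v := rfl

theorem cplx_coe (g : G) (v : Fin n → localRing M) (i : Fin n) :
    (((T g).mulVec v i : localRing M) : ℂ) = cplx T g (fun j => (v j : ℂ)) i := by
  rw [cplx_apply]
  exact RingHom.map_mulVec (localRing M).subtype (T g) v i

theorem cplx_char (hT : ∀ g, ((T g).trace : ℂ) = (χ : G → ℂ) g) :
    (cplx T).character = (χ : G → ℂ) := by
  funext g
  rw [← hT g, Representation.character,
    show cplx T g = Matrix.toLin' ((localRing M).subtype.mapMatrix (T g)) from rfl,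
    Matrix.trace_toLin'_eq]
  simp [Matrix.trace]

theorem cplx_irr (hT : ∀ g, ((T g).trace : ℂ) = (χ : G → ℂ) g) : (cplx T).IsIrreducible := by
  obtain ⟨d, ρ, hρ, hρχ⟩ := exists_rep χ
  exact Clifford.Rep.isIrreducible_of_char ρ _ (by rw [cplx_char hT, hρχ])

theorem natCast_eq (hT : ∀ g, ((T g).trace : ℂ) = (χ : G → ℂ) g) :
    (n : ℂ) = (χ : G → ℂ) 1 := by
  rw [← hT 1, map_one, Matrix.trace_one, Fintype.card_fin]
  simp

/-- The centre acts by the scalars of the central character. -/
theorem center_scalar (hT : ∀ g, ((T g).trace : ℂ) = (χ : G → ℂ) g) {z : G}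
    (hz : z ∈ Subgroup.center G) :
    ∃ c : localRing M, T z = c • (1 : Matrix (Fin n) (Fin n) (localRing M)) ∧ (c : ℂ) = lam χ z := by
  haveI := cplx_irr hT
  obtain ⟨a, ha⟩ := Clifford.Rep.schur (cplx T) (cplx T z) (fun g => by
    rw [← map_mul, ← map_mul, Subgroup.mem_center_iff.1 hz g])
  have hn : (n : ℂ) ≠ 0 := natCast_eq hT ▸ apply_one_ne_zero χ
  have hn' : 0 < n := Nat.pos_of_ne_zero fun h0 => hn (by simp [h0])
  have hent : ∀ i j, ((T z i j : localRing M) : ℂ) = if i = j then a else 0 := by
    intro i j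
    have h1 := congrFun (LinearMap.congr_fun ha (Pi.single j 1)) i
    rw [cplx_apply, Matrix.mulVec_single_one] at h1
    simpa [Pi.single_apply, eq_comm] using h1
  refine ⟨T z ⟨0, hn'⟩ ⟨0, hn'⟩, ?_, ?_⟩
  · refine Matrix.ext fun i j => Subtype.ext ?_
    rw [Matrix.smul_apply, smul_eq_mul, Subring.coe_mul, hent, hent, if_pos rfl, Matrix.one_apply]
    split_ifs <;> simp
  · rw [hent, if_pos rfl, lam, ← natCast_eq hT, ← hT z, Matrix.trace]
    simp only [Matrix.diag_apply, AddSubmonoidClass.coe_finsetSum, hent, if_true, Finset.sum_const,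
      Finset.card_univ, Fintype.card_fin, nsmul_eq_mul]
    rw [mul_div_cancel_left₀ _ hn]

/-- A nonzero vector generates. -/
theorem span_eq_top (hT : ∀ g, ((T g).trace : ℂ) = (χ : G → ℂ) g) {w : Fin n → ℂ} (hw : w ≠ 0) :
    Submodule.span ℂ (Set.range fun g => cplx T g w) = ⊤ := by
  haveI := cplx_irr hT
  let U : Subrepresentation (cplx T) := ⟨Submodule.span ℂ (Set.range fun g => cplx T g w),
    fun a v hv => by
      induction hv using Submodule.span_induction with
      | mem y hy =>
        obtain ⟨b, rfl⟩ := hy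
        exact Submodule.subset_span ⟨a * b, by simp [map_mul, Module.End.mul_apply]⟩
      | zero => simp
      | add y y' _ _ h1 h2 => rw [map_add]; exact add_mem h1 h2
      | smul r y _ h1 => rw [map_smul]; exact Submodule.smul_mem _ _ h1⟩
  rcases eq_bot_or_eq_top U with hU | hU
  · refine absurd ?_ hw
    have h1 : w ∈ U.toSubmodule := Submodule.subset_span ⟨1, by simp⟩
    rw [congrArg Subrepresentation.toSubmodule hU] at h1
    exact (Submodule.mem_bot ℂ).1 h1
  · exact congrArg Subrepresentation.toSubmodule hU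

section Pair

variable {χ' : Cfsg.IrrCharacter G} {n' : ℕ} {T' : G →* Matrix (Fin n') (Fin n') (localRing M)}

/-- Two nonzero vectors for two different characters generate the sum. -/
theorem span_pair_eq_top (hT : ∀ g, ((T g).trace : ℂ) = (χ : G → ℂ) g)
    (hT' : ∀ g, ((T' g).trace : ℂ) = (χ' : G → ℂ) g) (hne : χ ≠ χ') {w : Fin n → ℂ} (hw : w ≠ 0)
    {w' : Fin n' → ℂ} (hw' : w' ≠ 0) :
    Submodule.span ℂ (Set.range fun g => (cplx T g w, cplx T' g w')) = ⊤ := by
  classical
  haveI := Fintype.ofFinite G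
  haveI := cplx_irr hT
  haveI := cplx_irr hT'
  set S := Submodule.span ℂ (Set.range fun g => (cplx T g w, cplx T' g w')) with hS
  -- the separating element
  have key : ∀ {m : ℕ} {U : G →* Matrix (Fin m) (Fin m) (localRing M)} {φ : Cfsg.IrrCharacter G},
      (∀ g, ((U g).trace : ℂ) = (φ : G → ℂ) g) → ∃ c : ℂ,
        (∑ g, conj ((χ : G → ℂ) g) • cplx U g) = c • (1 : Module.End ℂ (Fin m → ℂ)) ∧
          c * (φ : G → ℂ) 1 = (Nat.card G : ℂ) * Cfsg.classInner (φ : G → ℂ) (χ : G → ℂ) := by
    intro m U φ hU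
    haveI := cplx_irr hU
    obtain ⟨c, hc⟩ := Clifford.Rep.schur (cplx U) (∑ g, conj ((χ : G → ℂ) g) • cplx U g) (fun a => by
      rw [Finset.sum_mul, Finset.mul_sum]
      refine Fintype.sum_equiv (MulAut.conj a⁻¹).toEquiv _ _ fun g => ?_
      simp only [MulEquiv.toEquiv_eq_coe, EquivLike.coe_coe, MulAut.conj_apply, inv_inv,
        smul_mul_assoc, mul_smul_comm, ← map_mul]
      rw [show a * (a⁻¹ * g * a) = g * a by group]
      congr 2
      have := isClassFunction_irr χ (a⁻¹ * g * a) a
      simpa [mul_assoc] using this)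
    refine ⟨c, hc, ?_⟩
    have h1 := congrArg (LinearMap.trace ℂ (Fin m → ℂ)) hc
    rw [map_sum, map_smul, LinearMap.trace_one, Module.finrank_fin_fun, smul_eq_mul,
      natCast_eq hU] at h1
    rw [Cfsg.classInner, ← mul_assoc,
      mul_inv_cancel₀ (Nat.cast_ne_zero.2 Nat.card_pos.ne'), one_mul, ← h1]
    refine Finset.sum_congr rfl fun g _ => ?_
    rw [map_smul, smul_eq_mul, mul_comm, ← congrFun (cplx_char hU) g]
    rfl
  obtain ⟨c, hc, hc1⟩ := key hT
  obtain ⟨c', hc', hc1'⟩ := key hT'
  rw [classInner_irr_of_ne hne.symm, mul_zero] at hc1'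
  have hc'0 : c' = 0 := (mul_eq_zero.1 hc1').resolve_right (apply_one_ne_zero χ')
  have hc0 : c ≠ 0 := fun h0 => by
    rw [classInner_self_irr, mul_one, h0, zero_mul] at hc1
    exact Nat.cast_ne_zero.2 Nat.card_pos.ne' hc1.symm
  have hinv : ∀ a, ∀ v ∈ S, (cplx T a v.1, cplx T' a v.2) ∈ S := by
    intro a v hv
    induction hv using Submodule.span_induction with
    | mem y hy =>
      obtain ⟨b, rfl⟩ := hy
      exact Submodule.subset_span ⟨a * b, by simp [map_mul, Module.End.mul_apply]⟩
    | zero => simp only [Prod.fst_zero, Prod.snd_zero, map_zero]; exact zero_mem S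
    | add y y' _ _ h1 h2 => simpa using add_mem h1 h2
    | smul r y _ h1 => simpa using Submodule.smul_mem _ r h1
  have hself : (w, w') ∈ S := Submodule.subset_span ⟨1, by simp⟩
  have hfst : (w, (0 : Fin n' → ℂ)) ∈ S := by
    have h1 : ∑ g, conj ((χ : G → ℂ) g) • (cplx T g w, cplx T' g w') ∈ S :=
      Submodule.sum_mem _ fun g _ => Submodule.smul_mem _ _ (Submodule.subset_span ⟨g, rfl⟩)
    have e1 := LinearMap.congr_fun hc w
    have e2 := LinearMap.congr_fun hc' w'
    simp only [LinearMap.sum_apply, LinearMap.smul_apply, Module.End.one_apply] at e1 e2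
    rw [show ∑ g, conj ((χ : G → ℂ) g) • (cplx T g w, cplx T' g w') = (c • w, (0 : Fin n' → ℂ)) by
      refine Prod.ext ?_ ?_
      · simp [Prod.fst_sum, e1]
      · simp [Prod.snd_sum, e2, hc'0]] at h1
    have h2 := Submodule.smul_mem _ c⁻¹ h1
    rwa [Prod.smul_mk, smul_smul, inv_mul_cancel₀ hc0, one_smul, smul_zero] at h2
  have hsnd : ((0 : Fin n → ℂ), w') ∈ S := by
    have := sub_mem hself hfst
    simpa using this
  rw [eq_top_iff]
  rintro ⟨u, u'⟩ -
  have h1 : (u, (0 : Fin n' → ℂ)) ∈ S := by
    have hu : u ∈ Submodule.span ℂ (Set.range fun g => cplx T g w) := by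
      rw [span_eq_top hT hw]; trivial
    induction hu using Submodule.span_induction with
    | mem y hy =>
      obtain ⟨b, rfl⟩ := hy
      simpa using hinv b _ hfst
    | zero => exact zero_mem _
    | add y y' _ _ h1 h2 => simpa using add_mem h1 h2
    | smul r y _ h1 => simpa using Submodule.smul_mem _ r h1
  have h2 : ((0 : Fin n → ℂ), u') ∈ S := by
    have hu : u' ∈ Submodule.span ℂ (Set.range fun g => cplx T' g w') := by
      rw [span_eq_top hT' hw']; trivial
    induction hu using Submodule.span_induction with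
    | mem y hy =>
      obtain ⟨b, rfl⟩ := hy
      simpa using hinv b _ hsnd
    | zero => exact zero_mem _
    | add y y' _ _ h1 h2 => simpa using add_mem h1 h2
    | smul r y _ h1 => simpa using Submodule.smul_mem _ r h1
  simpa using add_mem h1 h2

end Pair

end Cfsg.Agent.Lib.FeitSmall.Affords
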