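import Cfsg.Agent.Lib.FeitSmall.Budget

/-!
# The bounds on the cyclotomic numbers

The budgets of the products of two members of the family of `ζ` and of the two halves of the
square of `ζ`, read as bounds for the coefficients of the products of two periods.
-/

set_option autoImplicit false
set_option linter.unusedSectionVars false
set_option linter.style.haveILetI false

namespace Cfsg.Agent.Lib.FeitSmall.Bounds

open Cfsg.Agent.Lib Cfsg.Agent.Lib.FirstPower Average Periods Cfsg.Agent.Lib.Characters.Basic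
open Family (pow_eq_one_of_order)
open Cfsg.Agent.Lib.DegSubTwo.Basic (lam lam_pow apply_mul_central)
open Setup Spikes Eigen Budget
open Cyclotomy (negc coef eta_mul_coef sum_coef cast_card_mul)

attribute [local instance] BlocksChars5.Basic.irrFintype

universe u

variable {p : ℕ} [Fact p.Prime] {G : Type u} [Group G] [Finite G] {x : G}
  {ζ : Cfsg.IrrCharacter G} {h : Hyp p x ζ} {s : G} {g : (ZMod p)ˣ} {μ : ℂ} {k : ℕ}

theorem bud_comb (a b : ℂ) (F F' : G → ℂ) (ν : ℂ) :
    bud h s ν (fun v => a * F v + b * F' v) = a * bud h s ν F + b * bud h s ν F' := by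
  simp only [bud, Finset.mul_sum, ← Finset.sum_add_distrib, mul_add]
  exact Finset.sum_congr rfl fun r _ => Finset.sum_congr rfl fun a' _ => by ring

/-- `-1` fuses `x` exactly when `e` is even. -/
theorem negc_eq_one_iff (h : Hyp p x ζ) :
    negc (ex h) = 1 ↔ Even (Fintype.card (ex h)) := by
  have hp : p.Prime := Fact.out
  have h2 : (2 : ZMod p) ≠ 0 := by
    intro h0
    have h1 : ((2 : ℕ) : ZMod p) = 0 := by exact_mod_cast h0
    rw [ZMod.natCast_eq_zero_iff] at h1
    have := Nat.le_of_dvd (by omega) h1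
    have := h.lt
    omega
  rw [negc, QuotientGroup.eq_one_iff, even_iff_two_dvd, ← Nat.card_eq_fintype_card]
  constructor
  · intro hm
    have ho : orderOf (⟨-1, hm⟩ : ex h) = 2 := by
      refine orderOf_eq_prime (Subtype.ext (by simp)) fun h1 => h2 ?_
      have h3 := congrArg (fun v : ex h => ((v : (ZMod p)ˣ) : ZMod p)) h1
      simp only [Units.val_neg, Units.val_one, OneMemClass.coe_one] at h3
      linear_combination -h3
    exact ho ▸ orderOf_dvd_natCard _
  · intro hd
    obtain ⟨⟨v, hv⟩, ho⟩ := exists_prime_orderOf_dvd_card' 2 hd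
    rw [← Subgroup.orderOf_coe] at ho
    have hsq : (v : ZMod p) * v = 1 := by
      rw [← Units.val_mul, ← sq, ← ho, pow_orderOf_eq_one, Units.val_one]
    rcases mul_self_eq_one_iff.1 hsq with h1 | h1
    · rw [Units.val_eq_one] at h1
      simp [h1] at ho
    · rwa [show v = -1 from Units.ext (by rw [h1, Units.val_neg, Units.val_one])] at hv

variable (st : Std h) (E : Eig h s g) (D : Dat h s μ k)

include st E D in
theorem omega_pow : (μ ^ 2 * (μ ^ k)⁻¹) ^ Fintype.card (ex h) = 1 := by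
  rw [mul_pow, ← pow_mul, mul_comm 2, pow_mul, inv_pow, ← pow_mul μ k, mul_comm k, pow_mul, D.mu,
    ← lam_pow ζ (pow_card_center E), ← lam_pow ζ (pow_card_center E), D.two _ (pow_card_center E),
    mul_inv_cancel₀]
  exact DegSubTwo.Basic.lam_ne_zero ζ ((Subgroup.center G).pow_mem (pow_card_center E) 2)

include st E D in
open scoped Classical in
theorem sum_omega : ∑ r ∈ Finset.Ico 1 (Fintype.card (ex h)), (μ ^ 2 * (μ ^ k)⁻¹) ^ r =
    (if μ ^ 2 * (μ ^ k)⁻¹ = 1 then (Fintype.card (ex h) : ℂ) else 0) - 1 := by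
  set ω := μ ^ 2 * (μ ^ k)⁻¹ with hω
  have h1 := Finset.sum_range_add_sum_Ico (fun r => ω ^ r)
    (show 1 ≤ Fintype.card (ex h) from Fintype.card_pos)
  rw [Finset.sum_range_one, pow_zero] at h1
  rw [eq_sub_iff_add_eq', h1]
  by_cases hw : ω = 1
  · simp [hw]
  · rw [if_neg hw, geom_sum_eq hw, omega_pow st E D, sub_self, zero_div]

include st in
theorem deg_eq : (Cfsg.charDegree (ζ : G → ℂ) : ℂ) = (p : ℂ) - Fintype.card (ex h) := by
  rw [eq_sub_iff_add_eq]
  exact_mod_cast st.deg

theorem regular_one : ¬ p ∣ orderOf (1 : G) := by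
  rw [orderOf_one]; exact (Fact.out : p.Prime).not_dvd_one

include st E D in
open scoped Classical in
/-- The budget of a product of two members of the family. -/
theorem bud_product {F : G → ℂ} (hF : ∀ a b : G, F (b * a * b⁻¹) = F a) (d : Cls h)
    (hval : ∀ u : (ZMod p)ˣ, F (x ^ (u : ZMod p).val) =
      ∑ q, (coef (ex h) d q : ℂ) * eta (ex h) (q * QuotientGroup.mk u))
    (hreg : ∀ a : G, ¬ p ∣ orderOf a → F a = (ζ : G → ℂ) a ^ 2) :
    bud h s (μ ^ k) F = (Fintype.card (Cls h) : ℂ) - 2 + (if d = negc (ex h) then 1 else 0) +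
      if μ ^ 2 * (μ ^ k)⁻¹ = 1 then 1 else 0 := by
  obtain ⟨hp0, he0, hpe⟩ := cast_ne_zero h
  have hte := cast_mul_card h
  rw [bud_eval E hF, hreg 1 regular_one, apply_one_zeta, deg_eq st]
  have hsum : ∑ u : (ZMod p)ˣ, F (x ^ (u : ZMod p).val) =
      -(Fintype.card (ex h) : ℂ) * ((∑ q, coef (ex h) d q : ℤ) : ℂ) := by
    simp only [hval]
    rw [Finset.sum_comm, Int.cast_sum, Finset.mul_sum]
    exact Finset.sum_congr rfl fun q _ => by rw [← Finset.mul_sum, sum_units_eta]; ring
  have hrs : ∀ r ∈ Finset.Ico 1 (Fintype.card (ex h)),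
      (μ ^ k)⁻¹ ^ r * F (s ^ r) = (μ ^ 2 * (μ ^ k)⁻¹) ^ r := by
    intro r hr
    rw [Finset.mem_Ico] at hr
    rw [hreg _ fun hd => E.reg (hd.trans (orderOf_pow_dvd r)), D.val r fun hd => by
      have := Nat.le_of_dvd (by omega) hd
      omega]
    ring
  rw [hsum, Finset.sum_congr rfl hrs, sum_omega st E D, sum_coef, Nat.cast_mul]
  rw [← hte] at hp0 ⊢
  field_simp
  split_ifs <;> push_cast <;> ring

include st E D in
open scoped Classical in
/-- The budget of `a ↦ ζ (a * a)`. -/
theorem bud_square {two : (ZMod p)ˣ} (htwo : (two : ZMod p) = 2) :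
    bud h s (μ ^ k) (fun a => (ζ : G → ℂ) (a * a)) =
      (if μ ^ 2 * (μ ^ k)⁻¹ = 1 then 1 else 0) +
        if Even (Fintype.card (ex h)) then ((Fintype.card (Cls h) : ℂ) - 1) *
          (μ ^ 2 * (μ ^ k)⁻¹) ^ (Fintype.card (ex h) / 2) else 0 := by
  set ω := μ ^ 2 * (μ ^ k)⁻¹ with hω
  obtain ⟨hp0, he0, hpe⟩ := cast_ne_zero h
  have hte := cast_mul_card h
  have hF : ∀ a b : G, (fun a => (ζ : G → ℂ) (a * a)) (b * a * b⁻¹) =
      (fun a => (ζ : G → ℂ) (a * a)) a := by
    intro a b
    simp only [show b * a * b⁻¹ * (b * a * b⁻¹) = b * (a * a) * b⁻¹ by group]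
    exact isClassFunction_irr ζ _ _
  rw [bud_eval E hF]
  simp only [mul_one, apply_one_zeta]
  have hsum : ∑ u : (ZMod p)ˣ, (ζ : G → ℂ) (x ^ (u : ZMod p).val * x ^ (u : ZMod p).val) =
      (Fintype.card (ex h) : ℂ) := by
    rw [← neg_neg (Fintype.card (ex h) : ℂ), ← sum_units_eta h (QuotientGroup.mk two),
      ← Finset.sum_neg_distrib]
    refine Finset.sum_congr rfl fun u _ => ?_
    rw [← pow_val_add (pow_eq_one_of_order h.ord), ← two_mul, ← htwo, ← Units.val_mul, value st,
      QuotientGroup.mk_mul]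
  have hrs : ∀ r ∈ Finset.Ico 1 (Fintype.card (ex h)),
      (μ ^ k)⁻¹ ^ r * (ζ : G → ℂ) (s ^ r * s ^ r) = ω ^ r +
        if 2 * r = Fintype.card (ex h) then
          ((Cfsg.charDegree (ζ : G → ℂ) : ℂ) - 1) * ω ^ r else 0 := by
    intro r hr
    rw [Finset.mem_Ico] at hr
    rw [← pow_add]
    by_cases h2 : 2 * r = Fintype.card (ex h)
    · rw [if_pos h2, show r + r = Fintype.card (ex h) by omega,
        ← one_mul (s ^ Fintype.card (ex h)), apply_mul_central ζ (pow_card_center E), ← D.mu,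
        apply_one_zeta, ← show r + r = Fintype.card (ex h) by omega, hω]
      ring
    · rw [if_neg h2, D.val (r + r) (fun hd => by
        obtain ⟨j, hj⟩ := hd
        rcases j with _ | _ | j
        · omega
        · omega
        · have : Fintype.card (ex h) * 2 ≤ Fintype.card (ex h) * (j + 1 + 1) :=
            Nat.mul_le_mul_left _ (by omega)
          omega), hω]
      ring
  rw [hsum, Finset.sum_congr rfl hrs, Finset.sum_add_distrib, sum_omega st E D, deg_eq st,
    Nat.cast_mul]
  have hmid : ∑ r ∈ Finset.Ico 1 (Fintype.card (ex h)),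
      (if 2 * r = Fintype.card (ex h) then
        ((p : ℂ) - Fintype.card (ex h) - 1) * ω ^ r else 0) =
      if Even (Fintype.card (ex h)) then
        ((p : ℂ) - Fintype.card (ex h) - 1) * ω ^ (Fintype.card (ex h) / 2) else 0 := by
    have := st.two_le_card
    by_cases hev : Even (Fintype.card (ex h))
    · obtain ⟨j, hj⟩ := id hev
      rw [if_pos hev, Finset.sum_eq_single j]
      · rw [if_pos (by omega), show Fintype.card (ex h) / 2 = j by omega]
      · intro r _ hr
        rw [if_neg (by omega)]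
      · intro hj'
        rw [Finset.mem_Ico] at hj'
        omega
    · rw [if_neg hev]
      exact Finset.sum_eq_zero fun r _ => if_neg fun h2 => hev ⟨r, by omega⟩
  rw [hmid, ← hω, ← hte]
  rw [← hte] at hp0
  field_simp
  split_ifs <;> ring

include st E D in
open scoped Classical in
/-- The bound from a product. -/
theorem exists_prod_bound (d : Cls h) :
    ∃ A : ℤ, (∀ q, coef (ex h) d q ≤ A) ∧
      (Fintype.card (Cls h) : ℤ) * A - ∑ q, coef (ex h) d q ≤
        (Fintype.card (Cls h) : ℤ) - 1 + if d = negc (ex h) then 1 else 0 := by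
  obtain ⟨F, hF, hcen, hval, hreg⟩ := exists_prod st d
  obtain ⟨M, A, R, hM, hB⟩ := exists_decomp st E D hF hcen
  have hc : coef (ex h) d = fun q => A - (M q : ℤ) :=
    coord_unique h fun u => (hval u).symm.trans (hM u)
  refine ⟨A, fun q => by rw [hc]; simp, ?_⟩
  rw [bud_product st E D (isClassFunction_of_isCharacter hF) d hval hreg] at hB
  have hB' : (Fintype.card (Cls h) : ℤ) - 2 + (if d = negc (ex h) then 1 else 0) +
      (if μ ^ 2 * (μ ^ k)⁻¹ = 1 then 1 else 0) = (((∑ q, M q) + R : ℕ) : ℤ) := by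
    refine Int.cast_injective (α := ℂ) ?_
    push_cast
    rw [hB]
    push_cast
    rfl
  rw [hc]
  simp only [Finset.sum_sub_distrib, Finset.sum_const, Finset.card_univ, nsmul_eq_mul]
  push_cast at hB'
  split_ifs at hB' ⊢ <;> linarith [Int.natCast_nonneg R]

include st E D in
open scoped Classical in
/-- The bounds from the two halves of the square. -/
theorem exists_half_bound {two : (ZMod p)ˣ} (htwo : (two : ZMod p) = 2) :
    ∃ AS AL : ℤ,
      (∀ q, coef (ex h) 1 q - (if q = QuotientGroup.mk two then 1 else 0) ≤ 2 * AS) ∧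
      (∀ q, coef (ex h) 1 q + (if q = QuotientGroup.mk two then 1 else 0) ≤ 2 * AL) ∧
      (Even (Fintype.card (ex h)) →
        ((Fintype.card (Cls h) : ℤ) * (2 * AL) - (∑ q, coef (ex h) 1 q) - 1 ≤ 0) ∨
        ((Fintype.card (Cls h) : ℤ) * (2 * AS) - (∑ q, coef (ex h) 1 q) + 1 ≤ 0)) ∧
      (¬ Even (Fintype.card (ex h)) →
        ((Fintype.card (Cls h) : ℤ) * (2 * AL) - (∑ q, coef (ex h) 1 q) - 1 ≤
          (Fintype.card (Cls h) : ℤ) - 2) ∧
        ((Fintype.card (Cls h) : ℤ) * (2 * AS) - (∑ q, coef (ex h) 1 q) + 1 ≤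
          (Fintype.card (Cls h) : ℤ))) := by
  obtain ⟨L, hL, hLv⟩ := DegSubTwo.CharRange.exists_altChar (isCharacter_irr ζ)
  obtain ⟨S, hS, hSv⟩ := SymChar.exists_symChar (isCharacter_irr ζ)
  have hcen : ∀ (c : ℂ) (W : G → ℂ),
      (∀ v, 2 * W v = (ζ : G → ℂ) v ^ 2 + c * (ζ : G → ℂ) (v * v)) →
      ∀ a, ∀ z ∈ Subgroup.center G, W (a * z) = lam ζ z ^ 2 * W a := by
    intro c W hW a z hz
    refine mul_left_cancel₀ (two_ne_zero : (2 : ℂ) ≠ 0) ?_
    rw [hW, mul_left_comm, hW, apply_mul_central ζ hz,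
      show a * z * (a * z) = a * a * (z * z) by
        rw [mul_assoc, ← mul_assoc z, ← Subgroup.mem_center_iff.1 hz a, ← mul_assoc, ← mul_assoc,
          ← mul_assoc],
      apply_mul_central ζ ((Subgroup.center G).mul_mem hz hz), ← sq z, lam_pow ζ hz]
    ring
  have hLv' : ∀ v, 2 * L v = (ζ : G → ℂ) v ^ 2 + (-1) * (ζ : G → ℂ) (v * v) := fun v => by
    rw [hLv]; ring
  have hSv' : ∀ v, 2 * S v = (ζ : G → ℂ) v ^ 2 + 1 * (ζ : G → ℂ) (v * v) := fun v => by
    rw [hSv]; ring
  have hdbl : ∀ u : (ZMod p)ˣ, (ζ : G → ℂ) (x ^ (u : ZMod p).val * x ^ (u : ZMod p).val) =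
      -eta (ex h) (QuotientGroup.mk two * QuotientGroup.mk u) := fun u => by
    rw [← pow_val_add (pow_eq_one_of_order h.ord), ← two_mul, ← htwo, ← Units.val_mul, value st,
      QuotientGroup.mk_mul]
  have hsqv : ∀ u : (ZMod p)ˣ, (fun v => (ζ : G → ℂ) v ^ 2) (x ^ (u : ZMod p).val) =
      ∑ q, (coef (ex h) 1 q : ℂ) * eta (ex h) (q * QuotientGroup.mk u) := fun u => by
    rw [← eta_mul_coef, mul_one]
    simp only [value st]
    ring
  have hK := bud_product st E D (F := fun v => (ζ : G → ℂ) v ^ 2)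
    (fun a b => congrArg (· ^ 2) (isClassFunction_irr ζ a b)) 1 hsqv fun a _ => rfl
  have hQ := bud_square st E D htwo
  -- one half
  have hhalf : ∀ (c : ℤ) (W : G → ℂ), Cfsg.IsCharacter G W →
      (∀ v, 2 * W v = (ζ : G → ℂ) v ^ 2 + (c : ℂ) * (ζ : G → ℂ) (v * v)) →
      ∃ (A : ℤ) (N : ℕ),
        (∀ q, coef (ex h) 1 q - c * (if q = QuotientGroup.mk two then 1 else 0) ≤ 2 * A) ∧
        (Fintype.card (Cls h) : ℤ) * (2 * A) - (∑ q, coef (ex h) 1 q) + c ≤ 2 * (N : ℤ) ∧
        2 * (N : ℂ) = bud h s (μ ^ k) (fun v => (ζ : G → ℂ) v ^ 2) +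
          (c : ℂ) * bud h s (μ ^ k) (fun v => (ζ : G → ℂ) (v * v)) := by
    intro c W hW hWv
    obtain ⟨M, A, R, hM, hB⟩ := exists_decomp st E D hW (hcen _ W hWv)
    have hc : (fun q => 2 * (A - (M q : ℤ))) =
        fun q => coef (ex h) 1 q - c * (if q = QuotientGroup.mk two then 1 else 0) := by
      refine coord_unique h fun u => ?_
      have e1 : ∑ q, ((2 * (A - (M q : ℤ)) : ℤ) : ℂ) * eta (ex h) (q * QuotientGroup.mk u) =
          2 * W (x ^ (u : ZMod p).val) := by
        rw [hM, Finset.mul_sum]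
        exact Finset.sum_congr rfl fun q _ => by push_cast; ring
      have e2 : ∑ q, ((c * (if q = QuotientGroup.mk two then 1 else 0) : ℤ) : ℂ) *
          eta (ex h) (q * QuotientGroup.mk u) =
          (c : ℂ) * eta (ex h) (QuotientGroup.mk two * QuotientGroup.mk u) := by
        rw [Finset.sum_eq_single (QuotientGroup.mk two : Cls h)]
        · simp
        · intro q _ hq
          simp [hq]
        · simp
      simp only [Int.cast_sub _ _, sub_mul] at e1 e2 ⊢
      rw [e1, Finset.sum_sub_distrib, e2, hWv, hdbl, show (ζ : G → ℂ) (x ^ (u : ZMod p).val) ^ 2 =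
        (fun v => (ζ : G → ℂ) v ^ 2) (x ^ (u : ZMod p).val) from rfl, hsqv]
      ring
    refine ⟨A, (∑ q, M q) + R, fun q => ?_, ?_, ?_⟩
    · have h1 := congrFun hc q
      rw [← h1]
      have : (0 : ℤ) ≤ M q := Int.natCast_nonneg _
      omega
    · have h1 := congrArg (fun f : Cls h → ℤ => ∑ q, f q) hc
      simp only [← Finset.mul_sum, Finset.sum_sub_distrib, Finset.sum_const, Finset.card_univ,
        nsmul_eq_mul, Finset.sum_ite_eq', Finset.mem_univ, if_true] at h1
      push_cast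
      linarith [Int.natCast_nonneg R]
    · rw [← hB, show 2 * bud h s (μ ^ k) W = bud h s (μ ^ k) (fun v => 2 * W v + 0 * W v) by
        rw [bud_comb]; ring, show (fun v => 2 * W v + 0 * W v) =
        fun v => 1 * (ζ : G → ℂ) v ^ 2 + (c : ℂ) * (ζ : G → ℂ) (v * v) from
        funext fun v => by rw [hWv]; ring, bud_comb, one_mul]
  obtain ⟨AL, NL, hAL, hAL', hNL⟩ := hhalf (-1) L hL fun v => by rw [hLv' v]; norm_num
  obtain ⟨AS, NS, hAS, hAS', hNS⟩ := hhalf 1 S hS fun v => by rw [hSv' v]; norm_num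
  rw [hK, hQ] at hNL hNS
  refine ⟨AS, AL, fun q => by have := hAS q; rwa [one_mul] at this,
    fun q => by have := hAL q; rw [neg_one_mul, sub_neg_eq_add] at this; exact this,
    fun hev => ?_, fun hodd => ?_⟩
  · set ω := μ ^ 2 * (μ ^ k)⁻¹ with hω
    set e := Fintype.card (ex h) with he
    have hθ : (1 : Cls h) = negc (ex h) := ((negc_eq_one_iff h).2 hev).symm
    rw [if_pos hθ, if_pos hev] at hNL hNS
    have hw : ω ^ (e / 2) * ω ^ (e / 2) = 1 := by
      rw [← pow_add]
      obtain ⟨j, hj⟩ := hev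
      rw [show e / 2 + e / 2 = e by omega]
      exact omega_pow st E D
    rcases mul_self_eq_one_iff.1 hw with h1 | h1
    · left
      rw [h1] at hNL
      have h2 : (2 : ℂ) * NL = 0 := by rw [hNL]; push_cast; ring
      have h3 : NL = 0 := by exact_mod_cast (mul_eq_zero.1 h2).resolve_left two_ne_zero
      rw [h3] at hAL'
      push_cast at hAL'
      linarith
    · right
      have hne : ω ≠ 1 := fun h2 => by
        rw [h2, one_pow] at h1
        norm_num at h1
      rw [h1, if_neg hne] at hNS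
      have h2 : (2 : ℂ) * NS = 0 := by rw [hNS]; push_cast; ring
      have h3 : NS = 0 := by exact_mod_cast (mul_eq_zero.1 h2).resolve_left two_ne_zero
      rw [h3] at hAS'
      push_cast at hAS'
      linarith
  · rw [if_neg fun h' => hodd ((negc_eq_one_iff h).1 h'.symm), if_neg hodd] at hNL hNS
    have h1 : 2 * (NL : ℤ) = (Fintype.card (Cls h) : ℤ) - 2 := by
      refine Int.cast_injective (α := ℂ) ?_
      push_cast
      rw [hNL]
      push_cast
      ring
    have h2 : 2 * (NS : ℤ) ≤ (Fintype.card (Cls h) : ℤ) := by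
      by_cases hw : μ ^ 2 * (μ ^ k)⁻¹ = 1
      · rw [if_pos hw] at hNS
        refine le_of_eq (Int.cast_injective (α := ℂ) ?_)
        push_cast
        rw [hNS]
        push_cast
        ring
      · rw [if_neg hw] at hNS
        have : 2 * (NS : ℤ) = (Fintype.card (Cls h) : ℤ) - 2 := by
          refine Int.cast_injective (α := ℂ) ?_
          push_cast
          rw [hNS]
          push_cast
          ring
        omega
    exact ⟨by linarith, by linarith⟩

end Cfsg.Agent.Lib.FeitSmall.Bounds
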