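import Cfsg.Agent.Lib.FeitSmall.Slice
import Cfsg.Agent.Lib.FeitSmall.Bounds

/-!
# The alternating square

With `e` odd the alternating square of `ζ` vanishes on the powers of `s` outside the multiples of
`e`, so every eigenvalue of `s` occurs `(t - 2) / 2` times on the fixed points of `x` in it, while
its coordinates add up to `(e + 1) / 2`.  Hence `e + 1 ≠ t`.
-/

set_option autoImplicit false
set_option linter.unusedSectionVars false
set_option linter.style.haveILetI false

namespace Cfsg.Agent.Lib.FeitSmall.Alt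

open Cfsg.Agent.Lib Cfsg.Agent.Lib.FirstPower Average Periods Cfsg.Agent.Lib.Characters.Basic
open Family (pow_eq_one_of_order)
open Cfsg.Agent.Lib.DegSubTwo.Basic (lam lam_pow apply_mul_central lam_ne_zero lam_mul_conj)
open Setup Spikes Eigen Budget Slice
open Cyclotomy (negc coef eta_mul_coef sum_coef)
open scoped ComplexConjugate

attribute [local instance] BlocksChars5.Basic.irrFintype

universe u

variable {p : ℕ} [Fact p.Prime] {G : Type u} [Group G] [Finite G] {x : G}
  {ζ : Cfsg.IrrCharacter G} {h : Hyp p x ζ} {s : G} {g : (ZMod p)ˣ}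

/-- The constituents have the central character of the character. -/
theorem lam_constituent [Fintype G] {F : G → ℂ} {L : G → ℂ} {χ : Cfsg.IrrCharacter G}
    (hcen : ∀ a, ∀ z ∈ Subgroup.center G, F (a * z) = L z * F a)
    (hne : Cfsg.classInner F (χ : G → ℂ) ≠ 0) {z : G} (hz : z ∈ Subgroup.center G) :
    lam χ z = L z := by
  have h1 : Cfsg.classInner F (χ : G → ℂ) =
      L z * conj (lam χ z) * Cfsg.classInner F (χ : G → ℂ) := by
    rw [Cfsg.classInner, mul_left_comm (L z * conj (lam χ z))]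
    congr 1
    rw [Finset.mul_sum]
    refine (Fintype.sum_equiv (Equiv.mulRight z) _ _ fun a => ?_).symm
    rw [Equiv.coe_mulRight, hcen a z hz, apply_mul_central χ hz, map_mul]
    ring
  have h2 : L z * conj (lam χ z) = 1 := mul_right_cancel₀ hne (h1.symm.trans (one_mul _).symm)
  calc lam χ z = L z * conj (lam χ z) * lam χ z := by rw [h2, one_mul]
    _ = L z := by rw [mul_assoc, mul_comm (conj _), lam_mul_conj χ hz, mul_one]

theorem sum_units_crd (h : Hyp p x ζ) (χ : Cfsg.IrrCharacter G) :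
    ∑ u : (ZMod p)ˣ, (χ : G → ℂ) (x ^ (u : ZMod p).val) =
      -(Fintype.card (ex h) : ℂ) * ((∑ q, crd h χ q : ℤ) : ℂ) := by
  simp only [crd_val h]
  rw [Finset.sum_comm, Int.cast_sum, Finset.mul_sum]
  exact Finset.sum_congr rfl fun q _ => by rw [← Finset.mul_sum, sum_units_eta]; ring

open scoped Classical in
theorem not_pred (st : Std h) (E : Eig h s g) (ho : ¬ Even (Fintype.card (ex h))) :
    Fintype.card (ex h) + 1 ≠ Fintype.card (Cls h) := by
  intro het
  set e := Fintype.card (ex h) with he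
  set t := Fintype.card (Cls h) with ht
  have hp := h.lt
  have he2 := st.two_le_card
  rw [← he] at he2
  obtain ⟨μ, hμ, hval⟩ := exists_mu st E
  obtain ⟨W, hW, hWv⟩ := DegSubTwo.CharRange.exists_altChar (isCharacter_irr ζ)
  have hW2 : ∀ v, 2 * W v = (ζ : G → ℂ) v ^ 2 - (ζ : G → ℂ) (v * v) := fun v => by
    rw [hWv]
  obtain ⟨hp0, he0, hpe⟩ := cast_ne_zero h
  have hte := cast_mul_card h
  rw [← he, ← ht] at hte
  have hdeg : (Cfsg.charDegree (ζ : G → ℂ) : ℂ) + (e : ℂ) = p := by exact_mod_cast st.deg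
  -- its values
  have htwo : (2 : ZMod p) ≠ 0 := by
    intro h0
    have h1 : ((2 : ℕ) : ZMod p) = 0 := by exact_mod_cast h0
    rw [ZMod.natCast_eq_zero_iff] at h1
    have := Nat.le_of_dvd (by omega) h1
    omega
  have hθ : (1 : Cls h) ≠ negc (ex h) := fun h' =>
    ho ((Bounds.negc_eq_one_iff h).1 h'.symm)
  have hsumW : 2 * ∑ u : (ZMod p)ˣ, W (x ^ (u : ZMod p).val) = -(e : ℂ) * e - e := by
    rw [Finset.mul_sum]
    simp only [hW2, Finset.sum_sub_distrib]
    congr 1
    · have h1 : ∀ u : (ZMod p)ˣ, (ζ : G → ℂ) (x ^ (u : ZMod p).val) ^ 2 =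
          ∑ q, (coef (ex h) 1 q : ℂ) * eta (ex h) (q * QuotientGroup.mk u) := fun u => by
        rw [← eta_mul_coef, mul_one, value st]
        ring
      simp only [h1]
      rw [Finset.sum_comm, Finset.sum_congr rfl fun q _ => show
          ∑ u : (ZMod p)ˣ, (coef (ex h) 1 q : ℂ) * eta (ex h) (q * QuotientGroup.mk u) =
            -(e : ℂ) * ((coef (ex h) 1 q : ℤ) : ℂ) by
          rw [← Finset.mul_sum, sum_units_eta, ← he]; ring,
        ← Finset.mul_sum, ← Int.cast_sum, sum_coef, if_neg hθ, sub_zero, ← he, Int.cast_natCast]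
    · have hU := sum_units_eta h (QuotientGroup.mk (Units.mk0 2 htwo))
      rw [← he] at hU
      rw [← neg_neg (e : ℂ), ← hU,
        ← Finset.sum_neg_distrib]
      refine Finset.sum_congr rfl fun u _ => ?_
      have hU2 : (2 : ZMod p) * (u : ZMod p) = ((Units.mk0 2 htwo * u : (ZMod p)ˣ) : ZMod p) := rfl
      rw [← pow_val_add (pow_eq_one_of_order h.ord), ← two_mul, hU2, value st,
        QuotientGroup.mk_mul]
  have hcen : ∀ a, ∀ z ∈ Subgroup.center G, W (a * z) = lam ζ z ^ 2 * W a := by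
    intro a z hz
    refine mul_left_cancel₀ (two_ne_zero : (2 : ℂ) ≠ 0) ?_
    rw [hW2, mul_left_comm, hW2, apply_mul_central ζ hz,
      show a * z * (a * z) = a * a * (z * z) by
        rw [mul_assoc, ← mul_assoc z, ← Subgroup.mem_center_iff.1 hz a, ← mul_assoc, ← mul_assoc,
          ← mul_assoc],
      apply_mul_central ζ ((Subgroup.center G).mul_mem hz hz), ← sq z, lam_pow ζ hz]
    ring
  -- its decomposition
  haveI := Fintype.ofFinite G
  choose m hm using fun χ : Cfsg.IrrCharacter G => exists_classInner_nat hW (isCharacter_irr χ)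
  have hexp : ∀ a, W a = ∑ χ : Cfsg.IrrCharacter G, (m χ : ℂ) * (χ : G → ℂ) a := fun a => by
    conv_lhs => rw [character_eq_finsum hW, finsum_eq_sum_of_fintype]
    simp only [Finset.sum_apply, Pi.smul_apply, smul_eq_mul, hm]
  obtain ⟨χ₀, hχ₀⟩ : ∃ χ, m χ ≠ 0 := by
    by_contra hcon
    push Not at hcon
    have h1 := hW2 1
    rw [hexp, Finset.sum_eq_zero fun χ _ => by simp [hcon χ], mul_zero, mul_one,
      apply_one_zeta] at h1
    have h2 : Cfsg.charDegree (ζ : G → ℂ) * Cfsg.charDegree (ζ : G → ℂ) =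
        Cfsg.charDegree (ζ : G → ℂ) := by
      have h3 : ((Cfsg.charDegree (ζ : G → ℂ) : ℂ)) ^ 2 = (Cfsg.charDegree (ζ : G → ℂ) : ℂ) :=
        sub_eq_zero.1 h1.symm
      rw [sq] at h3
      exact_mod_cast h3
    have := le_deg h
    nlinarith
  have hlam : ∀ χ, m χ ≠ 0 → ∀ z ∈ Subgroup.center G, lam χ z = lam ζ z ^ 2 :=
    fun χ hχ z hz => lam_constituent (L := fun z => lam ζ z ^ 2) hcen
      (by rw [hm]; exact Nat.cast_ne_zero.2 hχ) hz
  have hsupp : ∀ χ, χ ∉ slice h (lam χ₀) → m χ = 0 := fun χ hχ => by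
    by_contra hne
    exact hχ ((mem_slice h).2 fun z hz => (hlam χ hne z hz).trans (hlam χ₀ hχ₀ z hz).symm)
  obtain ⟨Y, δ, F⟩ := exists_family h st.three χ₀
  obtain ⟨ν, hν, hNY⟩ := exists_weight F st.three s (μ ^ 2)
  have hνe : ν ^ e = lam χ₀ (s ^ e) := by
    rw [he, hν, ← he, ← pow_mul, mul_comm, pow_mul, hμ, ← he, hlam χ₀ hχ₀ _ (pow_card_center E)]
  have hνne : ν ≠ 0 := by
    intro h0
    rw [h0, zero_pow (by omega)] at hνe
    exact lam_ne_zero χ₀ (pow_card_center E) hνe.symm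
  have hbudW : 2 * bud h s ν W = (t : ℂ) - 2 := by
    rw [bud_eval E (isClassFunction_of_isCharacter hW)]
    have hrs : ∀ r ∈ Finset.Ico 1 e, ν⁻¹ ^ r * W (s ^ r) = 0 := by
      intro r hr
      rw [Finset.mem_Ico] at hr
      have h2 : 2 * W (s ^ r) = 0 := by
        rw [hW2, ← pow_add, hval r (fun hd => by
          have := Nat.le_of_dvd (by omega) hd
          omega), hval (r + r) (fun hd => by
          obtain ⟨j, hj⟩ := hd
          rw [← he] at hj
          rcases j with _ | _ | j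
          · omega
          · exact ho ⟨r, by omega⟩
          · have : e * 2 ≤ e * (j + 1 + 1) := Nat.mul_le_mul_left _ (by omega)
            omega)]
        ring
      rw [(mul_eq_zero.1 h2).resolve_left two_ne_zero, mul_zero]
    rw [← he, Finset.sum_eq_zero hrs, mul_zero, add_zero, mul_left_comm, mul_add, hW2, hsumW,
      mul_one, apply_one_zeta, show (Cfsg.charDegree (ζ : G → ℂ) : ℂ) = (p : ℂ) - e from
        eq_sub_iff_add_eq.2 hdeg, Nat.cast_mul]
    rw [← he] at he0
    rw [← hte] at hp0 ⊢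
    field_simp
    ring
  choose N hN using fun χ : slice h (lam χ₀) => exists_bud_nat E (χ : Cfsg.IrrCharacter G)
    (ν := ν) (by rw [← he, hνe, (mem_slice h).1 χ.2 _ (pow_card_center E)])
  -- the slice splits into the family and the rest
  have hexp' : ∀ a, W a = ∑ χ : slice h (lam χ₀),
      (m (χ : Cfsg.IrrCharacter G) : ℂ) * ((χ : Cfsg.IrrCharacter G) : G → ℂ) a := fun a => by
    rw [hexp, Finset.sum_coe_sort (slice h (lam χ₀)) fun χ => (m χ : ℂ) * (χ : G → ℂ) a]
    exact (Finset.sum_subset (Finset.subset_univ _) fun χ _ hχ => by simp [hsupp χ hχ]).symm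
  set C : ℤ := ∑ χ : slice h (lam χ₀), (m (χ : Cfsg.IrrCharacter G) : ℤ) * ∑ q, crd h χ q with hC
  have h2C : 2 * C = (e : ℤ) + 1 := by
    have h1 : ∑ u : (ZMod p)ˣ, W (x ^ (u : ZMod p).val) = -(e : ℂ) * (C : ℂ) := by
      simp only [hexp']
      rw [Finset.sum_comm, hC, Int.cast_sum, Finset.mul_sum]
      refine Finset.sum_congr rfl fun χ _ => ?_
      rw [← Finset.mul_sum, sum_units_crd h, Int.cast_mul, Int.cast_natCast, ← he]
      ring
    refine Int.cast_injective (α := ℂ) ?_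
    rw [← he] at he0
    refine mul_left_cancel₀ (neg_ne_zero.2 he0) ?_
    push_cast
    linear_combination hsumW - 2 * h1
  have hbud : ((∑ χ : slice h (lam χ₀), m (χ : Cfsg.IrrCharacter G) * N χ : ℕ) : ℂ) =
      bud h s ν W := by
    rw [funext hexp', bud_sum Finset.univ (fun χ : slice h (lam χ₀) =>
      (m (χ : Cfsg.IrrCharacter G) : ℂ)) fun χ => ((χ : Cfsg.IrrCharacter G) : G → ℂ)]
    push_cast
    exact Finset.sum_congr rfl fun χ _ => by rw [hN]
  set S : Finset (slice h (lam χ₀)) :=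
    Finset.univ.filter fun χ => ∃ κ, Y κ = (χ : Cfsg.IrrCharacter G) with hS
  have hNS : ∀ χ ∈ S, 1 ≤ N χ := by
    intro χ hχ
    obtain ⟨κ, hκ⟩ := (Finset.mem_filter.1 hχ).2
    have h1 := hN χ
    rw [← hκ, bud_eq E F] at h1
    refine Nat.one_le_iff_ne_zero.2 fun h0 => hNY ?_
    rw [h1, h0, Nat.cast_zero]
  have hMle : ∑ χ ∈ S, m (χ : Cfsg.IrrCharacter G) ≤
      ∑ χ : slice h (lam χ₀), m (χ : Cfsg.IrrCharacter G) * N χ :=
    (Finset.sum_le_sum fun χ hχ => Nat.le_mul_of_pos_right _ (hNS χ hχ)).trans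
      (Finset.sum_le_sum_of_subset (Finset.subset_univ _))
  set K : ℕ := ∑ χ : slice h (lam χ₀), m (χ : Cfsg.IrrCharacter G) * N χ with hK
  have hK2 : 2 * K + 2 = t := by
    have h1 : ((2 * K + 2 : ℕ) : ℂ) = (t : ℂ) := by
      push_cast
      rw [hbud, hbudW]
      ring
    exact_mod_cast h1
  set A : ℤ := ∑ χ ∈ Sᶜ, (m (χ : Cfsg.IrrCharacter G) : ℤ) * crd h χ 1 with hA
  have hsplit : C = δ * (∑ χ ∈ S, m (χ : Cfsg.IrrCharacter G) : ℕ) + (t : ℤ) * A := by
    rw [hC, ← Finset.sum_add_sum_compl S, hA, Finset.mul_sum]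
    push_cast
    rw [Finset.mul_sum]
    congr 1
    · refine Finset.sum_congr rfl fun χ hχ => ?_
      obtain ⟨κ, hκ⟩ := (Finset.mem_filter.1 hχ).2
      simp [← hκ, F.val, mul_comm]
    · refine Finset.sum_congr rfl fun χ hχ => ?_
      have hc := (F.rest _ χ.2).resolve_left fun hk =>
        Finset.mem_compl.1 hχ (Finset.mem_filter.2 ⟨Finset.mem_univ _, hk⟩)
      rw [Finset.sum_congr rfl fun q _ => hc q 1, Finset.sum_const, Finset.card_univ,
        nsmul_eq_mul, ← ht]
      ring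
  rw [hsplit, show (e : ℤ) + 1 = t by exact_mod_cast het] at h2C
  set M : ℕ := ∑ χ ∈ S, m (χ : Cfsg.IrrCharacter G)
  have hM : (2 : ℤ) * M < t := by omega
  have htA : (t : ℤ) * (1 - 2 * A) = 2 * δ * M := by linarith
  have hlt : |(t : ℤ) * (1 - 2 * A)| < t := by
    rw [htA, abs_mul, abs_mul]
    rcases F.sign with h' | h' <;> simp [h'] <;> omega
  rw [abs_mul, Nat.abs_cast] at hlt
  have h1 : |1 - 2 * A| < 1 := by
    by_contra hge
    push Not at hge
    have := mul_le_mul_of_nonneg_left hge (show (0 : ℤ) ≤ t by omega)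
    linarith
  have := abs_lt.1 h1
  omega

end Cfsg.Agent.Lib.FeitSmall.Alt
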