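import Cfsg.Agent.Lib.DegSubTwo.CharRange

/-!
# The symmetric square of a character
-/

set_option autoImplicit false

namespace Cfsg.Agent.Lib.FeitSmall.SymChar

open scoped Kronecker
open Cfsg.Agent.Lib.Induced.Basic Cfsg.Agent.Lib.Characters.Basic
open Cfsg.Agent.Lib.DegSubTwo.CharRange

universe u

variable {G : Type u} [Group G]

/-- The symmetric square. -/
theorem exists_symChar {χ : G → ℂ} (hχ : Cfsg.IsCharacter G χ) :
    ∃ A : G → ℂ, Cfsg.IsCharacter G A ∧ ∀ g, 2 * A g = χ g ^ 2 + χ (g * g) := by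
  classical
  obtain ⟨n, ρ, rfl⟩ := hχ
  let L : G →* Matrix (Fin n) (Fin n) ℂ :=
    (LinearMap.toMatrixAlgEquiv' (R := ℂ) (n := Fin n)).toAlgHom.toMonoidHom.comp ρ
  have hL : ∀ g, ρ.character g = (L g).trace := fun g =>
    LinearMap.trace_eq_matrix_trace ℂ (Pi.basisFun ℂ (Fin n)) (ρ g)
  let S : Matrix (Fin n × Fin n) (Fin n × Fin n) ℂ :=
    Matrix.of fun a b => if b = a.swap then 1 else 0
  have hSmul : ∀ M : Matrix (Fin n × Fin n) (Fin n × Fin n) ℂ, ∀ a b, (S * M) a b = M a.swap b := by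
    intro M a b
    simp [S, Matrix.mul_apply]
  have hmulS : ∀ M : Matrix (Fin n × Fin n) (Fin n × Fin n) ℂ, ∀ a b, (M * S) a b = M a b.swap := by
    intro M a b
    rw [Matrix.mul_apply, Finset.sum_eq_single b.swap]
    · simp [S]
    · intro c _ hc
      have : b ≠ c.swap := fun h => hc (by rw [h, Prod.swap_swap])
      simp [S, this]
    · simp
  have hSS : S * S = 1 := by
    ext a b
    rw [hSmul]
    simp [S, Matrix.one_apply, eq_comm]
  let K : G →* Matrix (Fin n × Fin n) (Fin n × Fin n) ℂ :=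
    { toFun := fun g => L g ⊗ₖ L g
      map_one' := by simp [Matrix.one_kronecker_one]
      map_mul' := fun g h => by rw [map_mul, Matrix.mul_kronecker_mul] }
  have hKS : ∀ g, Commute (K g) S := by
    intro g
    ext a b
    rw [hSmul, hmulS]
    show (L g ⊗ₖ L g) a b.swap = (L g ⊗ₖ L g) a.swap b
    simp [Matrix.kronecker_apply, mul_comm]
  let toE := (Matrix.toLinAlgEquiv' (R := ℂ) (n := Fin n × Fin n))
  let σ : Representation ℂ G (Fin n × Fin n → ℂ) :=
    toE.toMulEquiv.toMonoidHom.comp K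
  let E : Matrix (Fin n × Fin n) (Fin n × Fin n) ℂ := (2 : ℂ)⁻¹ • (1 + S)
  have hEE : E * E = E := by
    simp only [E, smul_mul_smul_comm, mul_add, add_mul, one_mul, mul_one, hSS]
    ext a b
    simp only [Matrix.smul_apply, Matrix.add_apply, smul_eq_mul]
    ring
  obtain ⟨A, hA, hAval⟩ := exists_char_range σ (toE E)
    (by rw [← map_mul, hEE]) (fun g => ((Commute.one_right _).add_right (hKS g)).smul_right _ |>.map toE)
  refine ⟨A, hA, fun g => ?_⟩
  rw [hAval, hL, hL]
  show 2 * LinearMap.trace ℂ _ (toE (K g) * toE E) = _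
  rw [← map_mul, show LinearMap.trace ℂ _ (toE (K g * E)) = (K g * E).trace from
    Matrix.trace_toLin'_eq _]
  rw [mul_smul_comm, Matrix.trace_smul, mul_add, mul_one, Matrix.trace_add, smul_eq_mul,
    ← mul_assoc, mul_inv_cancel₀ (two_ne_zero), one_mul]
  show (L g ⊗ₖ L g).trace + ((L g ⊗ₖ L g) * S).trace = _
  rw [Matrix.trace_kronecker, map_mul, sq]
  congr 1
  rw [Matrix.trace, Matrix.trace, Fintype.sum_prod_type]
  simp only [Matrix.diag_apply, hmulS, Prod.swap_prod_mk, Matrix.kronecker_apply, Matrix.mul_apply]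

end Cfsg.Agent.Lib.FeitSmall.SymChar
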