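import Cfsg.Agent.Lib.FeitSmall.Eigen
import Cfsg.Agent.Lib.FeitSmall.SymChar

/-!
# The budget

The eigenspaces of `s` on the fixed points of `x` give a nonnegative integer attached to every
character, which is one on each member of the family over the square of the central character of
`ζ` when the centre has odd order.  Applied to the products of two members of the family of `ζ`,
and to the two halves of its square, it bounds the cyclotomic numbers.
-/

set_option autoImplicit false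
set_option linter.unusedSectionVars false
set_option linter.style.haveILetI false

namespace Cfsg.Agent.Lib.FeitSmall.Budget

open Cfsg.Agent.Lib Cfsg.Agent.Lib.FirstPower Average Periods Cfsg.Agent.Lib.Characters.Basic
open Family (pow_eq_one_of_order)
open Cfsg.Agent.Lib.DegSubTwo.Basic (lam lam_one lam_mul lam_pow lam_ne_zero apply_mul_central pw
  pw_apply lam_pw exists_exp_pair)
open Setup Spikes Eigen
open Cyclotomy (negc coef eta_mul_coef sum_coef cast_card_mul)
open scoped ComplexConjugate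

attribute [local instance] BlocksChars5.Basic.irrFintype

universe u

variable {p : ℕ} [Fact p.Prime] {G : Type u} [Group G] [Finite G] {x : G}
  {ζ : Cfsg.IrrCharacter G} {h : Hyp p x ζ} {s : G} {g : (ZMod p)ˣ}

theorem cast_ne_zero (h : Hyp p x ζ) :
    (p : ℂ) ≠ 0 ∧ (Fintype.card (ex h) : ℂ) ≠ 0 ∧ ((p * Fintype.card (ex h) : ℕ) : ℂ) ≠ 0 :=
  ⟨Nat.cast_ne_zero.2 (Fact.out : p.Prime).ne_zero, Nat.cast_ne_zero.2 Fintype.card_pos.ne',
    Nat.cast_ne_zero.2 (mul_ne_zero (Fact.out : p.Prime).ne_zero Fintype.card_pos.ne')⟩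

theorem cast_mul_card (h : Hyp p x ζ) :
    (Fintype.card (Cls h) : ℂ) * Fintype.card (ex h) + 1 = p := by
  exact_mod_cast congrArg (Int.cast : ℤ → ℂ) (cast_card_mul (E := ex h))

/-- The total of the periods over the units. -/
theorem sum_units_eta (h : Hyp p x ζ) (κ : Cls h) :
    ∑ u : (ZMod p)ˣ, eta (ex h) (κ * QuotientGroup.mk u) = -(Fintype.card (ex h) : ℂ) := by
  classical
  rw [← Finset.sum_fiberwise Finset.univ
    (fun u : (ZMod p)ˣ => (QuotientGroup.mk u : Cls h)),
    Finset.sum_congr rfl fun q _ => show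
      (∑ u ∈ Finset.univ.filter (fun u : (ZMod p)ˣ => (QuotientGroup.mk u : Cls h) = q),
        eta (ex h) (κ * QuotientGroup.mk u)) = (Fintype.card (ex h) : ℂ) * eta (ex h) (q * κ) by
      rw [Finset.sum_congr rfl fun u hu => by rw [(Finset.mem_filter.mp hu).2], Finset.sum_const,
        card_fiber, nsmul_eq_mul, mul_comm κ], ← Finset.mul_sum, sum_eta_shift]
  ring

/-- The budget of a function. -/
noncomputable def bud (h : Hyp p x ζ) (s : G) (ν : ℂ) (F : G → ℂ) : ℂ :=
  ((p * Fintype.card (ex h) : ℕ) : ℂ)⁻¹ *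
    ∑ r ∈ Finset.range (Fintype.card (ex h)), ν⁻¹ ^ r * ∑ a : ZMod p, F (x ^ a.val * s ^ r)

theorem bud_sum {ι : Type*} (S : Finset ι) (m : ι → ℂ) (φ : ι → G → ℂ) (ν : ℂ) :
    bud h s ν (fun g => ∑ i ∈ S, m i * φ i g) = ∑ i ∈ S, m i * bud h s ν (φ i) := by
  simp only [bud, Finset.mul_sum]
  rw [Finset.sum_comm (s := S)]
  refine Finset.sum_congr rfl fun r _ => ?_
  rw [Finset.sum_comm]
  exact Finset.sum_congr rfl fun i _ => Finset.sum_congr rfl fun a _ => by ring

/-- A central element acts by its central character. -/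
theorem rho_center {d : ℕ} (ρ : Representation ℂ G (Fin d → ℂ)) [ρ.IsIrreducible]
    {χ : Cfsg.IrrCharacter G} (hρ : ρ.character = (χ : G → ℂ)) {z : G}
    (hz : z ∈ Subgroup.center G) : ρ z = lam χ z • 1 := by
  obtain ⟨r, hr⟩ := Clifford.Rep.schur ρ (ρ z) (fun a => by
    rw [← map_mul, ← map_mul, Subgroup.mem_center_iff.1 hz a])
  have h1 : (χ : G → ℂ) z = r * (χ : G → ℂ) 1 := by
    rw [← hρ, Representation.character, Representation.character, hr, map_smul, smul_eq_mul,
      map_one ρ]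
  rw [hr, lam, h1, mul_div_cancel_right₀ _ (apply_one_ne_zero χ)]

/-- The budget of an irreducible character is a natural number. -/
theorem exists_bud_nat (E : Eig h s g) (χ : Cfsg.IrrCharacter G) {ν : ℂ}
    (hν : ν ^ Fintype.card (ex h) = lam χ (s ^ Fintype.card (ex h))) :
    ∃ n : ℕ, bud h s ν (χ : G → ℂ) = n := by
  set e := Fintype.card (ex h) with he
  obtain ⟨d, ρ, hρ, hρχ⟩ := exists_rep χ
  haveI := hρ
  set P := proj p x ρ with hP
  set T := ν⁻¹ • ρ s with hT
  have hTP : Commute T P := (show Commute (ρ s) P from proj_comm E).smul_left _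
  have hTe : T ^ e = 1 := by
    rw [hT, smul_pow, ← map_pow, rho_center ρ hρχ (pow_card_center E), smul_smul, ← hν, ← mul_pow,
      inv_mul_cancel₀ ?_, one_pow, one_smul]
    intro h0
    rw [h0, zero_pow Fintype.card_pos.ne'] at hν
    exact lam_ne_zero χ (pow_card_center E) hν.symm
  set S := ∑ r ∈ Finset.range e, T ^ r with hS
  have hTS : T * S = S := by
    have h1 := geom_sum_mul (x := T) e
    have h2 := mul_geom_sum (x := T) e
    rw [hTe, sub_self, sub_mul, one_mul, sub_eq_zero, ← hS] at h2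
    exact h2
  have hSS : S * S = (e : ℂ) • S := by
    have hpow : ∀ r, T ^ r * S = S := by
      intro r
      induction r with
      | zero => rw [pow_zero, one_mul]
      | succ r ih => rw [pow_succ, mul_assoc, hTS, ih]
    conv_lhs => rw [hS, Finset.sum_mul, ← hS]
    rw [Finset.sum_congr rfl fun r _ => hpow r, Finset.sum_const, Finset.card_range,
      Nat.cast_smul_eq_nsmul]
  have hSP : Commute S P := Commute.sum_left _ _ _ fun r _ => hTP.pow_left r
  set Q := ((e : ℂ)⁻¹) • (S * P) with hQ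
  have hQQ : Q * Q = Q := by
    rw [hQ, smul_mul_smul_comm, show S * P * (S * P) = (S * S) * (P * P) by
      rw [mul_assoc, ← mul_assoc P, ← hSP.eq, mul_assoc, mul_assoc], hSS, proj_mul_self h,
      smul_mul_assoc, smul_smul, mul_assoc, inv_mul_cancel₀ (cast_ne_zero h).2.1, mul_one]
  refine ⟨_, (Eq.trans ?_ (RecogThree.M11.Rep.trace_idem Q hQQ))⟩
  rw [bud, hQ, hS, Finset.sum_mul, map_smul, map_sum, smul_eq_mul]
  rw [Nat.cast_mul, mul_inv, mul_comm (p : ℂ)⁻¹, mul_assoc, Finset.mul_sum (a := (p : ℂ)⁻¹)]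
  congr 1
  refine Finset.sum_congr rfl fun r _ => ?_
  rw [hT, smul_pow, smul_mul_assoc, map_smul, ← map_pow, hP, trace_proj, hρχ, smul_eq_mul]
  ring

/-- The budget from the values on `⟨x⟩` and on the powers of `s`. -/
theorem bud_eval (E : Eig h s g) {F : G → ℂ} (hF : ∀ a b : G, F (b * a * b⁻¹) = F a) (ν : ℂ) :
    bud h s ν F = ((p * Fintype.card (ex h) : ℕ) : ℂ)⁻¹ *
      (F 1 + ∑ u : (ZMod p)ˣ, F (x ^ (u : ZMod p).val) +
        (p : ℂ) * ∑ r ∈ Finset.Ico 1 (Fintype.card (ex h)), ν⁻¹ ^ r * F (s ^ r)) := by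
  rw [bud, ← Finset.sum_range_add_sum_Ico _ (show 1 ≤ Fintype.card (ex h) from Fintype.card_pos),
    Finset.sum_range_one, pow_zero, pow_zero, one_mul, Finset.mul_sum (a := (p : ℂ))]
  congr 2
  · simp only [mul_one]
    rw [Consequences.sum_zmod_split, ZMod.val_zero, pow_zero]
  · refine Finset.sum_congr rfl fun r hr => ?_
    rw [Finset.mem_Ico] at hr
    rw [sum_shift E hF (fun hd => by
      have := Nat.le_of_dvd (by omega) hd
      omega)]
    ring

/-- A conjugate with translated coordinates and the same values on regular elements. -/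
theorem exists_fam (h : Hyp p x ζ) (χ : Cfsg.IrrCharacter G) (κ : Cls h) :
    ∃ ψ : Cfsg.IrrCharacter G, (∀ q, crd h ψ q = crd h χ (q * κ)) ∧
      (∀ a : G, ¬ p ∣ orderOf a → (ψ : G → ℂ) a = (χ : G → ℂ) a) ∧
      ∀ z ∈ Subgroup.center G, lam ψ z = lam χ z := by
  obtain ⟨u, hu⟩ := QuotientGroup.mk_surjective κ⁻¹
  obtain ⟨k, hk, hku, hk1⟩ := Family.exists_exponent h.ord h.sq u
  refine ⟨pw χ hk, fun q => ?_, fun a ha => ?_, fun z hz =>
    lam_conj (fun a => pw_apply χ hk a) (pow_center h hk1 hz)⟩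
  · rw [crd_conj h (fun a => pw_apply χ hk a) hku, hu, inv_inv]
  · rw [pw_apply, Family.pow_eq_self_of_regular h.ord h.sq hk1 ha]

/-- The product of two members of the family of `ζ`. -/
theorem exists_prod (st : Std h) (d : Cls h) :
    ∃ F : G → ℂ, Cfsg.IsCharacter G F ∧
      (∀ a, ∀ z ∈ Subgroup.center G, F (a * z) = lam ζ z ^ 2 * F a) ∧
      (∀ u : (ZMod p)ˣ, F (x ^ (u : ZMod p).val) =
        ∑ k, (coef (ex h) d k : ℂ) * eta (ex h) (k * QuotientGroup.mk u)) ∧
      ∀ a : G, ¬ p ∣ orderOf a → F a = (ζ : G → ℂ) a ^ 2 := by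
  classical
  obtain ⟨ψ, hψc, hψr, hψl⟩ := exists_fam h ζ d⁻¹
  refine ⟨_, isCharacter_mul (isCharacter_irr ζ) (isCharacter_irr ψ), fun a z hz => ?_,
    fun u => ?_, fun a ha => ?_⟩
  · rw [Pi.mul_apply, Pi.mul_apply, apply_mul_central ζ hz, apply_mul_central ψ hz, hψl z hz]
    ring
  · rw [Pi.mul_apply, value st, crd_val h ψ, ← eta_mul_coef, mul_comm _ d]
    simp only [hψc, st.val, mul_inv_eq_one, Int.cast_ite, Int.cast_neg, Int.cast_one,
      Int.cast_zero, ite_mul, neg_mul, one_mul, zero_mul, Finset.sum_ite_eq', Finset.mem_univ,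
      if_true]
    ring
  · rw [Pi.mul_apply, hψr a ha, sq]

/-- The data at the square of the central character. -/
structure Dat {G : Type u} [Group G] [Finite G] {p : ℕ} [Fact p.Prime] {x : G}
    {ζ : Cfsg.IrrCharacter G} (h : Hyp p x ζ) (s : G) (μ : ℂ) (k : ℕ) : Prop where
  cop : k.Coprime (Nat.card G)
  one : (k : ZMod p) = 1
  two : ∀ z ∈ Subgroup.center G, z ^ k = z ^ 2
  mu : μ ^ Fintype.card (ex h) = lam ζ (s ^ Fintype.card (ex h))
  val : ∀ r, ¬ Fintype.card (ex h) ∣ r → (ζ : G → ℂ) (s ^ r) = μ ^ r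

variable {μ : ℂ} {k : ℕ}

theorem exists_dat (st : Std h) (E : Eig h s g) (hZ : Odd (Nat.card (Subgroup.center G))) :
    ∃ μ k, Dat h s μ k := by
  obtain ⟨μ, hμ, hval⟩ := exists_mu st E
  obtain ⟨k, hk, hk1, hk2⟩ := exists_exp_pair (G := G) (prime_dvd_card h) (1 : (ZMod p)ˣ)
    (Subgroup.card_subgroup_dvd_card (Subgroup.center G)) (not_dvd_center h)
    (r := 2) ((Nat.prime_two.coprime_iff_not_dvd).2 (fun hd => by
      obtain ⟨j, hj⟩ := hZ
      omega))
  exact ⟨μ, k, hk, by rw [hk1, Units.val_one], fun z hz =>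
    pow_eq_pow_iff_modEq.2 (hk2.of_dvd (Subgroup.orderOf_dvd_natCard _ hz)), hμ, hval⟩

variable (st : Std h) (E : Eig h s g) (D : Dat h s μ k)

include D in
theorem lam_two {z : G} (hz : z ∈ Subgroup.center G) : lam (pw ζ D.cop) z = lam ζ z ^ 2 := by
  rw [lam, pw_apply, pw_apply, one_pow, D.two z hz, ← lam, lam_pow ζ hz]

include st E D in
theorem lam_two_pow : (μ ^ k) ^ Fintype.card (ex h) =
    lam (pw ζ D.cop) (s ^ Fintype.card (ex h)) := by
  rw [lam_two D (pow_card_center E), ← pow_mul, mul_comm, pow_mul, D.mu,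
    ← lam_pow ζ (pow_card_center E), ← lam_pow ζ (pow_card_center E), D.two _ (pow_card_center E)]

include st E D in
theorem mu_ne_zero : μ ≠ 0 := by
  intro h0
  have := D.mu
  rw [h0, zero_pow Fintype.card_pos.ne'] at this
  exact lam_ne_zero ζ (pow_card_center E) this.symm

include st E D in
open scoped Classical in
/-- The family over the square has budget one on each member. -/
theorem exists_family_two :
    ∃ Y : Cls h → Cfsg.IrrCharacter G, Function.Injective Y ∧
      (∀ κ, Y κ ∈ slice h (lam (pw ζ D.cop))) ∧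
      (∀ κ q, crd h (Y κ) q = if q = κ then -1 else 0) ∧
      (∀ χ ∈ slice h (lam (pw ζ D.cop)), (∃ κ, Y κ = χ) ∨ ∀ q q', crd h χ q = crd h χ q') ∧
      ∀ κ, bud h s (μ ^ k) (Y κ : G → ℂ) = 1 := by
  classical
  have hku : (k : ZMod p) = ((1 : (ZMod p)ˣ) : ZMod p) := by rw [D.one, Units.val_one]
  set ξ := pw ζ D.cop with hξ
  have hξc : ∀ q, crd h ξ q = if q = 1 then -1 else 0 := fun q => by
    rw [crd_conj h (fun a => pw_apply ζ D.cop a) hku, QuotientGroup.mk_one, inv_one, mul_one,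
      st.val]
  obtain ⟨a, ha⟩ := Fintype.exists_ne_of_one_lt_card
    (show 1 < Fintype.card (Cls h) by have := st.three; omega) (1 : Cls h)
  obtain ⟨Y, c, δ, hY, hδ, hmem, hval, hrest⟩ := exists_spikes h ξ
  obtain ⟨κ₀, hκ₀⟩ := (hrest ξ (self_mem_slice h ξ)).resolve_right fun hc => by
    have := hc a 1
    rw [hξc, hξc, if_neg ha, if_pos rfl] at this
    omega
  obtain ⟨b, hb1, hb2⟩ : ∃ b : Cls h, b ≠ 1 ∧ b ≠ κ₀ := by
    by_contra hcon
    push Not at hcon
    have h1 : (Finset.univ : Finset (Cls h)).card ≤ ({1, κ₀} : Finset (Cls h)).card := by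
      refine Finset.card_le_card fun x _ => ?_
      by_cases hx : x = 1
      · simp [hx]
      · simp [hcon x hx]
    have := h1.trans Finset.card_le_two
    have := st.three
    rw [Finset.card_univ] at *
    omega
  have hv := hval κ₀
  simp only [congrArg (fun χ : Cfsg.IrrCharacter G => crd h χ) hκ₀, hξc] at hv
  have hc : c = 0 := by
    have := hv b
    rw [if_neg hb1, if_neg hb2, add_zero] at this
    exact this.symm
  subst hc
  have hδ1 : δ = -1 ∧ κ₀ = 1 := by
    have := hv κ₀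
    by_cases h1 : κ₀ = 1
    · simp [h1] at this
      exact ⟨this.symm, h1⟩
    · simp [h1] at this
      omega
  obtain ⟨rfl, rfl⟩ := hδ1
  simp only [zero_add] at hval
  have hreg : ∀ κ, ∀ a : G, ¬ p ∣ orderOf a → (Y κ : G → ℂ) a = (ξ : G → ℂ) a := by
    intro κ a ha'
    obtain ⟨ψ, hψc, hψr, hψl⟩ := exists_fam h ξ κ⁻¹
    have hcc : ∀ q, crd h ψ q = if q = κ then -1 else 0 := fun q => by
      rw [hψc, hξc]
      simp only [mul_inv_eq_one]
    obtain ⟨κ', hκ'⟩ := (hrest ψ ((mem_slice h).2 hψl)).resolve_right fun hc => by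
      obtain ⟨a', ha''⟩ := Fintype.exists_ne_of_one_lt_card
        (show 1 < Fintype.card (Cls h) by have := st.three; omega) κ
      have := hc a' κ
      rw [hcc, hcc, if_neg ha'', if_pos rfl] at this
      omega
    have h1 := hcc κ'
    rw [← congrArg (fun χ : Cfsg.IrrCharacter G => crd h χ κ') hκ', hval, if_pos rfl] at h1
    have : κ' = κ := by
      by_contra hne
      rw [if_neg hne] at h1
      omega
    rw [← this, hκ', hψr a ha']
  refine ⟨Y, hY, hmem, hval, hrest, fun κ => ?_⟩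
  obtain ⟨hp0, he0, hpe⟩ := cast_ne_zero h
  have hcop : k.Coprime (Fintype.card (ex h)) := D.cop.coprime_dvd_right (card_dvd E)
  rw [bud_eval E (isClassFunction_irr (Y κ))]
  have hsum : ∑ u : (ZMod p)ˣ, (Y κ : G → ℂ) (x ^ (u : ZMod p).val) =
      (Fintype.card (ex h) : ℂ) := by
    rw [← neg_neg (Fintype.card (ex h) : ℂ), ← sum_units_eta h κ, ← Finset.sum_neg_distrib]
    refine Finset.sum_congr rfl fun u _ => ?_
    rw [crd_val h]
    simp [hval]
  have hone : (Y κ : G → ℂ) 1 = (Cfsg.charDegree (ζ : G → ℂ) : ℂ) := by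
    rw [hreg κ 1 (by rw [orderOf_one]; exact (Fact.out : p.Prime).not_dvd_one), hξ, pw_apply,
      one_pow, apply_one_zeta]
  have hrs : ∀ r ∈ Finset.Ico 1 (Fintype.card (ex h)),
      (μ ^ k)⁻¹ ^ r * (Y κ : G → ℂ) (s ^ r) = 1 := by
    intro r hr
    rw [Finset.mem_Ico] at hr
    have hnd : ¬ Fintype.card (ex h) ∣ r * k := fun hd => by
      have := Nat.le_of_dvd (by omega) (hcop.symm.dvd_of_dvd_mul_right hd)
      omega
    rw [hreg κ _ fun hd => E.reg (hd.trans (orderOf_pow_dvd r)), hξ, pw_apply, ← pow_mul,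
      D.val _ hnd, inv_pow, ← pow_mul, mul_comm k r,
      inv_mul_cancel₀ (pow_ne_zero _ (mu_ne_zero st E D))]
  have hdeg : (Cfsg.charDegree (ζ : G → ℂ) : ℂ) + Fintype.card (ex h) = p := by
    exact_mod_cast st.deg
  rw [hone, hsum, hdeg, Finset.sum_congr rfl hrs, Finset.sum_const, Nat.card_Ico, nsmul_eq_mul,
    Nat.cast_sub Fintype.card_pos, Nat.cast_mul]
  field_simp
  push_cast
  ring

include st E D in
/-- The decomposition of a character over the square of the central character. -/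
theorem exists_decomp {F : G → ℂ} (hF : Cfsg.IsCharacter G F)
    (hcen : ∀ a, ∀ z ∈ Subgroup.center G, F (a * z) = lam ζ z ^ 2 * F a) :
    ∃ (M : Cls h → ℕ) (A : ℤ) (R : ℕ),
      (∀ u : (ZMod p)ˣ, F (x ^ (u : ZMod p).val) =
        ∑ q, ((A - M q : ℤ) : ℂ) * eta (ex h) (q * QuotientGroup.mk u)) ∧
      bud h s (μ ^ k) F = (((∑ q, M q) + R : ℕ) : ℂ) := by
  classical
  haveI := Fintype.ofFinite G
  set ξ := pw ζ D.cop with hξ
  obtain ⟨Y, hY, hmem, hval, hrest, hB⟩ := exists_family_two st E D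
  choose m hm using fun χ : Cfsg.IrrCharacter G => exists_classInner_nat hF (isCharacter_irr χ)
  have hexp : ∀ a, F a = ∑ χ : Cfsg.IrrCharacter G, (m χ : ℂ) * (χ : G → ℂ) a := fun a => by
    conv_lhs => rw [character_eq_finsum hF, finsum_eq_sum_of_fintype]
    simp only [Finset.sum_apply, Pi.smul_apply, smul_eq_mul, hm]
  have hsupp : ∀ χ : Cfsg.IrrCharacter G, χ ∉ slice h (lam ξ) → m χ = 0 := by
    intro χ hχ
    rw [mem_slice] at hχ
    push Not at hχ
    obtain ⟨z, hz, hne⟩ := hχ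
    have h1 : Cfsg.classInner F (χ : G → ℂ) =
        lam ξ z * conj (lam χ z) * Cfsg.classInner F (χ : G → ℂ) := by
      rw [Cfsg.classInner, mul_left_comm (lam ξ z * conj (lam χ z))]
      congr 1
      rw [Finset.mul_sum]
      refine (Fintype.sum_equiv (Equiv.mulRight z) _ _ fun a => ?_).symm
      rw [Equiv.coe_mulRight, hcen a z hz, apply_mul_central χ hz, lam_two D hz, map_mul]
      ring
    rw [hm χ] at h1
    have hne1 : lam ξ z * conj (lam χ z) - 1 ≠ 0 := fun h0 => hne (by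
      calc lam χ z = lam ξ z * conj (lam χ z) * lam χ z := by rw [sub_eq_zero.1 h0, one_mul]
        _ = _ := by rw [mul_assoc, mul_comm (conj _),
          DegSubTwo.Basic.lam_mul_conj χ hz, mul_one])
    exact Nat.cast_eq_zero.1 ((mul_eq_zero.1 (by linear_combination (-1 : ℂ) * h1 :
      (lam ξ z * conj (lam χ z) - 1) * (m χ : ℂ) = 0)).resolve_left hne1)
  have hνχ : ∀ χ ∈ slice h (lam ξ),
      (μ ^ k) ^ Fintype.card (ex h) = lam χ (s ^ Fintype.card (ex h)) := fun χ hχ => by
    rw [(mem_slice h).1 hχ _ (pow_card_center E)]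
    exact lam_two_pow st E D
  choose n hn using fun χ : slice h (lam ξ) => exists_bud_nat E χ.1 (hνχ _ χ.2)
  set O := (slice h (lam ξ)).filter fun χ => ¬ ∃ κ, Y κ = χ with hO
  have hsplit : ∀ f : Cfsg.IrrCharacter G → ℂ, ∑ χ : Cfsg.IrrCharacter G, (m χ : ℂ) * f χ =
      ∑ κ, (m (Y κ) : ℂ) * f (Y κ) + ∑ χ ∈ O, (m χ : ℂ) * f χ := by
    intro f
    rw [← Finset.sum_subset (Finset.subset_univ (slice h (lam ξ))) fun χ _ hχ => by
      rw [hsupp χ hχ, Nat.cast_zero, zero_mul],
      ← Finset.sum_filter_add_sum_filter_not (slice h (lam ξ)) fun χ => ∃ κ, Y κ = χ, ← hO]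
    congr 1
    rw [← Finset.sum_image (g := Y) (f := fun χ => (m χ : ℂ) * f χ) fun a _ b _ e => hY e]
    refine Finset.sum_congr ?_ fun _ _ => rfl
    ext χ
    simp only [Finset.mem_filter, Finset.mem_image, Finset.mem_univ, true_and]
    exact ⟨fun h' => h'.2, fun h' => ⟨by obtain ⟨κ, rfl⟩ := h'; exact hmem κ, h'⟩⟩
  refine ⟨fun q => m (Y q), ∑ χ ∈ O, (m χ : ℤ) * crd h χ 1,
    ∑ χ ∈ O.attach, m χ.1 * n ⟨χ.1, (Finset.mem_filter.1 χ.2).1⟩, fun u => ?_, ?_⟩
  · rw [hexp, hsplit fun χ => (χ : G → ℂ) (x ^ (u : ZMod p).val)]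
    simp only [Int.cast_sub, Int.cast_sum, Int.cast_mul, Int.cast_natCast, sub_mul,
      Finset.sum_sub_distrib, ← Finset.mul_sum, sum_eta_shift]
    rw [sub_eq_add_neg, add_comm]
    congr 1
    · rw [Finset.sum_mul]
      refine Finset.sum_congr rfl fun χ hχ => ?_
      obtain ⟨hχs, hχn⟩ := Finset.mem_filter.1 hχ
      rw [crd_val h, Finset.sum_congr rfl fun q _ => by
        rw [(hrest χ hχs).resolve_left hχn q 1], ← Finset.mul_sum, sum_eta_shift]
      ring
    · rw [← Finset.sum_neg_distrib]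
      refine Finset.sum_congr rfl fun κ _ => ?_
      rw [crd_val h]
      simp [hval]
  · rw [show F = fun a => ∑ χ : Cfsg.IrrCharacter G, (m χ : ℂ) * (χ : G → ℂ) a from funext hexp,
      bud_sum, hsplit fun χ => bud h s (μ ^ k) (χ : G → ℂ)]
    simp only [hB, mul_one]
    push_cast
    congr 1
    rw [← Finset.sum_attach O]
    exact Finset.sum_congr rfl fun χ _ => by rw [hn ⟨χ.1, (Finset.mem_filter.1 χ.2).1⟩]

end Cfsg.Agent.Lib.FeitSmall.Budget
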