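import Cfsg.Agent.Lib.DegSubTwo.Modular

/-!
# The centraliser of a first-power element against its normal closure

As in `DegSubTwo.Modular`, without assuming that the conjugates of `x` generate: the elements of
order prime to `p` centralising `x` commute with the image of the normal closure of `x`.
-/

set_option autoImplicit false
set_option linter.unusedSectionVars false
set_option linter.style.haveILetI false

namespace Cfsg.Agent.Lib.FeitSmall.Centralizer

open Module Cfsg.Agent.Lib.FirstPower Cfsg.Agent.Lib.FirstPower.ModularTrace
open Cfsg.Agent.Lib.DegSubTwo.Modular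
open CharOrbit (IsVPart)

universe w

variable {p : ℕ} [Fact p.Prime] {G : Type*} [Group G] [Finite G] {x : G}
variable {k : Type*} [Field k] [CharP k p]

section
variable {V : Type*} [AddCommGroup V] [Module k V] [FiniteDimensional k V]

theorem commute_core_of_short (A : G →* Module.End k V) (hx : orderOf x = p)
    (h2 : ¬ p ^ 2 ∣ Nat.card G)
    (hV : finrank k V < p) {a : ℕ} (hd0 : (A x - 1) ^ a = 0) (ha : 2 * a ≤ p)
    {v : G} (hv : Commute x v) (hvp : ¬ p ∣ orderOf v) {g : G}
    (hgH : g ∈ Subgroup.normalClosure ({x} : Set G)) :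
    Commute (A v) (A g) := by
  rcases subsingleton_or_nontrivial V with hs | hs
  · exact LinearMap.ext fun f => Subsingleton.elim _ _
  obtain ⟨Ω, hΩ, hXΩ, hΩR⟩ := exists_equivariant_proj (conjRep A) hx h2
    (conjRep_sub_one_pow' A hd0 ha)
  have hvK : conjRep A x (A v) = A v := (conjRep_eq_iff A x _).mpr (hv.map A)
  set s := Ω (A v) with hs'
  have hsg : ∀ g ∈ Subgroup.normalClosure ({x} : Set G), Commute (A g) s := by
    let H : Subgroup G :=
      { carrier := {g | conjRep A g s = s}
        one_mem' := by simp
        mul_mem' := fun {a} {b} ha hb => by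
          show conjRep A (a * b) s = s
          rw [map_mul, Module.End.mul_apply]
          exact (congrArg _ hb).trans ha
        inv_mem' := fun {a} ha => by
          show conjRep A a⁻¹ s = s
          conv_lhs => rw [← ha, ← Module.End.mul_apply, ← map_mul, inv_mul_cancel, map_one]
          rfl }
    have hle : Subgroup.normalClosure ({x} : Set G) ≤ H := by
      unfold Subgroup.normalClosure
      rw [Subgroup.closure_le]
      intro y hy
      obtain ⟨w, hw, hy⟩ := Group.mem_conjugatesOfSet_iff.mp hy
      rw [Set.mem_singleton_iff] at hw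
      rw [hw] at hy
      obtain ⟨c, rfl⟩ := isConj_iff.mp hy
      show conjRep A (c * x * c⁻¹) s = s
      rw [map_mul, map_mul, Module.End.mul_apply, Module.End.mul_apply, hs',
        ← Module.End.mul_apply (conjRep A c⁻¹) Ω, (hΩ c⁻¹).eq, Module.End.mul_apply,
        ← Module.End.mul_apply (conjRep A x) Ω, hXΩ, ← Module.End.mul_apply (conjRep A c) Ω,
        (hΩ c).eq, Module.End.mul_apply, ← Module.End.mul_apply (conjRep A c), ← map_mul,
        mul_inv_cancel, map_one]
      rfl
    intro g hg
    exact (conjRep_eq_iff A g s).mp (hle hg)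
  have hvs0 : Commute s (A v) := ((conjRep_eq_iff A v s).mp (by
    rw [hs', ← Module.End.mul_apply, (hΩ v).eq, Module.End.mul_apply,
      (conjRep_eq_iff A v _).mpr (Commute.refl (A v))])).symm
  set d := A v - s with hd
  obtain ⟨f', hf'⟩ := hΩR _ hvK
  have hdx : Commute (A x) d := (hv.map A).sub_right (hsg x (Subgroup.subset_normalClosure rfl))
  have hAx : A x⁻¹ * A x = 1 := by rw [← map_mul, inv_mul_cancel, map_one]
  have hdnil : IsNilpotent d := by
    refine isNilpotent_of_trace p hV d fun j hj => ?_
    obtain ⟨j, rfl⟩ := Nat.exists_eq_add_of_le' hj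
    have hdf : d = f' - A x * f' * A x⁻¹ := by
      rw [← conjRep_apply, hd, ← neg_sub s, hs', hf', neg_sub]
    have hc : Commute (A x) (d ^ j) := hdx.pow_right j
    rw [pow_succ', show d * d ^ j = f' * d ^ j - A x * f' * A x⁻¹ * d ^ j by
      rw [← sub_mul, ← hdf], map_sub, sub_eq_zero, mul_assoc (A x) f', mul_assoc (A x),
      LinearMap.trace_mul_comm k (A x), mul_assoc (f' * A x⁻¹), ← hc.eq, ← mul_assoc,
      mul_assoc f', hAx, mul_one]
  have hpow := pow_finrank_eq_zero hdnil
  haveI : CharP (Module.End k V) p :=
    charP_of_injective_algebraMap (R := k) (FaithfulSMul.algebraMap_injective k _) p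
  have hp1 : finrank k V ≤ p ^ 1 := by rw [pow_one]; omega
  have hvs : A v ^ p ^ 1 = s ^ p ^ 1 := by
    have hc : Commute s d := hvs0.sub_right (Commute.refl s)
    rw [show A v = s + d by rw [hd, add_sub_cancel],
      add_pow_char_pow_of_commute p 1 hc, pow_eq_zero_of_le hp1 hpow, add_zero]
  obtain ⟨t, ht⟩ := exists_pow_eq_self_of_coprime (Nat.Coprime.pow_left 1
    ((Fact.out : p.Prime).coprime_iff_not_dvd.mpr hvp) : (p ^ 1).Coprime (orderOf v))
  rw [← ht, map_pow, map_pow, hvs]
  exact (((hsg g hgH).symm).pow_left _).pow_left _


end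

/-- Elements of order prime to `p` centralising `x` act centrally in degree below `p`. -/
theorem commute_core_image {V : Type w} [AddCommGroup V] [Module k V] [FiniteDimensional k V]
    (A : G →* Module.End k V) (hx : orderOf x = p) (h2 : ¬ p ^ 2 ∣ Nat.card G)
    (hV : finrank k V < p)
    {W : Subgroup G} (hW : IsVPart p x W) {v : G} (hv : v ∈ W) {g : G}
    (hgH : g ∈ Subgroup.normalClosure ({x} : Set G)) :
    Commute (A v) (A g) := by
  induction hn : finrank k V using Nat.strong_induction_on generalizing V with
  | _ n ih =>
    by_cases hind : ∀ e : Module.End k V, (∀ g, Commute (A g) e) → e * e = e → e = 0 ∨ e = 1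
    · classical
      have hvc := (hW v).mp hv
      have hnil : ∃ a, (A x - 1) ^ a = 0 := ⟨_, sub_pow_eq_zero A hx hV⟩
      by_cases ha : 2 * Nat.find hnil ≤ p
      · exact commute_core_of_short A hx h2 hV (Nat.find_spec hnil) ha
          (Subgroup.mem_centralizer_singleton_iff.mp hvc.1).symm hvc.2 hgH
      · obtain ⟨r, hr⟩ := scalar_of_long A hx h2 hV hind (Nat.find_spec hnil)
          (Nat.find_min hnil (by omega)) (by omega) hW hv
        rw [hr]
        exact (Commute.one_left _).smul_left r
    · push Not at hind
      obtain ⟨e, hec, hee, he0, he1⟩ := hind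
      have key : ∀ f : Module.End k V, (∀ g, Commute (A g) f) → f * f = f → f ≠ 1 →
          ∀ m, A v (A g (f m)) = A g (A v (f m)) := by
        intro f hfc hff hf1 m
        have hlt : finrank k (LinearMap.range f) < n := by
          rw [← hn]
          refine Submodule.finrank_lt fun h => hf1 ?_
          refine LinearMap.ext fun y => ?_
          obtain ⟨z, hz⟩ := (h ▸ Submodule.mem_top : y ∈ LinearMap.range f)
          rw [← hz, ← Module.End.mul_apply, hff]
          rfl
        have hstab : ∀ g, ∀ y ∈ LinearMap.range f, A g y ∈ LinearMap.range f := by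
          rintro g y ⟨z, rfl⟩
          exact ⟨A g z, by rw [← Module.End.mul_apply, ← (hfc g).eq]; rfl⟩
        let B : G →* Module.End k (LinearMap.range f) :=
          { toFun := fun g => (A g).restrict (hstab g)
            map_one' := LinearMap.ext fun m => Subtype.ext (by simp)
            map_mul' := fun g h => LinearMap.ext fun m => Subtype.ext (by simp) }
        exact congrArg Subtype.val
          (LinearMap.congr_fun (ih _ hlt B (by omega) rfl).eq ⟨f m, m, rfl⟩)
      refine LinearMap.ext fun m => ?_
      have h1 := key e hec hee he1 m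
      have h2' := key (1 - e) (fun g => (Commute.one_right _).sub_right (hec g))
        (by rw [sub_mul, one_mul, mul_sub, mul_one, hee, sub_self, sub_zero])
        (fun h => he0 (sub_eq_self.mp h)) m
      simp only [LinearMap.sub_apply, Module.End.one_apply, map_sub] at h2'
      show A v (A g m) = A g (A v m)
      rw [h1, sub_left_inj] at h2'
      exact h2'

end Cfsg.Agent.Lib.FeitSmall.Centralizer
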