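import Cfsg.Agent.Lib.FeitSmall.Skew
import Cfsg.Agent.Lib.SmallRep.Faithful
import Cfsg.Agent.S4468

/-!
# A faithful modular representation of degree `(p + 1) / 2`

A group generated by conjugates of an element of order `p`, with a faithful character of degree
below `p - 1`, maps onto `PSL₂(p)` with central kernel when its reduction modulo `p` has degree
`(p + 1) / 2`.
-/

set_option autoImplicit false
set_option linter.unusedSectionVars false
set_option linter.style.haveILetI false

namespace Cfsg.Agent.Lib.FeitSmall.Half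

open Cfsg.Agent.Lib.SmallRep

universe u v

variable {H : Type v} [Group H] [Finite H] {p : ℕ} [Fact p.Prime] {y : H}

/-- An element of order `p` centralizes a normal subgroup of order prime to `p` when there is a
faithful character of degree less than `p - 1`. -/
theorem centralizes (hy : orderOf y = p) {K : Subgroup H} [K.Normal] (hK : ¬ p ∣ Nat.card K)
    {χ : H → ℂ} (hχ : Cfsg.IsCharacter H χ) (hfaith : ∀ a, χ a = χ 1 → a = 1)
    (hdeg : Cfsg.charDegree χ + 1 < p) : ∀ a ∈ K, a * y = y * a := by
  classical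
  have hp : p.Prime := Fact.out
  have hyp : y ^ p = 1 := by rw [← hy, pow_orderOf_eq_one]
  have hyK : y ∉ K := fun h => hK (hy ▸ Subgroup.orderOf_dvd_natCard K h)
  set L := (Subgroup.zpowers (QuotientGroup.mk' K y)).comap (QuotientGroup.mk' K) with hL
  have hKL : K ≤ L := fun a ha => by
    show QuotientGroup.mk' K a ∈ Subgroup.zpowers (QuotientGroup.mk' K y)
    rw [show QuotientGroup.mk' K a = 1 from (QuotientGroup.eq_one_iff a).2 ha]
    exact one_mem _
  have hyL : y ∈ L := Subgroup.mem_zpowers _
  have hord : orderOf (QuotientGroup.mk' K y) = p :=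
    orderOf_eq_prime (by rw [← map_pow, hyp, map_one])
      fun h => hyK ((QuotientGroup.eq_one_iff y).1 h)
  have hidx : K.relIndex L = p := by
    have h1 := Subgroup.relIndex_mul_index hKL
    rw [Subgroup.index_comap_of_surjective _ (QuotientGroup.mk'_surjective K),
      Subgroup.index_eq_card K, ← Subgroup.card_mul_index (Subgroup.zpowers (QuotientGroup.mk' K y)),
      Nat.card_zpowers, hord] at h1
    exact Nat.eq_of_mul_eq_mul_right (Nat.pos_of_ne_zero Subgroup.index_ne_zero_of_finite) h1
  set KL := K.subgroupOf L with hKLdef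
  have hsolv : Cfsg.IsPSolvable p L := by
    refine ⟨2, ![⊥, KL, ⊤], rfl, rfl, ?_, ?_, ?_⟩
    · intro i j hij
      fin_cases i <;> fin_cases j <;> simp_all
    · intro i
      fin_cases i
      · exact Subgroup.normal_bot
      · exact (inferInstance : KL.Normal)
      · exact Subgroup.normal_top
    · intro i
      fin_cases i
      · right
        show ((⊥ : Subgroup L).relIndex KL).Coprime p
        rw [Subgroup.relIndex_bot_left, hKLdef,
          Nat.card_congr (Subgroup.subgroupOfEquivOfLe hKL).toEquiv]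
        exact (hp.coprime_iff_not_dvd.2 hK).symm
      · left
        refine ⟨1, ?_⟩
        show KL.relIndex ⊤ = p ^ 1
        rw [Subgroup.relIndex_top_right, pow_one]
        exact hidx
  obtain ⟨P⟩ : Nonempty (Sylow p L) := inferInstance
  have hPn : (P : Subgroup L).Normal := by
    by_contra hPn
    have hd : Cfsg.charDegree (fun a : L => χ a) = Cfsg.charDegree χ :=
      BlocksChars5.Basic.charDegree_congr rfl
    have := (Cfsg.Agent.S4468.result (fun a : L => χ a)
      (Characters.Basic.isCharacter_comp L.subtype hχ) (fun a ha => Subtype.ext (hfaith _ ha))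
      _ hd p hp hsolv (by omega) P hPn).1
    omega
  letI := Sylow.unique_of_normal P hPn
  set w : L := ⟨y, hyL⟩ with hw
  have hwP : w ∈ (P : Subgroup L) := by
    have hwp : IsPGroup p (Subgroup.zpowers w) := by
      refine IsPGroup.of_card (n := 1) ?_
      rw [Nat.card_zpowers, pow_one, ← Subgroup.orderOf_coe]
      exact hy
    obtain ⟨Q, hQ⟩ := hwp.exists_le_sylow
    rw [Subsingleton.elim Q P] at hQ
    exact hQ (Subgroup.mem_zpowers w)
  intro a ha
  set a' : L := ⟨a, hKL ha⟩ with ha'
  have hc1 : a' * w * a'⁻¹ * w⁻¹ ∈ (P : Subgroup L) :=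
    mul_mem (hPn.conj_mem w hwP a') (inv_mem hwP)
  have hc2 : ((a' * w * a'⁻¹ * w⁻¹ : L) : H) ∈ K := by
    show a * y * a⁻¹ * y⁻¹ ∈ K
    rw [mul_assoc a y, mul_assoc a]
    exact mul_mem ha ((inferInstance : K.Normal).conj_mem _ (inv_mem ha) y)
  have hc : a' * w * a'⁻¹ * w⁻¹ = 1 := by
    rw [← orderOf_eq_one_iff]
    obtain ⟨m, hm⟩ := P.isPGroup' ⟨_, hc1⟩
    have hm' : (a' * w * a'⁻¹ * w⁻¹) ^ p ^ m = 1 := congrArg Subtype.val hm
    refine Nat.eq_one_of_dvd_coprimes
      ((hp.coprime_iff_not_dvd.2 hK).pow_left m) (orderOf_dvd_of_pow_eq_one hm') ?_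
    rw [← Subgroup.orderOf_coe]
    exact Subgroup.orderOf_dvd_natCard K hc2
  have h' := congrArg Subtype.val hc
  simp only [Subgroup.coe_mul, Subgroup.coe_inv, OneMemClass.coe_one, ha', hw] at h'
  exact mul_inv_eq_iff_eq_mul.1 (mul_inv_eq_one.1 h')

/-- The normal subgroups of index a power of `p` contain `y`. -/
theorem mem_of_pgroup_quotient (hy : orderOf y = p) (h2 : ¬ p ^ 2 ∣ Nat.card H)
    (hnn : Nat.card (Subgroup.zpowers y) = p → ¬ (Subgroup.zpowers y).Normal) {χ : H → ℂ}
    (hχ : Cfsg.IsCharacter H χ) (hfaith : ∀ a, χ a = χ 1 → a = 1)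
    (hdeg : Cfsg.charDegree χ + 1 < p) (N : Subgroup H) [N.Normal] (hN : IsPGroup p (H ⧸ N)) :
    y ∈ N := by
  classical
  by_contra hyN
  have hp : p.Prime := Fact.out
  obtain ⟨a, ha⟩ := hN.exists_card_eq
  have hne : (QuotientGroup.mk' N y) ≠ 1 := fun h => hyN ((QuotientGroup.eq_one_iff y).1 h)
  have hord : orderOf (QuotientGroup.mk' N y) = p :=
    orderOf_eq_prime (by rw [← map_pow, ← hy, pow_orderOf_eq_one, map_one]) hne
  have hdvd : p ∣ Nat.card (H ⧸ N) := hord ▸ orderOf_dvd_natCard _
  have hcard : Nat.card (H ⧸ N) = p := by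
    match a, ha with
    | 0, ha => rw [ha, pow_zero] at hdvd; exact absurd (Nat.le_of_dvd one_pos hdvd) (by have := hp.two_le; omega)
    | 1, ha => rw [ha, pow_one]
    | a + 2, ha =>
      exact absurd (((pow_dvd_pow p (by omega : 2 ≤ a + 2)).trans (dvd_of_eq ha.symm)).trans
        (Subgroup.card_quotient_dvd_card N)) h2
  have hNp : ¬ p ∣ Nat.card N := fun h => h2 (by
    rw [N.card_eq_card_quotient_mul_card_subgroup, hcard, pow_two]
    exact mul_dvd_mul dvd_rfl h)
  have hcomm := centralizes hy hNp hχ hfaith hdeg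
  have htop : Subgroup.zpowers (QuotientGroup.mk' N y) = ⊤ :=
    Subgroup.eq_top_of_card_eq _ (by rw [Nat.card_zpowers, hord, hcard])
  refine hnn (by rw [Nat.card_zpowers, hy]) ⟨fun w hw g => ?_⟩
  obtain ⟨i, hi⟩ : QuotientGroup.mk' N g ∈ Subgroup.zpowers (QuotientGroup.mk' N y) := by
    rw [htop]; trivial
  have hu : (y ^ i)⁻¹ * g ∈ N := by
    rw [← QuotientGroup.eq_one_iff, QuotientGroup.mk_mul, QuotientGroup.mk_inv,
      QuotientGroup.mk_zpow]
    rw [QuotientGroup.mk'_apply, QuotientGroup.mk'_apply] at hi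
    rw [← hi, inv_mul_cancel]
  have hg : Commute g y := by
    have h1 : Commute ((y ^ i)⁻¹ * g) y := hcomm _ hu
    have h3 := ((Commute.refl y).zpow_left i).mul_left h1
    rwa [mul_inv_cancel_left] at h3
  obtain ⟨j, rfl⟩ := hw
  show g * y ^ j * g⁻¹ ∈ Subgroup.zpowers y
  rw [(hg.zpow_right j).eq, mul_inv_cancel_right]
  exact Subgroup.zpow_mem_zpowers y j

variable {k : Type u} [Field k] [CharP k p] [IsAlgClosed k] [Algebra (ZMod p) k]

/-- A small representation gives a map onto `PSL₂(p)`. -/
theorem exists_surj_of_small (hint : ∀ a : k, IsIntegral (ZMod p) a) (hp5 : 5 ≤ p)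
    (hy : orderOf y = p) (h2 : ¬ p ^ 2 ∣ Nat.card H) (hgen : Subgroup.normalClosure {y} = ⊤)
    (hq : ∀ N : Subgroup H, ∀ [N.Normal], IsPGroup p (H ⧸ N) → y ∈ N) {V : Type u}
    [AddCommGroup V] [Module k V] [FiniteDimensional k V] (c : H →* Module.End k V)
    (hd : 2 * Module.finrank k V + 1 ≤ p) (hcy : c y ≠ 1) :
    ∃ π : H →* Matrix.ProjectiveSpecialLinearGroup (Fin 2) (ZMod p), Function.Surjective π := by
  classical
  by_contra hno
  push Not at hno
  haveI : Nontrivial V := by
    by_contra h
    rw [not_nontrivial_iff_subsingleton] at h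
    exact hcy (LinearMap.ext fun v => Subsingleton.elim _ _)
  haveI : CharP (Module.End k V) p :=
    charP_of_injective_algebraMap (algebraMap k (Module.End k V)).injective p
  set n := Module.finrank k V
  have hnil : ∀ g, IsNilpotent (c g - 1) := by
    intro g
    refine Faithful.nilpotent_of_irreducible g n ?_ n V c rfl le_rfl
    intro W _ _ _ c' hW hirr hdim
    by_contra hne
    obtain ⟨π, hπ, -⟩ := Faithful.exists_surj hint hp5 hy h2 hgen c' hirr (by omega) fun h => hne (by
      have hle : Subgroup.normalClosure {y} ≤ c'.ker :=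
        Subgroup.normalClosure_le_normal (by simpa using h)
      exact hle (by rw [hgen]; trivial))
    exact hno π hπ
  refine hcy (MonoidHom.mem_ker.1 (hq c.ker fun q => ?_))
  obtain ⟨g, rfl⟩ := QuotientGroup.mk_surjective q
  obtain ⟨m, hm⟩ := hnil g
  refine ⟨m, ?_⟩
  rw [← QuotientGroup.mk_pow, QuotientGroup.eq_one_iff, MonoidHom.mem_ker, map_pow, ← sub_eq_zero]
  have h := sub_pow_char_pow_of_commute (p := p) (n := m) (Commute.one_right (c g))
  rw [one_pow] at h
  rw [← h, ← Nat.sub_add_cancel (Nat.lt_pow_self (Fact.out : p.Prime).one_lt).le, pow_add, hm,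
    mul_zero]

set_option maxHeartbeats 400000 in
/-- The representation of degree `(p + 1) / 2`. -/
theorem exists_surj (hint : ∀ a : k, IsIntegral (ZMod p) a) (hp : 7 < p)
    (hy : orderOf y = p) (h2 : ¬ p ^ 2 ∣ Nat.card H) (hgen : Subgroup.normalClosure {y} = ⊤)
    (hq : ∀ N : Subgroup H, ∀ [N.Normal], IsPGroup p (H ⧸ N) → y ∈ N) {V : Type u}
    [AddCommGroup V] [Module k V] [FiniteDimensional k V] (c : H →* Module.End k V)
    (hd : 2 * Module.finrank k V = p + 1) (hcy : c y ≠ 1) :
    ∃ π : H →* Matrix.ProjectiveSpecialLinearGroup (Fin 2) (ZMod p), Function.Surjective π := by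
  classical
  haveI : Nontrivial V := by
    by_contra h
    rw [not_nontrivial_iff_subsingleton] at h
    exact hcy (LinearMap.ext fun v => Subsingleton.elim _ _)
  haveI : CharP (Module.End k V) p :=
    charP_of_injective_algebraMap (algebraMap k (Module.End k V)).injective p
  set n := Module.finrank k V with hn
  by_cases hred : ∀ S : Submodule k V, (∀ g, ∀ v ∈ S, c g v ∈ S) → S = ⊥ ∨ S = ⊤
  swap
  · push Not at hred
    obtain ⟨S, hS, hS0, hS1⟩ := hred
    let cS : H →* Module.End k S :=
      { toFun := fun g => (c g).restrict (hS g)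
        map_one' := LinearMap.ext fun v => Subtype.ext (by simp)
        map_mul' := fun a b => LinearMap.ext fun v => Subtype.ext (by simp) }
    let cQ : H →* Module.End k (V ⧸ S) :=
      { toFun := fun g => S.mapQ S (c g) (hS g)
        map_one' := Submodule.linearMap_qext _ (LinearMap.ext fun v => by simp)
        map_mul' := fun a b => Submodule.linearMap_qext _ (LinearMap.ext fun v => by simp) }
    have hlt : Module.finrank k S < n := Submodule.finrank_lt hS1
    have hlt' : Module.finrank k (V ⧸ S) < n := by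
      have := S.finrank_quotient_add_finrank
      have : 0 < Module.finrank k S :=
        Nat.pos_of_ne_zero fun h => hS0 (Submodule.finrank_eq_zero.1 h)
      omega
    by_cases hSy : cS y = 1
    swap
    · exact exists_surj_of_small hint (by omega) hy h2 hgen hq cS (by omega) hSy
    by_cases hQy : cQ y = 1
    swap
    · exact exists_surj_of_small hint (by omega) hy h2 hgen hq cQ (by omega) hQy
    exfalso
    refine hcy (MonoidHom.mem_ker.1 (hq c.ker fun q => ?_))
    obtain ⟨g, rfl⟩ := QuotientGroup.mk_surjective q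
    have hker : cS g = 1 ∧ cQ g = 1 := by
      refine ⟨?_, ?_⟩
      · exact (Subgroup.normalClosure_le_normal (s := {y}) (N := cS.ker) (by simpa using hSy))
          (by rw [hgen]; trivial)
      · exact (Subgroup.normalClosure_le_normal (s := {y}) (N := cQ.ker) (by simpa using hQy))
          (by rw [hgen]; trivial)
    refine ⟨1, ?_⟩
    rw [pow_one, ← QuotientGroup.mk_pow, QuotientGroup.eq_one_iff, MonoidHom.mem_ker, map_pow,
      ← sub_eq_zero]
    have h := sub_pow_char_of_commute (p := p) (Commute.one_right (c g))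
    rw [one_pow] at h
    have hsq : (c g - 1) ^ 2 = 0 := by
      refine LinearMap.ext fun v => ?_
      have h1 : c g v - v ∈ S := by
        rw [← Submodule.Quotient.eq]
        exact LinearMap.congr_fun hker.2 (Submodule.Quotient.mk v)
      have h3 : c g (c g v - v) = c g v - v :=
        congrArg Subtype.val (LinearMap.congr_fun hker.1 ⟨_, h1⟩)
      rw [sq, Module.End.mul_apply, LinearMap.sub_apply (c g) 1 v, Module.End.one_apply,
        LinearMap.sub_apply, Module.End.one_apply, h3, sub_self]
      rfl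
    rw [← h, ← Nat.sub_add_cancel (Fact.out : p.Prime).two_le, pow_add, hsq, mul_zero]
  -- irreducible
  obtain ⟨m, l, ι, hm2, hl1, hlm, hιinj, hιX, -, hιN⟩ :=
    Block.exists_model c hred hy h2 hcy (by omega)
  by_cases hshort : 2 * m ≤ p
  · obtain ⟨π, hπ, -⟩ := Faithful.exists_surj_of_short hint (by omega) hy h2 hgen c hred (by omega)
      hshort (by rw [← hιX, ← map_one ι, ← map_sub, ← map_pow, Skew.pasc_pow_n, map_zero]) hcy
    exact ⟨π, hπ⟩
  have hl : l = 1 := by
    by_contra hne
    have : 2 * m ≤ l * m := Nat.mul_le_mul_right m (by omega)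
    omega
  rw [hl, one_mul] at hlm
  have hιsurj : Function.Surjective ι := by
    refine (LinearMap.injective_iff_surjective_of_finrank_eq_finrank (f := ι.toLinearMap) ?_).1 hιinj
    rw [Module.finrank_matrix, Module.finrank_self, mul_one, Fintype.card_fin,
      Module.finrank_linearMap, ← hn, hlm]
  let ε := AlgEquiv.ofBijective ι ⟨hιinj, hιsurj⟩
  let R : H →* Matrix (Fin m) (Fin m) k := (ε.symm.toMulEquiv.toMonoidHom).comp c
  have hιR : ∀ g, ι (R g) = c g := fun g => ε.apply_symm_apply (c g)
  obtain ⟨U, hU, hU5, u, hu, hux⟩ := Skew.exists_small (R := R) (k := k) hy h2 hp (by omega)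
    (hιinj (by rw [hιR, hιX])) (fun g hg v => by
      obtain ⟨L₃, hL₃⟩ := hιN g hg
      exact ⟨L₃ v, hιinj (by rw [map_mul, map_mul, hιR, hL₃])⟩)
  let cU : H →* Module.End k U :=
    { toFun := fun g => (Skew.skewAct R g).restrict (hU g)
      map_one' := LinearMap.ext fun v => Subtype.ext (by simp)
      map_mul' := fun a b => LinearMap.ext fun v => Subtype.ext (by simp) }
  have h11 : 11 ≤ p := by
    by_contra hlt
    have hpp := (Fact.out : p.Prime)
    interval_cases p <;> norm_num at hpp
  refine exists_surj_of_small (V := U) hint (by omega) hy h2 hgen hq cU (by omega) fun h => hux ?_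
  exact congrArg Subtype.val (LinearMap.congr_fun h ⟨u, hu⟩)

omit [Fact p.Prime] in
theorem dvd_card_psl [Fact p.Prime] (hp : 7 < p) :
    p ∣ Nat.card (Matrix.ProjectiveSpecialLinearGroup (Fin 2) (ZMod p)) := by
  have h := DicksonFull.card_psl_odd (F := ZMod p)
    (by rw [ZMod.card]; exact (Fact.out : p.Prime).odd_of_ne_two (by omega))
  rw [ZMod.card] at h
  have h1 : p ∣ 2 * Nat.card (Matrix.ProjectiveSpecialLinearGroup (Fin 2) (ZMod p)) :=
    (Nat.dvd_add_left dvd_rfl).1 (by rw [h]; exact dvd_pow_self p (by norm_num))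
  rcases (Fact.out : p.Prime).dvd_mul.1 h1 with h' | h'
  · have := Nat.le_of_dvd two_pos h'; omega
  · exact h'

/-- A map onto `PSL₂(p)` has the centre as kernel. -/
theorem ker_eq_center (hp : 7 < p) (hy : orderOf y = p) (h2 : ¬ p ^ 2 ∣ Nat.card H)
    (hgen : Subgroup.normalClosure {y} = ⊤) {χ : H → ℂ} (hχ : Cfsg.IsCharacter H χ)
    (hfaith : ∀ a, χ a = χ 1 → a = 1) (hdeg : Cfsg.charDegree χ + 1 < p)
    {π : H →* Matrix.ProjectiveSpecialLinearGroup (Fin 2) (ZMod p)} (hπ : Function.Surjective π) :
    π.ker = Subgroup.center H := by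
  haveI : IsSimpleGroup (Matrix.ProjectiveSpecialLinearGroup (Fin 2) (ZMod p)) :=
    Linear.isSimpleGroup_PSL le_rfl fun _ => by rw [Nat.card_zmod]; omega
  have hcop : ¬ p ∣ Nat.card π.ker := fun h => h2 (by
    rw [π.ker.card_eq_card_quotient_mul_card_subgroup, pow_two,
      Nat.card_congr (QuotientGroup.quotientKerEquivOfSurjective π hπ).toEquiv]
    exact mul_dvd_mul (dvd_card_psl hp) h)
  have hcomm := centralizes hy hcop hχ hfaith hdeg
  refine le_antisymm (fun z hz => ?_) fun z hz => ?_
  · rw [Subgroup.mem_center_iff]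
    intro g
    have hle : Subgroup.normalClosure {y} ≤ Subgroup.centralizer (π.ker : Set H) :=
      Subgroup.normalClosure_le_normal (by
        rw [Set.singleton_subset_iff, SetLike.mem_coe, Subgroup.mem_centralizer_iff]
        exact fun a ha => hcomm a ha)
    exact (Subgroup.mem_centralizer_iff.1 (hle (by rw [hgen]; trivial : g ∈ _)) z hz).symm
  · rw [MonoidHom.mem_ker]
    have hzc : π z ∈ Subgroup.center (Matrix.ProjectiveSpecialLinearGroup (Fin 2) (ZMod p)) := by
      rw [Subgroup.mem_center_iff]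
      intro w
      obtain ⟨g, rfl⟩ := hπ w
      rw [← map_mul, ← map_mul, Subgroup.mem_center_iff.1 hz g]
    rcases (inferInstance : (Subgroup.center
      (Matrix.ProjectiveSpecialLinearGroup (Fin 2) (ZMod p))).Normal).eq_bot_or_eq_top with h | h
    · rwa [h, Subgroup.mem_bot] at hzc
    · obtain ⟨a, b, hab⟩ := Linear.exists_not_commute_PSL (F := ZMod p) (ι := Fin 2)
        (Linear.commutator_SL_eq_top le_rfl fun _ => by rw [Nat.card_zmod]; omega)
      exact absurd (Subgroup.mem_center_iff.1 (h ▸ Subgroup.mem_top b) a) hab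

end Cfsg.Agent.Lib.FeitSmall.Half
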