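import Cfsg.Agent.Lib.FeitSmall.Budget
import Cfsg.Agent.Lib.FeitSmall.Half

/-!
# The exceptional family over any central character

With at least three classes the exceptional members over any central character have coordinates
`δ` times a unit vector, agree on regular elements and fix vectors under `x`.
-/

set_option autoImplicit false
set_option linter.unusedSectionVars false
set_option linter.style.haveILetI false

namespace Cfsg.Agent.Lib.FeitSmall.Slice

open Cfsg.Agent.Lib Cfsg.Agent.Lib.FirstPower Average Periods Cfsg.Agent.Lib.Characters.Basic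
open Family (pow_eq_one_of_order)
open Cfsg.Agent.Lib.DegSubTwo.Basic (lam pw pw_apply)
open Cfsg.Agent.Lib.DegSubTwo.Reduction (exists_conj_eq core')
open Setup Spikes Eigen Budget

attribute [local instance] BlocksChars5.Basic.irrFintype

universe u

variable {p : ℕ} [Fact p.Prime] {G : Type u} [Group G] [Finite G] {x : G}
  {ζ : Cfsg.IrrCharacter G} {s : G} {g : (ZMod p)ˣ}

/-- A normal subgroup whose order is divisible by `p` contains `x`. -/
theorem mem_of_dvd (h : Hyp p x ζ) (K : Subgroup G) [K.Normal] (hK : p ∣ Nat.card K) : x ∈ K := by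
  obtain ⟨⟨a, haK⟩, ha⟩ := exists_prime_orderOf_dvd_card' p hK
  rw [← Subgroup.orderOf_coe] at ha
  obtain ⟨-, b, -, hb⟩ := exists_conj_eq h.ord h.sq ⊤ (Subgroup.mem_top x) a ha
  have hbK : b * a * b⁻¹ ∈ K := (inferInstance : K.Normal).conj_mem a haK b
  have hzp : Subgroup.zpowers (b * a * b⁻¹) = Subgroup.zpowers x :=
    Subgroup.eq_of_le_of_card_ge (Subgroup.zpowers_le.2 hb) (by
      rw [Nat.card_zpowers, Nat.card_zpowers, h.ord, ← MulAut.conj_apply, MulEquiv.orderOf_eq, ha])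
  exact Subgroup.zpowers_le.2 hbK (hzp ▸ Subgroup.mem_zpowers x)

/-- A small character in which `x` is not in the kernel has degree at least `(p - 1) / 2`. -/
theorem le_of_moved (h : Hyp p x ζ) (χ : Cfsg.IrrCharacter G)
    (hx : (χ : G → ℂ) x ≠ (χ : G → ℂ) 1) : p ≤ 2 * Cfsg.charDegree (χ : G → ℂ) + 1 := by
  classical
  haveI := BlocksChars5.Basic.charKer_normal χ
  set K := BlocksChars5.Basic.charKer χ with hKdef
  have hxK : x ∉ K := fun hm => hx ((BlocksChars5.Basic.mem_charKer χ x).1 hm)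
  have hpK : ¬ p ∣ Nat.card K := fun hd => hxK (mem_of_dvd h K hd)
  have hcomm := Half.centralizes h.ord hpK (isCharacter_irr ζ) h.faith h.deg
  have hcen : ∀ a ∈ K, a ∈ Subgroup.center G := by
    intro a ha
    refine mem_center_of_core h fun b hb => ?_
    have hle : core' x ≤ Subgroup.centralizer (K : Set G) :=
      Subgroup.normalClosure_le_normal (by
        rw [Set.singleton_subset_iff, SetLike.mem_coe, Subgroup.mem_centralizer_iff]
        exact fun c hc => hcomm c hc)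
    exact Subgroup.mem_centralizer_iff.1 (hle hb) a ha
  obtain ⟨φ, hφ⟩ := BlocksChars5.Basic.exists_deflate χ K le_rfl
  have hφv : ∀ a : G, (φ : G ⧸ K → ℂ) a = (χ : G → ℂ) a := fun a => by
    rw [← hφ, BlocksChars5.Basic.inflate_apply]
  have hφdeg : Cfsg.charDegree (φ : G ⧸ K → ℂ) = Cfsg.charDegree (χ : G → ℂ) :=
    BlocksChars5.Basic.charDegree_congr (by rw [← hφv 1]; rfl)
  have hφf : ∀ q : G ⧸ K, (φ : G ⧸ K → ℂ) q = (φ : G ⧸ K → ℂ) 1 → q = 1 := by
    intro q
    obtain ⟨a, rfl⟩ := QuotientGroup.mk_surjective q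
    intro he
    rw [hφv, ← QuotientGroup.mk_one, hφv] at he
    exact (QuotientGroup.eq_one_iff a).mpr ((BlocksChars5.Basic.mem_charKer χ a).mpr he)
  have hne : (QuotientGroup.mk x : G ⧸ K) ≠ 1 := fun h' => hxK ((QuotientGroup.eq_one_iff x).1 h')
  have hord : orderOf (QuotientGroup.mk x : G ⧸ K) = p :=
    orderOf_eq_prime (by
      rw [← QuotientGroup.mk_pow, pow_eq_one_of_order h.ord, QuotientGroup.mk_one]) hne
  have h2K : ¬ p ^ 2 ∣ Nat.card (G ⧸ K) := fun h' =>
    h.sq (h'.trans (Subgroup.card_quotient_dvd_card K))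
  have hnnK : ∀ L : Subgroup (G ⧸ K), L.Normal → Nat.card L ≠ p := by
    intro L hL hcard
    haveI := hL
    have hLz := Cfsg.Agent.S4503.zpowers_of_dvd h2K hord hcard
    refine h.nn (Subgroup.zpowers x) ⟨fun w hw b => ?_⟩ (by rw [Nat.card_zpowers, h.ord])
    obtain ⟨i, rfl⟩ := hw
    have h1 : (QuotientGroup.mk (b * x * b⁻¹) : G ⧸ K) ∈
        Subgroup.zpowers (QuotientGroup.mk x : G ⧸ K) := by
      rw [hLz, QuotientGroup.mk_mul, QuotientGroup.mk_mul, QuotientGroup.mk_inv]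
      exact hL.conj_mem _ (hLz ▸ Subgroup.mem_zpowers _) _
    obtain ⟨j, hj⟩ := h1
    set c := (x ^ j)⁻¹ * (b * x * b⁻¹) with hc
    have hcK : c ∈ K := by
      rw [← QuotientGroup.eq]
      exact (QuotientGroup.mk_zpow K x j).trans hj
    have hcp : c ^ p = 1 := by
      have hz := hcen c hcK
      have hcm : Commute (x ^ j) c := Subgroup.mem_center_iff.1 hz _
      have h3 : (b * x * b⁻¹) ^ p = (x ^ j * c) ^ p := by rw [hc, mul_inv_cancel_left]
      rw [hcm.mul_pow, conj_pow, pow_eq_one_of_order h.ord, mul_one, mul_inv_cancel,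
        ← zpow_natCast, ← zpow_mul, mul_comm, zpow_mul, zpow_natCast, pow_eq_one_of_order h.ord,
        one_zpow, one_mul] at h3
      exact h3.symm
    have hc1 : c = 1 := by
      rcases (Nat.dvd_prime (Fact.out : p.Prime)).1 (orderOf_dvd_of_pow_eq_one hcp) with h4 | h4
      · exact orderOf_eq_one_iff.1 h4
      · exact absurd (h4 ▸ Subgroup.orderOf_dvd_natCard K hcK) hpK
    rw [hc, inv_mul_eq_one] at hc1
    show b * x ^ i * b⁻¹ ∈ Subgroup.zpowers x
    rw [← conj_zpow, ← hc1, ← zpow_mul]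
    exact Subgroup.zpow_mem_zpowers x _
  have := Cfsg.Agent.S4503.result p Fact.out (hord ▸ orderOf_dvd_natCard _) h2K hnnK
    (φ : G ⧸ K → ℂ) (isCharacter_irr φ) hφf
  rwa [hφdeg] at this

open scoped Classical in
/-- The family over the central character of `χ₀`. -/
structure Fam {G : Type u} [Group G] [Finite G] {p : ℕ} [Fact p.Prime] {x : G}
    {ζ : Cfsg.IrrCharacter G} (h : Hyp p x ζ) (χ₀ : Cfsg.IrrCharacter G)
    (Y : Cls h → Cfsg.IrrCharacter G) (δ : ℤ) : Prop where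
  inj : Function.Injective Y
  sign : δ = 1 ∨ δ = -1
  mem : ∀ κ, Y κ ∈ slice h (lam χ₀)
  val : ∀ κ q, crd h (Y κ) q = if q = κ then δ else 0
  rest : ∀ χ ∈ slice h (lam χ₀), (∃ κ, Y κ = χ) ∨ ∀ q q', crd h χ q = crd h χ q'
  reg : ∀ κ, ∀ a : G, ¬ p ∣ orderOf a → (Y κ : G → ℂ) a = (Y 1 : G → ℂ) a

open scoped Classical in
theorem exists_family (h : Hyp p x ζ) (ht : 3 ≤ Fintype.card (Cls h))
    (χ₀ : Cfsg.IrrCharacter G) : ∃ Y δ, Fam h χ₀ Y δ := by
  obtain ⟨Y, c, δ, hY, hδ, hmem, hval, hrest⟩ := exists_spikes h χ₀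
  have hc : c = 0 := (coord_bound h hY hδ hmem hval hrest).resolve_right fun h' => by omega
  subst hc
  simp only [zero_add] at hval
  refine ⟨Y, δ, hY, hδ, hmem, hval, hrest, fun κ a ha => ?_⟩
  obtain ⟨ψ, hψc, hψr, hψl⟩ := exists_fam h (Y 1) κ⁻¹
  have hcc : ∀ q, crd h ψ q = if q = κ then δ else 0 := fun q => by
    rw [hψc, hval]
    simp only [mul_inv_eq_one]
  have hψmem : ψ ∈ slice h (lam χ₀) :=
    (mem_slice h).2 fun z hz => (hψl z hz).trans ((mem_slice h).1 (hmem 1) z hz)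
  obtain ⟨κ', hκ'⟩ := (hrest ψ hψmem).resolve_right fun hc => by
    obtain ⟨b, hb⟩ := Fintype.exists_ne_of_one_lt_card
      (show 1 < Fintype.card (Cls h) by omega) κ
    have := hc b κ
    rw [hcc, hcc, if_neg hb, if_pos rfl] at this
    rcases hδ with rfl | rfl <;> omega
  have h1 := hcc κ'
  rw [← congrArg (fun χ : Cfsg.IrrCharacter G => crd h χ κ') hκ', hval, if_pos rfl] at h1
  have : κ' = κ := by
    by_contra hne
    rw [if_neg hne] at h1
    rcases hδ with rfl | rfl <;> omega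
  rw [← this, hκ', hψr a ha]

variable {h : Hyp p x ζ} {χ₀ : Cfsg.IrrCharacter G} {Y : Cls h → Cfsg.IrrCharacter G} {δ : ℤ}

open scoped Classical in
/-- The degree of a member. -/
theorem degree (F : Fam h χ₀ Y δ) (κ : Cls h) :
    ∃ c₀ : ℕ, (Cfsg.charDegree (Y κ : G → ℂ) : ℤ) =
        (p : ℤ) * c₀ + δ * Fintype.card (ex h) ∧
      ∑ a : ZMod p, (Y κ : G → ℂ) (x ^ a.val) = (p : ℂ) * c₀ := by
  obtain ⟨c₀, -, hdeg, hsum⟩ := exists_degree h (Y κ)
  refine ⟨c₀, ?_, hsum⟩
  have hte := congrArg (Nat.cast (R := ℤ)) (card_mul h)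
  push_cast [Nat.cast_sub (Fact.out : p.Prime).one_le] at hte
  rw [hdeg, show (p : ℤ) = (Fintype.card (Cls h) : ℤ) * Fintype.card (ex h) + 1 by linarith]
  simp only [F.val, mul_add, mul_ite, mul_zero, Finset.sum_add_distrib, Finset.sum_ite_eq',
    Finset.mem_univ, if_true, Finset.sum_const, Finset.card_univ, nsmul_eq_mul]
  ring

/-- The members fix vectors under `x`. -/
theorem sum_ne_zero (F : Fam h χ₀ Y δ) (ht : 3 ≤ Fintype.card (Cls h)) :
    ∑ a : ZMod p, (Y 1 : G → ℂ) (x ^ a.val) ≠ 0 := by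
  obtain ⟨c₀, hdeg, hsum⟩ := degree F 1
  rw [hsum]
  refine mul_ne_zero (Nat.cast_ne_zero.2 (Fact.out : p.Prime).ne_zero) (Nat.cast_ne_zero.2 ?_)
  intro h0
  rw [h0] at hdeg
  have hpos := DegreeBounds.Basic.charDegree_pos (Y 1)
  have he : Cfsg.charDegree (Y 1 : G → ℂ) = Fintype.card (ex h) := by
    rcases F.sign with h' | h' <;> rw [h'] at hdeg <;> push_cast at hdeg <;> omega
  have hp := h.lt
  have h3e : 3 * Fintype.card (ex h) ≤ Fintype.card (Cls h) * Fintype.card (ex h) :=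
    Nat.mul_le_mul_right _ ht
  have hte := card_mul h
  have hle := le_of_moved h (Y 1) ?_
  · omega
  intro heq
  -- then `x` would act trivially
  have hall : ∀ a : ZMod p, (Y 1 : G → ℂ) (x ^ a.val) = (Y 1 : G → ℂ) 1 := fun a => by
    haveI := BlocksChars5.Basic.charKer_normal (Y 1)
    exact (BlocksChars5.Basic.mem_charKer _ _).1
      (Subgroup.pow_mem _ ((BlocksChars5.Basic.mem_charKer _ _).2 heq) _)
  rw [Finset.sum_congr rfl fun a _ => hall a, Finset.sum_const, Finset.card_univ, ZMod.card,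
    nsmul_eq_mul, h0, Nat.cast_zero, mul_zero] at hsum
  exact mul_ne_zero (Nat.cast_ne_zero.2 (Fact.out : p.Prime).ne_zero) (apply_one_ne_zero _) hsum

open scoped Classical in
/-- The budget is the same on the whole family. -/
theorem bud_eq (E : Eig h s g) (F : Fam h χ₀ Y δ) (ν : ℂ) (κ : Cls h) :
    bud h s ν (Y κ : G → ℂ) = bud h s ν (Y 1 : G → ℂ) := by
  have hsum : ∀ κ, ∑ u : (ZMod p)ˣ, (Y κ : G → ℂ) (x ^ (u : ZMod p).val) =
      (δ : ℂ) * -(Fintype.card (ex h) : ℂ) := by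
    intro κ
    rw [← sum_units_eta h κ, Finset.mul_sum]
    refine Finset.sum_congr rfl fun u _ => ?_
    rw [crd_val h]
    simp [F.val]
  rw [bud_eval E (isClassFunction_irr (Y κ)), bud_eval E (isClassFunction_irr (Y 1)), hsum, hsum,
    F.reg κ 1 (by rw [orderOf_one]; exact (Fact.out : p.Prime).not_dvd_one)]
  refine congrArg _ (congrArg _ (congrArg _ (Finset.sum_congr rfl fun r _ => ?_)))
  rw [F.reg κ _ fun hd => E.reg (hd.trans (orderOf_pow_dvd r))]

/-- Some eigenvalue of `s` occurs on the fixed points of `x` in the family. -/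
theorem exists_weight (F : Fam h χ₀ Y δ) (ht : 3 ≤ Fintype.card (Cls h)) (s : G) (ν₀ : ℂ) :
    ∃ ν : ℂ, ν ^ Fintype.card (ex h) = ν₀ ^ Fintype.card (ex h) ∧
      bud h s ν (Y 1 : G → ℂ) ≠ 0 := by
  classical
  set e := Fintype.card (ex h) with he
  have he0 : e ≠ 0 := Fintype.card_pos.ne'
  have hω := Complex.isPrimitiveRoot_exp e he0
  set ω := Complex.exp (2 * Real.pi * Complex.I / e) with hωdef
  by_contra hcon
  push Not at hcon
  have hz : ∀ i ∈ Finset.range e, bud h s (ν₀ * ω ^ i) (Y 1 : G → ℂ) = 0 := fun i _ =>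
    hcon _ (by rw [mul_pow, ← pow_mul, mul_comm i e, pow_mul, hω.pow_eq_one, one_pow, mul_one])
  have h1 := Finset.sum_eq_zero hz
  simp only [bud, ← he, ← Finset.mul_sum] at h1
  rw [Finset.sum_comm] at h1
  have h2 : ∀ r ∈ Finset.range e,
      (∑ i ∈ Finset.range e, (ν₀ * ω ^ i)⁻¹ ^ r *
        ∑ a : ZMod p, (Y 1 : G → ℂ) (x ^ a.val * s ^ r)) =
      if r = 0 then (e : ℂ) * ∑ a : ZMod p, (Y 1 : G → ℂ) (x ^ a.val) else 0 := by
    intro r hr
    rw [← Finset.sum_mul]
    by_cases hr0 : r = 0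
    · subst hr0
      simp
    · rw [if_neg hr0]
      have hpr : ((ω ^ r)⁻¹ : ℂ) ≠ 1 := by
        rw [Ne, inv_eq_one]
        exact hω.pow_ne_one_of_pos_of_lt hr0 (Finset.mem_range.1 hr)
      have hg : ∑ i ∈ Finset.range e, (ν₀ * ω ^ i)⁻¹ ^ r =
          ν₀⁻¹ ^ r * ∑ i ∈ Finset.range e, ((ω ^ r)⁻¹) ^ i := by
        rw [Finset.mul_sum]
        refine Finset.sum_congr rfl fun i _ => ?_
        simp only [mul_inv, mul_pow, inv_pow, ← pow_mul, mul_comm r i]
      rw [hg, geom_sum_eq hpr, inv_pow (ω ^ r), ← pow_mul, mul_comm r e, pow_mul, hω.pow_eq_one,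
        one_pow, inv_one, sub_self, zero_div, mul_zero, zero_mul]
  rw [Finset.sum_congr rfl h2, Finset.sum_ite_eq', if_pos (Finset.mem_range.2 (by omega))] at h1
  exact mul_ne_zero (inv_ne_zero (Budget.cast_ne_zero h).2.2)
    (mul_ne_zero (Nat.cast_ne_zero.2 he0) (sum_ne_zero F ht)) h1

end Cfsg.Agent.Lib.FeitSmall.Slice
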