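import Mathlib.LinearAlgebra.Matrix.ToLin
import Mathlib.LinearAlgebra.FiniteDimensional.Lemmas

/-!
# The adjoint action of a shift on matrices

For the shift `N` the map `M ↦ N M - M N` moves the diagonal `d` to the diagonal `d + 1`.  Rank
and nullity on two diagonals give many classes of `ker D ^ m` modulo the image of `D ^ (p - m)`,
and the first row bounds the kernel of `D`.
-/

set_option autoImplicit false
set_option linter.unusedSectionVars false

namespace Cfsg.Agent.Lib.FeitSmall.Diag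

variable (k : Type*) [Field k] (n : ℕ)

/-- The shift. -/
def shiftM : Matrix (Fin n) (Fin n) k :=
  Matrix.of fun i j => if i.1 + 1 = j.1 then 1 else 0

/-- The commutator with the shift. -/
def dop : Module.End k (Matrix (Fin n) (Fin n) k) :=
  LinearMap.mulLeft k (shiftM k n) - LinearMap.mulRight k (shiftM k n)

/-- The matrices on one diagonal. -/
def band (d : ℤ) : Submodule k (Matrix (Fin n) (Fin n) k) where
  carrier := {M | ∀ i j : Fin n, (j.1 : ℤ) - i.1 ≠ d → M i j = 0}
  add_mem' ha hb i j h := by rw [Matrix.add_apply, ha i j h, hb i j h, add_zero]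
  zero_mem' i j _ := rfl
  smul_mem' c M hM i j h := by rw [Matrix.smul_apply, hM i j h, smul_zero]

/-- The projection to one diagonal. -/
def bandProj (d : ℤ) : Module.End k (Matrix (Fin n) (Fin n) k) where
  toFun M := Matrix.of fun i j => if (j.1 : ℤ) - i.1 = d then M i j else 0
  map_add' A B := by
    ext i j
    simp only [Matrix.add_apply, Matrix.of_apply]
    split_ifs <;> simp
  map_smul' c A := by
    ext i j
    simp only [Matrix.smul_apply, Matrix.of_apply, RingHom.id_apply, smul_ite, smul_zero]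

variable {k n}

theorem bandProj_apply (d : ℤ) (M : Matrix (Fin n) (Fin n) k) (i j : Fin n) :
    bandProj k n d M i j = if (j.1 : ℤ) - i.1 = d then M i j else 0 := rfl

theorem bandProj_mem (d : ℤ) (M : Matrix (Fin n) (Fin n) k) : bandProj k n d M ∈ band k n d :=
  fun i j h => by rw [bandProj_apply, if_neg h]

theorem bandProj_of_mem {d d' : ℤ} {M : Matrix (Fin n) (Fin n) k} (hM : M ∈ band k n d) :
    bandProj k n d' M = if d = d' then M else 0 := by
  ext i j
  rw [bandProj_apply]
  by_cases h : d = d'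
  · subst h
    rw [if_pos rfl]
    split_ifs with h1
    · rfl
    · rw [hM i j h1]
  · rw [if_neg h]
    split_ifs with h1
    · rw [hM i j (h1 ▸ Ne.symm h)]; rfl
    · rfl

theorem shift_mul (M : Matrix (Fin n) (Fin n) k) (i j : Fin n) :
    (shiftM k n * M) i j = if h : i.1 + 1 < n then M ⟨i.1 + 1, h⟩ j else 0 := by
  rw [Matrix.mul_apply]
  split_ifs with h
  · rw [Finset.sum_eq_single ⟨i.1 + 1, h⟩]
    · simp [shiftM]
    · intro b _ hb
      have : ¬ i.1 + 1 = b.1 := fun e => hb (Fin.ext e.symm)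
      simp [shiftM, this]
    · simp
  · refine Finset.sum_eq_zero fun b _ => ?_
    have : ¬ i.1 + 1 = b.1 := by omega
    simp [shiftM, this]

theorem mul_shift (M : Matrix (Fin n) (Fin n) k) (i j : Fin n) :
    (M * shiftM k n) i j = if h : 1 ≤ j.1 then M i ⟨j.1 - 1, by omega⟩ else 0 := by
  rw [Matrix.mul_apply]
  split_ifs with h
  · rw [Finset.sum_eq_single ⟨j.1 - 1, by omega⟩]
    · simp [shiftM, Nat.sub_add_cancel h]
    · intro b _ hb
      have : ¬ b.1 + 1 = j.1 := fun e => hb (Fin.ext (by simp only; omega))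
      simp [shiftM, this]
    · simp
  · refine Finset.sum_eq_zero fun b _ => ?_
    have : ¬ b.1 + 1 = j.1 := by omega
    simp [shiftM, this]

theorem dop_apply (M : Matrix (Fin n) (Fin n) k) (i j : Fin n) :
    dop k n M i j = (if h : i.1 + 1 < n then M ⟨i.1 + 1, h⟩ j else 0) -
      if h : 1 ≤ j.1 then M i ⟨j.1 - 1, by omega⟩ else 0 := by
  rw [← shift_mul, ← mul_shift]
  rfl

theorem proj_dop (d : ℤ) (M : Matrix (Fin n) (Fin n) k) :
    bandProj k n (d + 1) (dop k n M) = dop k n (bandProj k n d M) := by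
  ext i j
  rw [bandProj_apply, dop_apply, dop_apply]
  by_cases hd : (j.1 : ℤ) - i.1 = d + 1
  · rw [if_pos hd]
    congr 1
    · split_ifs with h
      · rw [bandProj_apply, if_pos (by push_cast; omega)]
      · rfl
    · split_ifs with h
      · rw [bandProj_apply, if_pos (by simp only; omega)]
      · rfl
  · rw [if_neg hd]
    have h1 : (if h : i.1 + 1 < n then bandProj k n d M ⟨i.1 + 1, h⟩ j else 0) = 0 := by
      split_ifs with h
      · rw [bandProj_apply, if_neg (by push_cast; omega)]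
      · rfl
    have h2 : (if h : 1 ≤ j.1 then bandProj k n d M i ⟨j.1 - 1, by omega⟩ else 0) = 0 := by
      split_ifs with h
      · rw [bandProj_apply, if_neg (by simp only; omega)]
      · rfl
    rw [h1, h2, sub_zero]

theorem proj_dop_pow (l : ℕ) : ∀ (d : ℤ) (M : Matrix (Fin n) (Fin n) k),
    bandProj k n d ((dop k n ^ l) M) = (dop k n ^ l) (bandProj k n (d - l) M) := by
  induction l with
  | zero => intro d M; simp
  | succ l ih =>
    intro d M
    rw [pow_succ', Module.End.mul_apply, Module.End.mul_apply]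
    have h1 := proj_dop (d - 1) ((dop k n ^ l) M)
    rw [sub_add_cancel] at h1
    rw [h1, ih, show d - 1 - (l : ℤ) = d - ((l + 1 : ℕ) : ℤ) by push_cast; ring]

theorem dop_pow_mem {d : ℤ} {M : Matrix (Fin n) (Fin n) k} (hM : M ∈ band k n d) (l : ℕ) :
    (dop k n ^ l) M ∈ band k n (d + l) := by
  have h1 := proj_dop_pow l (d + l) M
  rw [add_sub_cancel_right, bandProj_of_mem hM, if_pos rfl] at h1
  rw [← h1]
  exact bandProj_mem _ _

/-- The rows meeting one diagonal. -/
def bandEquiv (d : ℤ) : band k n d ≃ₗ[k] ({i : Fin n // 0 ≤ (i.1 : ℤ) + d ∧ (i.1 : ℤ) + d < n} → k) where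
  toFun M i := (M : Matrix (Fin n) (Fin n) k) i.1 ⟨((i.1.1 : ℤ) + d).toNat, by have := i.2; omega⟩
  map_add' A B := rfl
  map_smul' c A := rfl
  invFun f := ⟨Matrix.of fun i j =>
      if h : (j.1 : ℤ) - i.1 = d then f ⟨i, by omega⟩ else 0,
    fun i j h => by rw [Matrix.of_apply, dif_neg h]⟩
  left_inv M := by
    apply Subtype.ext
    ext i j
    simp only [Matrix.of_apply]
    split_ifs with h
    · exact congrArg _ (Fin.ext (by simp only; omega))
    · exact (M.2 i j h).symm
  right_inv f := by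
    funext i
    have hi := i.2
    simp only [Matrix.of_apply]
    rw [dif_pos (by omega)]

theorem finrank_band (d : ℤ) : Module.finrank k (band k n d) = n - d.natAbs := by
  rw [(bandEquiv d).finrank_eq, Module.finrank_pi, ← Fintype.card_fin (n - d.natAbs)]
  refine Fintype.card_congr
    { toFun := fun i => ⟨i.1.1 - (-d).toNat, by have := i.2; omega⟩
      invFun := fun a => ⟨⟨a.1 + (-d).toNat, by omega⟩, by simp only; omega⟩
      left_inv := fun i => Subtype.ext (Fin.ext (by have := i.2; simp only; omega))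
      right_inv := fun a => Fin.ext (by simp only; omega) }

/-- Enough classes on one diagonal. -/
theorem exists_classes (d : ℤ) (m l : ℕ) :
    ∃ U : Submodule k (Matrix (Fin n) (Fin n) k), U ≤ band k n d ∧
      (∀ u ∈ U, (dop k n ^ m) u = 0) ∧ (∀ u ∈ U, ∀ M, (dop k n ^ l) M = u → u = 0) ∧
      n - d.natAbs ≤ Module.finrank k U + (n - (d + m).natAbs) + (n - (d - l).natAbs) := by
  set K₀ := LinearMap.ker (dop k n ^ m) ⊓ band k n d with hK₀
  set R₀ := K₀ ⊓ LinearMap.range (dop k n ^ l) with hR₀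
  obtain ⟨C, hC⟩ := Submodule.exists_isCompl R₀
  refine ⟨C ⊓ K₀, fun u hu => hu.2.2, fun u hu => hu.2.1, fun u hu M hM => ?_, ?_⟩
  · exact (Submodule.disjoint_def.1 hC.disjoint) u ⟨hu.2, M, hM⟩ hu.1
  have hKdim : n - d.natAbs ≤ Module.finrank k K₀ + (n - (d + m).natAbs) := by
    let f : band k n d →ₗ[k] band k n (d + m) :=
      ((dop k n ^ m).domRestrict (band k n d)).codRestrict _ fun M => dop_pow_mem M.2 m
    have h1 := f.finrank_range_add_finrank_ker
    have h2 := Submodule.finrank_le (LinearMap.range f)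
    have h3 : Module.finrank k (LinearMap.ker f) ≤ Module.finrank k K₀ :=
      LinearMap.finrank_le_finrank_of_injective
        (f := ((band k n d).subtype ∘ₗ (LinearMap.ker f).subtype).codRestrict K₀
          fun M => ⟨congrArg Subtype.val M.2, M.1.2⟩)
        fun a b h => Subtype.ext (Subtype.ext (congrArg Subtype.val h :))
    rw [finrank_band] at h1 h2
    omega
  have hRdim : Module.finrank k R₀ ≤ n - (d - l).natAbs := by
    have hle : R₀ ≤ (band k n (d - l)).map (dop k n ^ l) := by
      rintro u ⟨⟨-, hu⟩, M, rfl⟩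
      refine ⟨bandProj k n (d - l) M, bandProj_mem _ _, ?_⟩
      rw [← proj_dop_pow, bandProj_of_mem hu, if_pos rfl]
    exact (Submodule.finrank_mono hle).trans ((Submodule.finrank_map_le _ _).trans
      (le_of_eq (finrank_band _)))
  have hsum : R₀ ⊔ C ⊓ K₀ = K₀ := by
    rw [← sup_inf_assoc_of_le C (inf_le_left : R₀ ≤ K₀), hC.sup_eq_top, top_inf_eq]
  have h4 := Submodule.finrank_sup_add_finrank_inf_eq R₀ (C ⊓ K₀)
  have h5 : R₀ ⊓ (C ⊓ K₀) = ⊥ := by rw [← inf_assoc, hC.inf_eq_bot, bot_inf_eq]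
  rw [hsum, h5, finrank_bot] at h4
  omega

/-- The arithmetic of two diagonals. -/
theorem two_bands {n p e m w a b : ℕ} (hn : n + e = p) (h4 : 4 * e < p) (hm : m ≤ p) (hw : w < e)
    (ha : n - (w : ℤ).natAbs ≤
      a + (n - ((w : ℤ) + m).natAbs) + (n - ((w : ℤ) - (p - m : ℕ)).natAbs))
    (hb : n - ((w : ℤ) - e).natAbs ≤
      b + (n - ((w : ℤ) - e + m).natAbs) + (n - ((w : ℤ) - e - (p - m : ℕ)).natAbs)) :
    min (min m (p - m)) (2 * e) ≤ 2 * (a + b) := by
  omega

/-- Enough classes with one weight. -/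
theorem exists_big {p e m w : ℕ} (hn : n + e = p) (h4 : 4 * e < p) (hm : m ≤ p) (hw : w < e) :
    ∃ U : Submodule k (Matrix (Fin n) (Fin n) k),
      (∀ u ∈ U, (dop k n ^ m) u = 0) ∧
      (∀ u ∈ U, ∀ i j : Fin n, ¬ (e : ℤ) ∣ (j.1 : ℤ) - i.1 - w → u i j = 0) ∧
      (∀ u ∈ U, ∀ M, (dop k n ^ (p - m)) M = u → u = 0) ∧
      min (min m (p - m)) (2 * e) ≤ 2 * Module.finrank k U := by
  obtain ⟨A, hA, hA1, hA2, hA3⟩ := exists_classes (k := k) (n := n) (w : ℤ) m (p - m)
  obtain ⟨B, hB, hB1, hB2, hB3⟩ := exists_classes (k := k) (n := n) ((w : ℤ) - e) m (p - m)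
  have hne : ((w : ℤ) - e) ≠ (w : ℤ) := by omega
  refine ⟨A ⊔ B, fun u hu => ?_, fun u hu i j hij => ?_, fun u hu M hM => ?_, ?_⟩
  · obtain ⟨a, ha, b, hb, rfl⟩ := Submodule.mem_sup.1 hu
    rw [map_add, hA1 a ha, hB1 b hb, add_zero]
  · obtain ⟨a, ha, b, hb, rfl⟩ := Submodule.mem_sup.1 hu
    rw [Matrix.add_apply, hA ha i j (fun h => hij ⟨0, by omega⟩),
      hB hb i j (fun h => hij ⟨-1, by omega⟩), add_zero]
  · obtain ⟨a, ha, b, hb, rfl⟩ := Submodule.mem_sup.1 hu
    have e1 := congrArg (bandProj k n (w : ℤ)) hM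
    rw [proj_dop_pow, map_add, bandProj_of_mem (hA ha), bandProj_of_mem (hB hb), if_pos rfl,
      if_neg hne, add_zero] at e1
    have e2 := congrArg (bandProj k n ((w : ℤ) - e)) hM
    rw [proj_dop_pow, map_add, bandProj_of_mem (hA ha), bandProj_of_mem (hB hb), if_neg hne.symm,
      if_pos rfl, zero_add] at e2
    rw [hA2 a ha _ e1, hB2 b hb _ e2, add_zero]
  · have hdisj : A ⊓ B = ⊥ := by
      rw [Submodule.eq_bot_iff]
      rintro u ⟨hu, hu'⟩
      have := bandProj_of_mem (d' := (w : ℤ)) (hA hu)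
      rwa [bandProj_of_mem (hB hu'), if_neg hne, if_pos rfl, eq_comm] at this
    have h := Submodule.finrank_sup_add_finrank_inf_eq A B
    rw [hdisj, finrank_bot, add_zero] at h
    rw [h]
    exact two_bands hn h4 hm hw hA3 hB3

/-- Few vectors killed by `D` with one weight. -/
theorem finrank_le_of_kernel {e w t : ℕ} (he : 0 < e) (hw : w < e) (hn : n ≤ t * e)
    (U : Submodule k (Matrix (Fin n) (Fin n) k)) (hD : ∀ u ∈ U, dop k n u = 0)
    (hU : ∀ u ∈ U, ∀ i j : Fin n, ¬ (e : ℤ) ∣ (j.1 : ℤ) - i.1 - w → u i j = 0) :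
    Module.finrank k U ≤ t := by
  rcases Nat.eq_zero_or_pos n with hn0 | hn0
  · subst hn0
    refine le_trans (Submodule.finrank_le U) ?_
    rw [Module.finrank_matrix]; simp
  let f : U →ₗ[k] ({j : Fin n // j.1 % e = w} → k) :=
    LinearMap.pi fun j =>
      { toFun := fun u => (u : Matrix (Fin n) (Fin n) k) ⟨0, hn0⟩ j.1
        map_add' := fun a b => rfl
        map_smul' := fun c a => rfl }
  have hf : Function.Injective f := by
    rw [← LinearMap.ker_eq_bot, Submodule.eq_bot_iff]
    intro u hu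
    rw [LinearMap.mem_ker] at hu
    have key : ∀ (i : ℕ) (hi : i < n) (j : Fin n), (u : Matrix (Fin n) (Fin n) k) ⟨i, hi⟩ j = 0 := by
      intro i
      induction i with
      | zero =>
        intro hi j
        by_cases hj : j.1 % e = w
        · exact congrFun hu ⟨j, hj⟩
        · refine hU u u.2 _ j fun hd => hj ?_
          have h1 : (((j.1 : ℕ) : ℤ) % (e : ℤ)) = ((w : ℕ) : ℤ) % (e : ℤ) :=
            (Int.emod_eq_emod_iff_emod_sub_eq_zero).2 (Int.emod_eq_zero_of_dvd (by simpa using hd))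
          rw [← Int.natCast_mod, ← Int.natCast_mod, Nat.mod_eq_of_lt hw] at h1
          exact_mod_cast h1
      | succ i ih =>
        intro hi j
        have h1 := congrFun (congrFun (hD u u.2) ⟨i, by omega⟩) j
        rw [dop_apply, dif_pos hi, Matrix.zero_apply, sub_eq_zero] at h1
        rw [h1]
        split_ifs
        · exact ih _ _
        · rfl
    exact Subtype.ext (Matrix.ext fun i j => key i.1 i.2 j)
  refine (LinearMap.finrank_le_finrank_of_injective hf).trans ?_
  rw [Module.finrank_pi]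
  refine le_trans (Fintype.card_le_of_injective
    (fun j => (⟨j.1.1 / e, (Nat.div_lt_iff_lt_mul he).2 (lt_of_lt_of_le j.1.2 hn)⟩ : Fin t))
    fun a b h => ?_) (le_of_eq (Fintype.card_fin t))
  have h1 : a.1.1 / e = b.1.1 / e := congrArg Fin.val h
  refine Subtype.ext (Fin.ext ?_)
  rw [← Nat.div_add_mod a.1.1 e, ← Nat.div_add_mod b.1.1 e, h1, a.2, b.2]

end Cfsg.Agent.Lib.FeitSmall.Diag
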