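import Mathlib.LinearAlgebra.Dual.Lemmas
import Mathlib.LinearAlgebra.FiniteDimensional.Basic
import Mathlib.RingTheory.RootsOfUnity.AlgebraicallyClosed
import Mathlib.Algebra.Field.GeomSum

/-!
# Strings

For a nilpotent map and a semisimple symmetry scaling it, the space has a basis of strings
generated by eigenvectors of the symmetry.
-/

set_option autoImplicit false
set_option linter.unusedSectionVars false
set_option linter.style.haveILetI false

namespace Cfsg.Agent.Lib.FeitSmall.Strings

universe u v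

variable {k : Type u} [Field k] [IsAlgClosed k]

/-- An eigenvector outside the kernel of a map. -/
theorem exists_eig_vec {W : Type v} [AddCommGroup W] [Module k W] {W' : Type*} [AddCommGroup W']
    [Module k W'] {S : Module.End k W} {r : ℕ} (hr : (r : k) ≠ 0) (hS : S ^ r = 1)
    (P : W →ₗ[k] W') {w₀ : W} (hw₀ : P w₀ ≠ 0) :
    ∃ (ν : k) (w : W), ν ^ r = 1 ∧ S w = ν • w ∧ P w ≠ 0 := by
  haveI : NeZero (r : k) := ⟨hr⟩
  haveI : NeZero r := ⟨fun h => hr (by rw [h, Nat.cast_zero])⟩
  obtain ⟨ω, hω⟩ := HasEnoughRootsOfUnity.exists_primitiveRoot k r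
  have hr0 : r ≠ 0 := NeZero.ne r
  let π : ℕ → W := fun j => ∑ i ∈ Finset.range r, ((ω ^ j)⁻¹) ^ i • (S ^ i) w₀
  have hω0 : ω ≠ 0 := hω.ne_zero hr0
  have hsum : ∑ j ∈ Finset.range r, π j = (r : k) • w₀ := by
    simp only [π]
    rw [Finset.sum_comm, Finset.sum_eq_single 0]
    · simp [Nat.cast_smul_eq_nsmul]
    · intro i hi hi0
      rw [← Finset.sum_smul]
      have h1 : ∑ j ∈ Finset.range r, ((ω ^ j)⁻¹) ^ i = ∑ j ∈ Finset.range r, ((ω⁻¹) ^ i) ^ j :=
        Finset.sum_congr rfl fun j _ => by rw [← inv_pow, ← pow_mul, ← pow_mul, mul_comm]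
      have h2 : (ω⁻¹) ^ i ≠ 1 := hω.inv.pow_ne_one_of_pos_of_lt hi0 (Finset.mem_range.1 hi)
      rw [h1, geom_sum_eq h2, ← pow_mul, mul_comm i r, pow_mul, hω.inv.pow_eq_one, one_pow,
        sub_self, zero_div, zero_smul]
    · intro h0
      exact absurd (Finset.mem_range.2 (Nat.pos_of_ne_zero hr0)) h0
  obtain ⟨j, hj, hne⟩ : ∃ j ∈ Finset.range r, P (π j) ≠ 0 := by
    by_contra hcon
    push Not at hcon
    have h1 := congrArg P hsum
    rw [map_sum, Finset.sum_eq_zero hcon, map_smul, eq_comm, smul_eq_zero] at h1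
    exact h1.elim hr hw₀
  refine ⟨ω ^ j, π j, by rw [← pow_mul, mul_comm, pow_mul, hω.pow_eq_one, one_pow], ?_, hne⟩
  simp only [π, map_sum, map_smul, Finset.smul_sum, smul_smul]
  have hper : ∀ i, i < r → ((ω ^ j)⁻¹) ^ i • S ((S ^ i) w₀) =
      (ω ^ j * ((ω ^ j)⁻¹) ^ ((i + 1) % r)) • (S ^ ((i + 1) % r)) w₀ := by
    intro i hi
    have hν : ((ω ^ j)⁻¹) ^ r = 1 := by
      rw [inv_pow, ← pow_mul, mul_comm, pow_mul, hω.pow_eq_one, one_pow, inv_one]
    rw [← pow_eq_pow_mod (i + 1) hν, ← pow_eq_pow_mod (i + 1) hS, ← Module.End.mul_apply,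
      ← pow_succ', pow_succ' ((ω ^ j)⁻¹) i, ← mul_assoc,
      mul_inv_cancel₀ (pow_ne_zero _ hω0), one_mul]
  rw [Finset.sum_congr rfl fun i hi => hper i (Finset.mem_range.1 hi)]
  refine Finset.sum_nbij' (fun i => (i + 1) % r) (fun i => (i + (r - 1)) % r) ?_ ?_ ?_ ?_ ?_
  · exact fun i _ => Finset.mem_range.2 (Nat.mod_lt _ (Nat.pos_of_ne_zero hr0))
  · exact fun i _ => Finset.mem_range.2 (Nat.mod_lt _ (Nat.pos_of_ne_zero hr0))
  · intro i hi
    rw [Finset.mem_range] at hi
    rw [Nat.mod_add_mod, show i + 1 + (r - 1) = i + r by omega, Nat.add_mod_right,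
      Nat.mod_eq_of_lt hi]
  · intro i hi
    rw [Finset.mem_range] at hi
    rw [Nat.mod_add_mod, show i + (r - 1) + 1 = i + r by omega, Nat.add_mod_right,
      Nat.mod_eq_of_lt hi]
  · intro i hi
    rfl

/-- The combination of strings. -/
def comb {W : Type v} [AddCommGroup W] [Module k W] (N : Module.End k W) {l : ℕ} (v : Fin l → W)
    (m : Fin l → ℕ) : ((a : Fin l) → Fin (m a) → k) →ₗ[k] W where
  toFun f := ∑ a, ∑ i : Fin (m a), f a i • (N ^ i.1) (v a)
  map_add' f g := by simp [add_smul, Finset.sum_add_distrib]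
  map_smul' c f := by simp [Finset.smul_sum, smul_smul]

theorem comb_apply {W : Type v} [AddCommGroup W] [Module k W] (N : Module.End k W) {l : ℕ}
    (v : Fin l → W) (m : Fin l → ℕ) (f : (a : Fin l) → Fin (m a) → k) :
    comb N v m f = ∑ a, ∑ i : Fin (m a), f a i • (N ^ i.1) (v a) := rfl

/-- A basis of strings generated by eigenvectors. -/
theorem exists_strings {r : ℕ} (hr : (r : k) ≠ 0) {γ : k} (hγ : γ ≠ 0) (p : ℕ) :
    ∀ (d : ℕ) (W : Type v) [AddCommGroup W] [Module k W] [FiniteDimensional k W],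
      ∀ N S : Module.End k W, Module.finrank k W = d → S * N = γ • (N * S) → S ^ r = 1 →
        N ^ p = 0 →
      ∃ (l : ℕ) (v : Fin l → W) (m : Fin l → ℕ) (ν : Fin l → k),
        (∀ a, 0 < m a ∧ m a ≤ p ∧ (N ^ m a) (v a) = 0 ∧ S (v a) = ν a • v a ∧ ν a ^ r = 1) ∧
        Function.Bijective (comb N v m) := by
  classical
  intro d
  induction d using Nat.strong_induction_on with
  | _ d ih =>
    intro W _ _ _ N S hd hSN hS hN
    rcases subsingleton_or_nontrivial W with hW | hW
    · exact ⟨0, Fin.elim0, Fin.elim0, Fin.elim0, fun a => a.elim0,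
        ⟨fun f g _ => funext fun a => a.elim0, fun w => ⟨fun a => a.elim0, Subsingleton.elim _ _⟩⟩⟩
    have hex : ∃ m, N ^ m = 0 := ⟨p, hN⟩
    set m := Nat.find hex with hmdef
    have hNm : N ^ m = 0 := Nat.find_spec hex
    have hmp : m ≤ p := Nat.find_le hN
    have hm0 : 0 < m := by
      refine Nat.pos_of_ne_zero fun h0 => ?_
      rw [h0, pow_zero] at hNm
      exact one_ne_zero hNm
    obtain ⟨w₀, hw₀⟩ : ∃ w, (N ^ (m - 1)) w ≠ 0 := by
      by_contra hcon
      push Not at hcon
      exact Nat.find_min hex (show m - 1 < m by omega) (LinearMap.ext hcon)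
    obtain ⟨ν, v, hν, hSv, hv⟩ := exists_eig_vec hr hS (N ^ (m - 1)) hw₀
    have hSd : (S.dualMap : Module.End k (Module.Dual k W)) ^ r = 1 := by
      have key : ∀ n : ℕ, ∀ (f : Module.Dual k W) (w : W),
          (((S.dualMap : Module.End k (Module.Dual k W)) ^ n) f) w = f ((S ^ n) w) := by
        intro n
        induction n with
        | zero => intro f w; simp
        | succ n ihn =>
          intro f w
          rw [pow_succ, Module.End.mul_apply, ihn, LinearMap.dualMap_apply, pow_succ',
            Module.End.mul_apply]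
      refine LinearMap.ext fun f => LinearMap.ext fun w => ?_
      rw [key, hS]
      rfl
    obtain ⟨f₀, hf₀⟩ : ∃ f : Module.Dual k W, f ((N ^ (m - 1)) v) ≠ 0 := by
      by_contra hcon
      push Not at hcon
      exact hv ((Module.forall_dual_apply_eq_zero_iff k _).1 hcon)
    obtain ⟨η, f, -, hSf, hfv⟩ := exists_eig_vec hr hSd
      (Module.Dual.eval k W ((N ^ (m - 1)) v)) (w₀ := f₀) hf₀
    change f ((N ^ (m - 1)) v) ≠ 0 at hfv
    have hfS : ∀ w, f (S w) = η * f w := fun w => by
      have := LinearMap.congr_fun hSf w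
      simpa using this
    set Λ : W →ₗ[k] (Fin m → k) := LinearMap.pi fun i => f.comp (N ^ i.1) with hΛ
    set Ψ : (Fin m → k) →ₗ[k] W := ∑ i : Fin m,
      (LinearMap.proj i : (Fin m → k) →ₗ[k] k).smulRight ((N ^ i.1) v) with hΨ
    have hΨapply : ∀ c, Ψ c = ∑ i : Fin m, c i • (N ^ i.1) v := fun c => by
      simp [hΨ, LinearMap.sum_apply]
    have hbig : ∀ j, m ≤ j → N ^ j = 0 := fun j hj => by
      rw [← Nat.sub_add_cancel hj, pow_add, hNm, mul_zero]
    have hinj : Function.Injective (Λ ∘ₗ Ψ) := by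
      rw [← LinearMap.ker_eq_bot, Submodule.eq_bot_iff]
      intro c hc
      rw [LinearMap.mem_ker] at hc
      have key : ∀ n (hn : n < m), c ⟨n, hn⟩ = 0 := by
        intro n
        induction n using Nat.strong_induction_on with
        | _ n ihn =>
          intro hn
          have h1 := congrFun hc ⟨m - 1 - n, by omega⟩
          rw [LinearMap.comp_apply, hΛ, LinearMap.pi_apply, LinearMap.comp_apply, hΨapply, map_sum,
            map_sum, Finset.sum_eq_single (⟨n, hn⟩ : Fin m)] at h1
          · rw [map_smul, map_smul, ← Module.End.mul_apply, ← pow_add,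
              show m - 1 - n + n = m - 1 by omega, smul_eq_mul, Pi.zero_apply] at h1
            exact (mul_eq_zero.1 h1).resolve_right hfv
          · intro i _ hi
            rcases Nat.lt_or_gt_of_ne (fun e => hi (Fin.ext e)) with hlt | hgt
            · rw [show c i = 0 from ihn i.1 hlt i.2]
              simp
            · rw [map_smul, map_smul, ← Module.End.mul_apply, ← pow_add,
                hbig (m - 1 - n + i.1) (by simp only at hgt; omega)]
              simp
          · simp
      exact funext fun i => key i.1 i.2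
    have hbij : Function.Bijective (Λ ∘ₗ Ψ) :=
      ⟨hinj, LinearMap.injective_iff_surjective.1 hinj⟩
    set K := LinearMap.ker Λ with hK
    have hKmem : ∀ w, w ∈ K ↔ ∀ i : Fin m, f ((N ^ i.1) w) = 0 := fun w => by
      rw [hK, LinearMap.mem_ker, funext_iff]
      rfl
    have hfN : ∀ w ∈ K, ∀ j : ℕ, f ((N ^ j) w) = 0 := by
      intro w hw j
      rcases Nat.lt_or_ge j m with hj | hj
      · exact (hKmem w).1 hw ⟨j, hj⟩
      · rw [hbig j hj]
        simp
    have hKN : ∀ w ∈ K, N w ∈ K := fun w hw => (hKmem _).2 fun i => by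
      rw [← Module.End.mul_apply, ← pow_succ]
      exact hfN w hw _
    have hSpow : ∀ i : ℕ, S * N ^ i = γ ^ i • (N ^ i * S) := by
      intro i
      induction i with
      | zero => simp
      | succ i ih' =>
        rw [pow_succ, ← mul_assoc, ih', smul_mul_assoc, mul_assoc, hSN, mul_smul_comm, smul_smul,
          pow_succ, ← mul_assoc]
    have hKS : ∀ w ∈ K, S w ∈ K := fun w hw => (hKmem _).2 fun i => by
      have h1 := congrArg f (LinearMap.congr_fun (hSpow i.1) w)
      rw [Module.End.mul_apply, hfS, hfN w hw, mul_zero, LinearMap.smul_apply,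
        Module.End.mul_apply, map_smul, smul_eq_mul] at h1
      exact (mul_eq_zero.1 h1.symm).resolve_left (pow_ne_zero _ hγ)
    -- the complement
    let NK : Module.End k K := N.restrict hKN
    let SK : Module.End k K := S.restrict hKS
    have hlt : Module.finrank k K < d := by
      rw [← hd]
      refine Submodule.finrank_lt fun htop => hfv ?_
      have hvK : v ∈ K := by rw [htop]; trivial
      exact hfN v hvK (m - 1)
    have hpowK : ∀ (n : ℕ) (w : K), ((NK ^ n) w : W) = (N ^ n) w := by
      intro n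
      induction n with
      | zero => intro w; simp
      | succ n ihn =>
        intro w
        rw [pow_succ, Module.End.mul_apply, ihn, pow_succ, Module.End.mul_apply]
        rfl
    have hSKr : SK ^ r = 1 := by
      have key : ∀ (n : ℕ) (w : K), ((SK ^ n) w : W) = (S ^ n) w := by
        intro n
        induction n with
        | zero => intro w; simp
        | succ n ihn =>
          intro w
          rw [pow_succ, Module.End.mul_apply, ihn, pow_succ, Module.End.mul_apply]
          rfl
      exact LinearMap.ext fun w => Subtype.ext (by rw [key, hS]; rfl)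
    obtain ⟨l, v', m', ν', hprop, hbijK⟩ := ih _ hlt K NK SK rfl
      (LinearMap.ext fun w => Subtype.ext (LinearMap.congr_fun hSN w.1)) hSKr
      (LinearMap.ext fun w => Subtype.ext (by rw [hpowK, hN]; rfl))
    refine ⟨l + 1, Fin.cons v fun a => (v' a : W), Fin.cons m m', Fin.cons ν ν', ?_, ?_⟩
    · intro a
      refine Fin.cases ?_ ?_ a
      · simp only [Fin.cons_zero]
        exact ⟨hm0, hmp, by rw [hNm]; rfl, hSv, hν⟩
      · intro b
        simp only [Fin.cons_succ]
        obtain ⟨h1, h2, h3, h4, h5⟩ := hprop b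
        refine ⟨h1, h2, ?_, congrArg Subtype.val h4, h5⟩
        rw [← hpowK, h3]
        rfl
    have hcomb : ∀ fn : (a : Fin (l + 1)) → Fin ((Fin.cons m m' : Fin (l + 1) → ℕ) a) → k,
        comb N (Fin.cons v fun a => (v' a : W)) (Fin.cons m m') fn =
          Ψ (fn 0) + (comb NK v' m' (fun b => fn b.succ) : W) := by
      intro fn
      rw [comb_apply, Fin.sum_univ_succ]
      refine congrArg₂ (· + ·) (hΨapply (fn 0)).symm ?_
      show _ = ((∑ b, ∑ i : Fin (m' b), fn b.succ i • (NK ^ i.1) (v' b) : K) : W)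
      push_cast
      refine Finset.sum_congr rfl fun b _ => Finset.sum_congr rfl fun i _ => ?_
      exact congrArg _ (hpowK i.1 (v' b)).symm
    constructor
    · rw [← LinearMap.ker_eq_bot, Submodule.eq_bot_iff]
      intro fn hfn
      rw [LinearMap.mem_ker, hcomb] at hfn
      have h2 : Λ (comb NK v' m' (fun b => fn b.succ) : W) = 0 :=
        LinearMap.mem_ker.1 (Submodule.coe_mem _)
      have h1 : Λ (Ψ (fn 0)) + Λ (comb NK v' m' (fun b => fn b.succ) : W) = 0 :=
        (map_add Λ _ _).symm.trans ((congrArg Λ hfn).trans (map_zero Λ))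
      rw [h2, add_zero] at h1
      have h0 : (fn 0 : Fin m → k) = 0 := hinj (h1.trans (map_zero (Λ ∘ₗ Ψ)).symm)
      have h3 : Ψ (fn 0) = 0 := (congrArg Ψ h0).trans (map_zero Ψ)
      rw [h3, zero_add] at hfn
      have h4 : comb NK v' m' (fun b => fn b.succ) = comb NK v' m' 0 :=
        (Subtype.ext hfn).trans (map_zero (comb NK v' m')).symm
      have h1 := hbijK.1 h4
      funext a
      refine Fin.cases h0 ?_ a
      exact fun b => congrFun h1 b
    · intro w
      obtain ⟨c, hc⟩ := hbij.2 (Λ w)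
      have hwK : w - Ψ c ∈ K := by
        rw [hK, LinearMap.mem_ker, map_sub, ← LinearMap.comp_apply Λ Ψ, hc, sub_self]
      obtain ⟨f', hf'⟩ := hbijK.2 ⟨_, hwK⟩
      refine ⟨Fin.cons (α := fun a => Fin ((Fin.cons m m' : Fin (l + 1) → ℕ) a) → k) c f', ?_⟩
      rw [hcomb]
      show Ψ c + (comb NK v' m' f' : W) = w
      rw [hf']
      exact add_sub_cancel _ _

end Cfsg.Agent.Lib.FeitSmall.Strings
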