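import Cfsg.Agent.Lib.SmallRep.Lift

/-!
# Transfer from the normalizer of a subgroup of order `p`

The sum over `G / N(⟨x⟩)` of the conjugates of a vector fixed by the normalizer is fixed by `G`
and differs from it by an element of the image of `(x - 1) ^ (p - 1)`.
-/

set_option autoImplicit false
set_option linter.unusedSectionVars false
set_option linter.style.haveILetI false

namespace Cfsg.Agent.Lib.FeitSmall.Transfer

open Cfsg.Agent.Lib.SmallRep

variable {k : Type*} [Field k] {W : Type*} [AddCommGroup W] [Module k W] {G : Type*} [Group G]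

theorem apply_out (c : G →* Module.End k W) {H : Subgroup G} {w : W} (hw : ∀ n ∈ H, c n w = w)
    (b : G) : c (QuotientGroup.mk b : G ⧸ H).out w = c b w := by
  obtain ⟨⟨n, hn⟩, h⟩ := QuotientGroup.mk_out_eq_mul H b
  rw [h, map_mul, Module.End.mul_apply, hw n hn]

theorem exists_sum [Finite G] [FiniteDimensional k W] {p : ℕ} [Fact p.Prime] [CharP k p]
    (c : G →* Module.End k W) {x : G} (hx : orderOf x = p) (hG : ¬ p ^ 2 ∣ Nat.card G) :
    ∃ F : Module.End k W, ∀ w,
      (∀ n ∈ Subgroup.normalizer (Subgroup.zpowers x : Set G), c n w = w) →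
        (∀ g, c g (F w) = F w) ∧ F w - w ∈ LinearMap.range ((c x - 1) ^ (p - 1)) := by
  classical
  set H := Subgroup.normalizer (Subgroup.zpowers x : Set G) with hH
  haveI := Fintype.ofFinite (G ⧸ H)
  refine ⟨∑ q : G ⧸ H, c q.out, fun w hw => ?_⟩
  have hsmul : ∀ (a : G) (q : G ⧸ H), c (a • q).out w = c a (c q.out w) := by
    intro a q
    induction q using QuotientGroup.induction_on with
    | H b =>
      show c (QuotientGroup.mk (a * b) : G ⧸ H).out w = _
      rw [apply_out c hw, apply_out c hw, map_mul, Module.End.mul_apply]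
  refine ⟨fun g => ?_, ?_⟩
  · rw [LinearMap.sum_apply, map_sum]
    refine Fintype.sum_equiv (MulAction.toPerm g) _ _ fun q => ?_
    rw [MulAction.toPerm_apply, hsmul]
  set q₀ : G ⧸ H := ((1 : G) : G ⧸ H) with hq₀
  have hxH : x ∈ H := Subgroup.le_normalizer (Subgroup.mem_zpowers x)
  have hstab : ∀ q : G ⧸ H, x • q = q → q = q₀ := by
    intro q
    induction q using QuotientGroup.induction_on with
    | H b =>
      intro h
      have h1 : (x * b)⁻¹ * b ∈ H := QuotientGroup.eq.1 h
      have h2 : b⁻¹ * x * b ∈ H := by
        have := inv_mem h1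
        rwa [mul_inv_rev, inv_inv, ← mul_assoc] at this
      have hord : orderOf (b⁻¹ * x * b) = p := by
        rw [show b⁻¹ * x * b = MulAut.conj b⁻¹ x by simp,
          MulEquiv.orderOf_eq, hx]
      have h3 : b⁻¹ * x * b ∈ Subgroup.zpowers x :=
        Lift.mem_zpowers_of_orderOf hx hG h2 (by rw [← hord, pow_orderOf_eq_one])
      have heq : Subgroup.zpowers (b⁻¹ * x * b) = Subgroup.zpowers x :=
        Subgroup.eq_of_le_of_card_ge (Subgroup.zpowers_le.2 h3)
          (by rw [Nat.card_zpowers, Nat.card_zpowers, hx, hord])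
      refine QuotientGroup.eq.2 ?_
      rw [mul_one]
      refine inv_mem ?_
      have hb : b⁻¹ ∈ H := by
        rw [hH, Subgroup.mem_normalizer_iff_map_conj_eq, MonoidHom.map_zpowers]
        simpa [MulAut.conj_apply] using heq
      exact inv_mem_iff.1 hb
  have hxp : x ^ p = 1 := by rw [← hx, pow_orderOf_eq_one]
  have hsum : ∀ S : Finset (G ⧸ H), (∀ q ∈ S, x • q ∈ S) → q₀ ∉ S →
      ∑ q ∈ S, c q.out w ∈ LinearMap.range ((c x - 1) ^ (p - 1)) := by
    intro S
    induction S using Finset.strongInduction with
    | H S ih =>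
      intro hS hq
      rcases S.eq_empty_or_nonempty with rfl | ⟨a, ha⟩
      · simp
      have hmem : ∀ i : ℕ, x ^ i • a ∈ S := by
        intro i
        induction i with
        | zero => simpa using ha
        | succ i ih' => rw [pow_succ', mul_smul]; exact hS _ ih'
      set O := (Finset.range p).image fun i => x ^ i • a with hO
      have hinj : Set.InjOn (fun i : ℕ => x ^ i • a) (Finset.range p) := by
        have key : ∀ i j : ℕ, i < j → j < p → x ^ i • a = x ^ j • a → False := by
          intro i j hlt hj hij
          have h0 : x ^ (j - i) • a = a := by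
            refine MulAction.injective (x ^ i) ?_
            show x ^ i • x ^ (j - i) • a = x ^ i • a
            rw [← mul_smul, ← pow_add, Nat.add_sub_cancel' hlt.le]
            exact hij.symm
          obtain ⟨u, hu⟩ : ∃ u : ℕ, (x ^ (j - i)) ^ u = x := by
            refine exists_pow_eq_self_of_coprime ?_
            rw [hx]
            exact Nat.Coprime.symm ((Fact.out : p.Prime).coprime_iff_not_dvd.2
              (Nat.not_dvd_of_pos_of_lt (by omega) (by omega)))
          have h1 : x • a = a := by
            rw [← hu]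
            clear hu
            induction u with
            | zero => simp
            | succ u ihu => rw [pow_succ, mul_smul, h0, ihu]
          exact hq (hstab a h1 ▸ ha)
        intro i hi j hj hij
        rw [Finset.coe_range, Set.mem_Iio] at hi hj
        rcases Nat.lt_trichotomy i j with h | h | h
        · exact (key i j h hj hij).elim
        · exact h
        · exact (key j i h hi hij.symm).elim
      have hOS : O ⊆ S := by
        intro q hq'
        obtain ⟨i, -, rfl⟩ := Finset.mem_image.1 hq'
        exact hmem i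
      have hOx : ∀ q : G ⧸ H, x • q ∈ O → q ∈ O := by
        intro q hq'
        obtain ⟨i, hi, hiq⟩ := Finset.mem_image.1 hq'
        refine Finset.mem_image.2 ⟨(i + (p - 1)) % p, Finset.mem_range.2
          (Nat.mod_lt _ (Fact.out : p.Prime).pos), ?_⟩
        have hred : x ^ ((i + (p - 1)) % p) = x ^ (i + (p - 1)) := by
          rw [← hx, pow_mod_orderOf]
        rw [hred, add_comm, pow_add, mul_smul, hiq, ← mul_smul, ← pow_succ,
          Nat.sub_add_cancel (Fact.out : p.Prime).one_le, hxp, one_smul]
      rw [← Finset.sum_sdiff hOS, hO, Finset.sum_image hinj]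
      refine add_mem (ih (S \ O) (Finset.sdiff_ssubset hOS ⟨a, Finset.mem_image.2
        ⟨0, Finset.mem_range.2 (Fact.out : p.Prime).pos, by simp⟩⟩) ?_
        fun h => hq (Finset.mem_sdiff.1 h).1) ⟨c a.out w, ?_⟩
      · intro q hq'
        rw [Finset.mem_sdiff] at hq' ⊢
        exact ⟨hS q hq'.1, fun h => hq'.2 (hOx q h)⟩
      · rw [← Lift.sum_pow_eq (p := p), LinearMap.sum_apply]
        exact Finset.sum_congr rfl fun i _ => by rw [hsmul, map_pow]
  have hq₀x : x • q₀ = q₀ := QuotientGroup.eq.2 (by simpa using inv_mem hxH)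
  rw [LinearMap.sum_apply, ← Finset.add_sum_erase _ _ (Finset.mem_univ q₀),
    apply_out c hw, map_one, Module.End.one_apply, add_sub_cancel_left]
  exact hsum _ (fun q hq => Finset.mem_erase.2 ⟨fun h => (Finset.mem_erase.1 hq).1
    ((MulAction.injective x) (h.trans hq₀x.symm)), Finset.mem_univ _⟩) (Finset.notMem_erase _ _)

end Cfsg.Agent.Lib.FeitSmall.Transfer
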