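import Cfsg.Agent.Lib.FeitSmall.Gauss
import Cfsg.Agent.Lib.FeitSmall.Transfer
import Cfsg.Agent.Lib.FeitSmall.Strings
import Cfsg.Agent.Lib.FeitSmall.Diag
import Mathlib.RingTheory.RootsOfUnity.PrimitiveRoots
import Mathlib.GroupTheory.Subgroup.Center

/-!
# Counting equivariant maps into the adjoint module

Let `R` have degree `n = p - e` with `x` one Jordan block, and let a module with trivial centre,
generated by one vector fixed by `x` and an eigenvector of `s`, have dimension `± 2 e` modulo `p`.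
Its maps into the matrices under conjugation are at most `t` and at least `e` in number, so
`e ≤ t`.
-/

set_option autoImplicit false
set_option linter.unusedSectionVars false
set_option linter.style.haveILetI false

namespace Cfsg.Agent.Lib.FeitSmall.Stable

open Gauss (gaussN coe)
open Diag (shiftM dop)

variable {k : Type*} [Field k]

/-- Powers of `A w` and of `A` for a unit `w` commuting with `A`. -/
theorem ker_range {W : Type*} [AddCommGroup W] [Module k W] {A D w w' : Module.End k W}
    (hD : D = A * w) (h1 : w * w' = 1) (h2 : w' * w = 1) (hc : Commute A w) (hc' : Commute A w')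
    (l : ℕ) (u : W) :
    ((D ^ l) u = 0 ↔ (A ^ l) u = 0) ∧ ((∃ M, (D ^ l) M = u) ↔ ∃ M, (A ^ l) M = u) := by
  obtain ⟨e1, e2, e3, e4, e5, e6⟩ := Gauss.pow_unit h1 h2 hc hc' l
  rw [← hD] at e1 e2
  have hA : A ^ l = w' ^ l * D ^ l := by
    rw [← e2, e5.eq, ← mul_assoc, e4, one_mul]
  have hD' : D ^ l = w ^ l * A ^ l := by rw [← e2, e5.eq]
  refine ⟨⟨fun h => ?_, fun h => ?_⟩, ⟨?_, ?_⟩⟩
  · rw [hA, Module.End.mul_apply, h, map_zero]
  · rw [hD', Module.End.mul_apply, h, map_zero]
  · rintro ⟨M, rfl⟩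
    exact ⟨(w ^ l) M, by rw [← Module.End.mul_apply, e2]⟩
  · rintro ⟨M, rfl⟩
    exact ⟨(w' ^ l) M, by rw [← Module.End.mul_apply, e1]⟩

variable {V T : Type*} [AddCommGroup V] [Module k V] [AddCommGroup T] [Module k T]

/-- Composition on the left. -/
def lop : Module.End k T →ₐ[k] Module.End k (V →ₗ[k] T) :=
  AlgHom.ofLinearMap
    { toFun := fun A =>
        { toFun := fun φ => A ∘ₗ φ
          map_add' := fun φ ψ => LinearMap.ext fun v => map_add A (φ v) (ψ v)
          map_smul' := fun c φ => LinearMap.ext fun v => map_smul A c (φ v) }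
      map_add' := fun A B => LinearMap.ext fun φ => LinearMap.ext fun v => rfl
      map_smul' := fun c A => LinearMap.ext fun φ => LinearMap.ext fun v => rfl }
    rfl fun _ _ => rfl

/-- Composition on the right. -/
def rop (B : Module.End k V) : Module.End k (V →ₗ[k] T) where
  toFun φ := φ ∘ₗ B
  map_add' φ ψ := LinearMap.ext fun v => rfl
  map_smul' c φ := LinearMap.ext fun v => rfl

theorem lop_apply (A : Module.End k T) (φ : V →ₗ[k] T) (v : V) : lop A φ v = A (φ v) := rfl

theorem rop_apply (B : Module.End k V) (φ : V →ₗ[k] T) (v : V) : rop B φ v = φ (B v) := rfl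

theorem lop_comm_rop (A : Module.End k T) (B : Module.End k V) :
    Commute (lop A : Module.End k (V →ₗ[k] T)) (rop B) := rfl

theorem rop_mul (B B' : Module.End k V) :
    (rop B : Module.End k (V →ₗ[k] T)) * rop B' = rop (B' * B) := rfl

theorem rop_pow (B : Module.End k V) (i : ℕ) :
    (rop B : Module.End k (V →ₗ[k] T)) ^ i = rop (B ^ i) := by
  induction i with
  | zero => rfl
  | succ i ih => rw [pow_succ, ih, rop_mul, ← pow_succ']

/-- The values of an iterated commutator on a vector killed by `B ^ m`. -/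
theorem apply_pow_mem {A : Module.End k T} {B : Module.End k V} :
    ∀ (l : ℕ) (θ : V →ₗ[k] T) (m : ℕ) (v : V), (B ^ m) v = 0 →
      ((lop A - rop B : Module.End k (V →ₗ[k] T)) ^ l) θ v ∈
        LinearMap.range (A ^ (l + 1 - m)) := by
  intro l
  induction l with
  | zero =>
    intro θ m v hv
    rcases Nat.eq_zero_or_pos m with rfl | hm
    · have : v = 0 := by simpa using hv
      simp [this]
    · rw [show 0 + 1 - m = 0 by omega, pow_zero]
      exact ⟨_, rfl⟩
  | succ l ih =>
    intro θ m v hv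
    set ψ := ((lop A - rop B : Module.End k (V →ₗ[k] T)) ^ l) θ with hψ
    rw [pow_succ', Module.End.mul_apply, ← hψ, LinearMap.sub_apply, LinearMap.sub_apply, lop_apply,
      rop_apply]
    rcases Nat.eq_zero_or_pos m with rfl | hm
    · have : v = 0 := by simpa using hv
      simp [this]
    refine sub_mem ?_ ?_
    · obtain ⟨M, hM⟩ := ih θ m v hv
      rcases Nat.lt_or_ge (l + 1) m with h' | h'
      · rw [show l + 1 + 1 - m = 0 by omega, pow_zero]
        exact ⟨_, rfl⟩
      · refine ⟨M, ?_⟩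
        rw [show l + 1 + 1 - m = (l + 1 - m) + 1 by omega, pow_succ', Module.End.mul_apply, hM]
    · have h1 := ih θ (m - 1) (B v) (by
        rw [← Module.End.mul_apply, ← pow_succ, Nat.sub_add_cancel hm]; exact hv)
      rwa [show l + 1 - (m - 1) = l + 1 + 1 - m by omega] at h1

/-- The distance to the multiples of `p`, truncated. -/
def dist (p e d : ℕ) : ℕ := min (min (d % p) (p - d % p)) (2 * e)

theorem dist_add (p e a b : ℕ) (hp : 0 < p) : dist p e (a + b) ≤ dist p e a + dist p e b := by
  have ha := Nat.mod_lt a hp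
  have hb := Nat.mod_lt b hp
  unfold dist
  rw [Nat.add_mod]
  rcases Nat.lt_or_ge (a % p + b % p) p with h | h
  · rw [Nat.mod_eq_of_lt h]; omega
  · rw [Nat.mod_eq_sub_mod h, Nat.mod_eq_of_lt (by omega : a % p + b % p - p < p)]; omega

theorem dist_sum {ι : Type*} (s : Finset ι) (f : ι → ℕ) (p e : ℕ) (hp : 0 < p) :
    dist p e (∑ i ∈ s, f i) ≤ ∑ i ∈ s, dist p e (f i) := by
  classical
  induction s using Finset.induction_on with
  | empty => simp [dist]
  | insert a s ha ih =>
    rw [Finset.sum_insert ha, Finset.sum_insert ha]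
    exact (dist_add p e _ _ hp).trans (Nat.add_le_add_left ih _)

variable {p : ℕ} [Fact p.Prime] [CharP k p] [IsAlgClosed k] {G : Type*} [Group G] [Finite G]
  {x s : G} {g : (ZMod p)ˣ} {n : ℕ}

theorem semi_pow {Q : Type*} [AddCommGroup Q] [Module k Q] (cQ : G →* Module.End k Q)
    (hxp : x ^ p = 1) (hconj : s * x * s⁻¹ = x ^ (g : ZMod p).val) (i : ℕ) :
    cQ s * gaussN p k (cQ x) ^ i =
      coe k (g : ZMod p) ^ i • (gaussN p k (cQ x) ^ i * cQ s) := by
  have h1 : cQ s * gaussN p k (cQ x) = coe k (g : ZMod p) • (gaussN p k (cQ x) * cQ s) :=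
    Gauss.semiconj g (by rw [← map_pow, hxp, map_one]) (by
      rw [← map_pow, ← map_mul, ← map_mul, ← hconj, inv_mul_cancel_right])
  induction i with
  | zero => simp
  | succ i ih =>
    rw [pow_succ, ← mul_assoc, ih, smul_mul_assoc, mul_assoc, h1, mul_smul_comm,
      smul_smul, pow_succ, ← mul_assoc]

theorem comb_single {Q : Type*} [AddCommGroup Q] [Module k Q] (N : Module.End k Q) {l : ℕ}
    (y : Fin l → Q) (m : Fin l → ℕ) (a : Fin l) (i : Fin (m a)) :
    Strings.comb N y m (Pi.single a (Pi.single i 1)) = (N ^ i.1) (y a) := by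
  rw [Strings.comb_apply, Finset.sum_eq_single a]
  · rw [Finset.sum_eq_single i]
    · simp
    · intro b _ hb; simp [Pi.single_eq_of_ne hb]
    · simp
  · intro b _ hb
    exact Finset.sum_eq_zero fun j _ => by simp [Pi.single_eq_of_ne hb]
  · simp

set_option maxHeartbeats 1000000 in
theorem le_classes {e t : ℕ} (hx : orderOf x = p) (hsq : ¬ p ^ 2 ∣ Nat.card G) (he : 0 < e)
    (h4 : 4 * e < p) (hn : n + e = p) (hnt : n ≤ t * e) (hg : orderOf g = e)
    (hconj : s * x * s⁻¹ = x ^ (g : ZMod p).val) (hse : s ^ e ∈ Subgroup.center G)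
    (hnorm : ∀ a ∈ Subgroup.normalizer (Subgroup.zpowers x : Set G),
      ∃ i j : ℕ, ∃ z ∈ Subgroup.center G, a = s ^ i * x ^ j * z)
    (R : G →* Matrix (Fin n) (Fin n) k)
    (hRz : ∀ z ∈ Subgroup.center G, ∃ a : k, R z = a • 1)
    (hshift : gaussN p k (R x) = shiftM k n) {δ : Fin n → k} (hdiag : R s = Matrix.diagonal δ)
    [FiniteDimensional k V] (c : G →* Module.End k V) (hcz : ∀ z ∈ Subgroup.center G, c z = 1)
    {v : V} {ν : k} (hvx : c x v = v) (hvs : c s v = ν • v)
    (hspan : Submodule.span k (Set.range fun a => c a v) = ⊤)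
    (hdim : dist p e (Module.finrank k V) = 2 * e) : e ≤ t := by
  classical
  have hp2 : 2 < p := by omega
  have hn0 : 0 < n := by omega
  haveI : Nonempty (Fin n) := ⟨⟨0, hn0⟩⟩
  haveI : NeZero e := ⟨he.ne'⟩
  haveI : Nontrivial V := by
    by_contra hV
    rw [not_nontrivial_iff_subsingleton] at hV
    rw [Module.finrank_zero_of_subsingleton] at hdim
    simp [dist] at hdim
    omega
  haveI : Nontrivial (Matrix (Fin n) (Fin n) k) := inferInstance
  haveI : Nontrivial (V →ₗ[k] Matrix (Fin n) (Fin n) k) := inferInstance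
  have hxp : x ^ p = 1 := by rw [← hx, pow_orderOf_eq_one]
  have hinv : ∀ a : G, R a * R a⁻¹ = 1 := fun a => by rw [← map_mul, mul_inv_cancel, map_one]
  have hinv' : ∀ a : G, R a⁻¹ * R a = 1 := fun a => by rw [← map_mul, inv_mul_cancel, map_one]
  -- the conjugation action
  let cT : G →* Module.End k (Matrix (Fin n) (Fin n) k) :=
    { toFun := fun a => LinearMap.mulLeft k (R a) * LinearMap.mulRight k (R a⁻¹)
      map_one' := LinearMap.ext fun M => by simp
      map_mul' := fun a b => LinearMap.ext fun M => by simp [mul_assoc] }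
  have hcT : ∀ a M, cT a M = R a * (M * R a⁻¹) := fun a M => rfl
  have hTz : ∀ z ∈ Subgroup.center G, cT z = 1 := by
    intro z hz
    obtain ⟨a, ha⟩ := hRz z hz
    refine LinearMap.ext fun M => ?_
    rw [hcT, Module.End.one_apply, ha]
    calc a • (1 : Matrix (Fin n) (Fin n) k) * (M * R z⁻¹) = M * (a • (1 : Matrix (Fin n) (Fin n) k) * R z⁻¹) := by
          simp [smul_mul_assoc]
      _ = M := by rw [← ha, hinv, mul_one]
  -- the generators
  set NT := gaussN p k (cT x) with hNT
  set NM := gaussN p k (c x) with hNM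
  have hcx : c x ^ p = 1 := by rw [← map_pow, hxp, map_one]
  have hTx : cT x ^ p = 1 := by rw [← map_pow, hxp, map_one]
  set LX := LinearMap.mulLeft k (R x) with hLX
  set RX := LinearMap.mulRight k (R x) with hRX
  have hLR : Commute LX RX := LinearMap.ext fun M => (mul_assoc _ _ _).symm
  have hRXpow : ∀ i, RX ^ i = LinearMap.mulRight k (R x ^ i) := by
    intro i; rw [hRX]; exact LinearMap.pow_mulRight k _ (R x) i
  have hLXpow : ∀ i, LX ^ i = LinearMap.mulLeft k (R x ^ i) := by
    intro i; rw [hLX]; exact LinearMap.pow_mulLeft k _ (R x) i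
  have hRx : R x ^ p = 1 := by rw [← map_pow, hxp, map_one]
  have hdop : dop k n = gaussN p k LX - gaussN p k RX := by
    refine LinearMap.ext fun M => ?_
    have h1 : gaussN p k LX M = gaussN p k (R x) * M := by
      simp only [gaussN, hLXpow, LinearMap.sum_apply, LinearMap.smul_apply, LinearMap.mulLeft_apply,
        Finset.sum_mul, smul_mul_assoc]
    have h2 : gaussN p k RX M = M * gaussN p k (R x) := by
      simp only [gaussN, hRXpow, LinearMap.sum_apply, LinearMap.smul_apply,
        LinearMap.mulRight_apply, Finset.mul_sum, mul_smul_comm]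
    rw [LinearMap.sub_apply, h1, h2, hshift]
    rfl
  obtain ⟨w2, w2', e2, e2a, e2b, e2c, e2d⟩ := Gauss.exists_unit (k := k) (p := p) hLR
    (by rw [hLXpow, hRx, LinearMap.mulLeft_one]; rfl)
    (by rw [hRXpow, hRx, LinearMap.mulRight_one]; rfl)
  rw [← hdop] at e2
  obtain ⟨w1, w1', e1, e1a, e1b, e1c, e1d⟩ := Gauss.exists_unit_one (k := k) hp2 hTx
  rw [← hNT] at e1
  set RI := LinearMap.mulRight k (R x⁻¹) with hRI
  have hT1 : cT x - 1 = (LX - RX) * RI := LinearMap.ext fun M => by
    simp only [LinearMap.sub_apply, Module.End.mul_apply, Module.End.one_apply, hcT, hLX, hRX, hRI,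
      LinearMap.mulLeft_apply, LinearMap.mulRight_apply, sub_mul, mul_assoc, hinv', mul_one]
  have hRIc : Commute (LX - RX) RI ∧ Commute (LX - RX) RX := by
    refine ⟨Commute.sub_left ?_ ?_, Commute.sub_left hLR (Commute.refl _)⟩
    · exact LinearMap.ext fun M => (mul_assoc _ _ _).symm
    · exact LinearMap.ext fun M => by
        simp only [Module.End.mul_apply, hRX, hRI, LinearMap.mulRight_apply, mul_assoc, hinv, hinv']
  have hRIu : RI * RX = 1 ∧ RX * RI = 1 := by
    constructor <;> refine LinearMap.ext fun M => ?_ <;>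
      simp only [Module.End.mul_apply, hRX, hRI, LinearMap.mulRight_apply, Module.End.one_apply,
        mul_assoc, hinv, hinv', mul_one]
  have hkr : ∀ (l : ℕ) (u : Matrix (Fin n) (Fin n) k),
      (((dop k n) ^ l) u = 0 ↔ (NT ^ l) u = 0) ∧
        ((∃ M, ((dop k n) ^ l) M = u) ↔ ∃ M, (NT ^ l) M = u) := by
    intro l u
    have h1 := ker_range e1 e1a e1b e1c e1d l u
    have h2 := ker_range e2 e2a e2b e2c e2d l u
    have h3 := ker_range hT1 hRIu.1 hRIu.2 hRIc.1 hRIc.2 l u
    exact ⟨h2.1.trans (h3.1.symm.trans h1.1.symm), h2.2.trans (h3.2.symm.trans h1.2.symm)⟩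
  -- the maps
  let cW : G →* Module.End k (V →ₗ[k] Matrix (Fin n) (Fin n) k) :=
    { toFun := fun a => lop (cT a) * rop (c a⁻¹)
      map_one' := LinearMap.ext fun φ => LinearMap.ext fun u => by
        simp only [Module.End.mul_apply, lop_apply, rop_apply, inv_one, map_one,
          Module.End.one_apply]
      map_mul' := fun a b => LinearMap.ext fun φ => LinearMap.ext fun u => by
        simp only [Module.End.mul_apply, lop_apply, rop_apply, mul_inv_rev, map_mul] }
  have hcW : ∀ a φ u, cW a φ u = cT a (φ (c a⁻¹ u)) := fun a φ u => rfl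
  obtain ⟨F, hF⟩ := Transfer.exists_sum cW hx hsq
  set A := (lop (cT x) : Module.End k (V →ₗ[k] Matrix (Fin n) (Fin n) k)) with hA
  set B := (rop (c x) : Module.End k (V →ₗ[k] Matrix (Fin n) (Fin n) k)) with hB
  obtain ⟨w3, w3', e3, e3a, e3b, e3c, e3d⟩ := Gauss.exists_unit (k := k) (p := p) (A := A) (B := B)
    (lop_comm_rop (cT x) (c x)) (by rw [hA, ← map_pow, hTx, map_one])
    (by rw [hB, rop_pow, hcx]; rfl)
  have hgA : gaussN p k A = lop NT := (Gauss.map_gaussN lop _).symm
  have hgB : gaussN p k B = rop NM := by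
    refine LinearMap.ext fun φ => LinearMap.ext fun u => ?_
    simp only [gaussN, hB, rop_pow, LinearMap.sum_apply, LinearMap.smul_apply, rop_apply, hNM,
      map_sum, map_smul]
  rw [hgA, hgB] at e3
  set RJ := (rop (c x⁻¹) : Module.End k (V →ₗ[k] Matrix (Fin n) (Fin n) k)) with hRJ
  have hci : c x * c x⁻¹ = 1 := by rw [← map_mul, mul_inv_cancel, map_one]
  have hci' : c x⁻¹ * c x = 1 := by rw [← map_mul, inv_mul_cancel, map_one]
  have hJu : RJ * B = 1 ∧ B * RJ = 1 := by
    rw [hRJ, hB, rop_mul, rop_mul, hci, hci']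
    exact ⟨rfl, rfl⟩
  have hW1 : cW x - 1 = (A - B) * RJ := by
    have h1 : (A - B) * RJ = A * RJ - B * RJ := sub_mul A B RJ
    rw [h1, hJu.2]
    rfl
  have hJc : Commute (A - B) RJ ∧ Commute (A - B) B := by
    refine ⟨Commute.sub_left (lop_comm_rop _ _) (hJu.2.trans hJu.1.symm),
      Commute.sub_left (lop_comm_rop _ _) (Commute.refl _)⟩
  -- the strings
  set γ : k := coe k (g : ZMod p) with hγdef
  have hγ : IsPrimitiveRoot γ e := by
    have h1 : IsPrimitiveRoot g e := hg ▸ IsPrimitiveRoot.orderOf g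
    exact (IsPrimitiveRoot.coe_units_iff.2 h1).map_of_injective
      (ZMod.castHom (dvd_refl p) k).injective
  have hek : (e : k) ≠ 0 := fun h => by
    have := Nat.le_of_dvd he ((CharP.cast_eq_zero_iff k p e).1 h)
    omega
  have hγ0 : γ ≠ 0 := hγ.ne_zero he.ne'
  have hSe : c s ^ e = 1 := by rw [← map_pow, hcz _ hse]
  obtain ⟨l, vs, m, μ, hprop, hbij⟩ := Strings.exists_strings (γ := γ) hek hγ0 p _ V NM (c s) rfl
    (by simpa using semi_pow c hxp hconj 1) hSe (Gauss.gaussN_pow_prime hp2 hcx)
  have hw : ∀ a, ∃ w < e, γ ^ w = μ a := fun a => hγ.eq_pow_of_pow_eq_one (hprop a).2.2.2.2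
  choose w hwlt hwμ using hw
  have hbig := fun a => Diag.exists_big (k := k) (n := n) hn h4 (hprop a).2.1 (hwlt a)
  choose U hU1 hU2 hU3 hU4 using hbig
  -- the weights on the matrices
  have hδ0 : ∀ i, δ i ≠ 0 := by
    intro i h0
    have h1 := congrFun (congrFun (hinv s) i) i
    rw [hdiag, Matrix.diagonal_mul, h0, zero_mul, Matrix.one_apply_eq] at h1
    exact zero_ne_one h1
  have hδstep : ∀ (i : ℕ) (hi : i + 1 < n), δ ⟨i, by omega⟩ = γ * δ ⟨i + 1, hi⟩ := by
    intro i hi
    have h1 : R s * gaussN p k (R x) = γ • (gaussN p k (R x) * R s) :=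
      Gauss.semiconj g hRx (by rw [← map_pow, ← map_mul, ← map_mul, ← hconj, inv_mul_cancel_right])
    have h2 := congrFun (congrFun h1 ⟨i, by omega⟩) ⟨i + 1, hi⟩
    rw [hshift, hdiag, Matrix.diagonal_mul, Matrix.smul_apply, Matrix.mul_diagonal, smul_eq_mul,
      shiftM, Matrix.of_apply, if_pos rfl, mul_one, one_mul] at h2
    exact h2
  have hδ : ∀ i : Fin n, γ ^ i.1 * δ i = δ ⟨0, hn0⟩ := by
    rintro ⟨i, hi⟩
    induction i with
    | zero => simp
    | succ i ih =>
      rw [← ih (by omega), hδstep i hi]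
      ring
  have hsconj : ∀ (M : Matrix (Fin n) (Fin n) k) (i j : Fin n),
      cT s M i j = γ ^ ((j.1 : ℤ) - i.1) * M i j := by
    intro M i j
    have hRsi : R s⁻¹ = Matrix.diagonal fun a => (δ a)⁻¹ := by
      refine left_inv_eq_right_inv (hinv' s) ?_
      rw [hdiag, Matrix.diagonal_mul_diagonal]
      simp [hδ0]
    rw [hcT, hdiag, hRsi, Matrix.diagonal_mul, Matrix.mul_diagonal, zpow_sub₀ hγ0, zpow_natCast,
      zpow_natCast]
    have hi' := hδ i
    have hj' := hδ j
    have := hδ0 j
    field_simp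
    linear_combination M i j * (hi' - hj')
  have hweight : ∀ (a : ℕ) (M : Matrix (Fin n) (Fin n) k),
      (∀ i j : Fin n, ¬ (e : ℤ) ∣ (j.1 : ℤ) - i.1 - a → M i j = 0) ↔ cT s M = γ ^ a • M := by
    intro a M
    constructor
    · intro hM
      ext i j
      rw [hsconj, Matrix.smul_apply, smul_eq_mul]
      by_cases hd : (e : ℤ) ∣ (j.1 : ℤ) - i.1 - a
      · congr 1
        rw [← hγ.zpow_eq_one_iff_dvd, zpow_sub₀ hγ0, zpow_natCast, div_eq_one_iff_eq
          (pow_ne_zero _ hγ0)] at hd
        exact hd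
      · rw [hM i j hd, mul_zero, mul_zero]
    · intro hM i j hd
      have h1 := congrFun (congrFun hM i) j
      rw [hsconj, Matrix.smul_apply, smul_eq_mul] at h1
      by_contra hne
      refine hd ?_
      rw [← hγ.zpow_eq_one_iff_dvd, zpow_sub₀ hγ0, zpow_natCast, div_eq_one_iff_eq
        (pow_ne_zero _ hγ0)]
      exact mul_right_cancel₀ hne h1
  -- the test maps
  let eV := LinearEquiv.ofBijective (Strings.comb NM vs m) hbij
  let Φ : ((a : Fin l) → U a) →ₗ[k] (V →ₗ[k] Matrix (Fin n) (Fin n) k) :=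
    { toFun := fun u => (Strings.comb NT (fun a => (u a : Matrix (Fin n) (Fin n) k)) m) ∘ₗ
        eV.symm.toLinearMap
      map_add' := fun u u' => LinearMap.ext fun y => by
        simp only [LinearMap.comp_apply, LinearMap.add_apply, Strings.comb_apply, Pi.add_apply,
          Submodule.coe_add, map_add, smul_add, Finset.sum_add_distrib]
      map_smul' := fun r u => LinearMap.ext fun y => by
        simp only [LinearMap.comp_apply, LinearMap.smul_apply, Strings.comb_apply, Pi.smul_apply,
          Submodule.coe_smul, map_smul, Finset.smul_sum, RingHom.id_apply, smul_smul, mul_comm r] }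
  have hΦ : ∀ u a i, Φ u ((NM ^ i) (vs a)) = (NT ^ i) (u a : Matrix (Fin n) (Fin n) k) := by
    intro u a i
    rcases Nat.lt_or_ge i (m a) with hi | hi
    · set f : (b : Fin l) → Fin (m b) → k := Pi.single a (Pi.single (⟨i, hi⟩ : Fin (m a)) 1)
      have h1 : eV.symm ((NM ^ i) (vs a)) = f := by
        rw [LinearEquiv.symm_apply_eq]
        exact (comb_single NM vs m a ⟨i, hi⟩).symm
      show Strings.comb NT _ m (eV.symm ((NM ^ i) (vs a))) = _
      rw [h1, comb_single]
    · have h0 : (NM ^ i) (vs a) = 0 := by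
        rw [← Nat.sub_add_cancel hi, pow_add, Module.End.mul_apply, (hprop a).2.2.1, map_zero]
      rw [h0, map_zero, eq_comm, ← Nat.sub_add_cancel hi, pow_add, Module.End.mul_apply,
        ((hkr _ _).1).1 (hU1 a _ (u a).2), map_zero]
  have hext : ∀ φ ψ : V →ₗ[k] Matrix (Fin n) (Fin n) k,
      (∀ a, ∀ i : ℕ, φ ((NM ^ i) (vs a)) = ψ ((NM ^ i) (vs a))) → φ = ψ := by
    intro φ ψ h
    refine LinearMap.ext fun y => ?_
    obtain ⟨f, rfl⟩ := hbij.2 y
    simp only [Strings.comb_apply, map_sum, map_smul, h]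
  have hfix : ∀ u, ∀ a ∈ Subgroup.normalizer (Subgroup.zpowers x : Set G),
      cW a (Φ u) = Φ u := by
    intro u
    have hcomm : NT ∘ₗ Φ u = Φ u ∘ₗ NM := hext _ _ fun a i => by
      simp only [LinearMap.comp_apply, hΦ, ← Module.End.mul_apply, ← pow_succ']
    have hxfix : cW x (Φ u) = Φ u := by
      have h1 : ((lop NT - rop NM : Module.End k (V →ₗ[k] Matrix (Fin n) (Fin n) k))) (Φ u) = 0 :=
        sub_eq_zero.2 hcomm
      rw [e3, e3c.eq, Module.End.mul_apply] at h1
      have h2 : (A - B) (Φ u) = 0 := by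
        have := congrArg w3' h1
        rwa [← Module.End.mul_apply, e3b, Module.End.one_apply, map_zero] at this
      have h3 : (cW x - 1) (Φ u) = 0 := by
        rw [hW1, hJc.1.eq, Module.End.mul_apply, h2, map_zero]
      exact sub_eq_zero.1 h3
    have hsfix : cW s (Φ u) = Φ u := by
      refine hext _ _ fun a i => ?_
      have h1 : c s ((NM ^ i) (vs a)) = (γ ^ i * μ a) • (NM ^ i) (vs a) := by
        rw [← Module.End.mul_apply, hNM, semi_pow c hxp hconj, LinearMap.smul_apply, Module.End.mul_apply,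
          (hprop a).2.2.2.1, map_smul, smul_smul]
      have h2 : cT s ((NT ^ i) (u a : Matrix (Fin n) (Fin n) k)) =
          (γ ^ i * μ a) • (NT ^ i) (u a : Matrix (Fin n) (Fin n) k) := by
        rw [← Module.End.mul_apply, hNT, semi_pow cT hxp hconj, LinearMap.smul_apply, Module.End.mul_apply,
          (hweight _ _).1 (hU2 a _ (u a).2), map_smul, smul_smul, hwμ]
      have hμ0 : γ ^ i * μ a ≠ 0 := mul_ne_zero (pow_ne_zero _ hγ0) (by
        rw [← hwμ]; exact pow_ne_zero _ hγ0)
      have h3 : c s⁻¹ ((NM ^ i) (vs a)) = (γ ^ i * μ a)⁻¹ • (NM ^ i) (vs a) := by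
        refine smul_right_injective V hμ0 ?_
        simp only [smul_smul, mul_inv_cancel₀ hμ0, one_smul]
        rw [← map_smul, ← h1, ← Module.End.mul_apply, ← map_mul, inv_mul_cancel, map_one,
          Module.End.one_apply]
      rw [hcW, h3, map_smul, hΦ, map_smul, h2, smul_smul, inv_mul_cancel₀ hμ0, one_smul]
    intro a ha
    obtain ⟨i, j, z, hz, rfl⟩ := hnorm a ha
    have hpow : ∀ (b : G) (i : ℕ), cW b (Φ u) = Φ u → cW (b ^ i) (Φ u) = Φ u := by
      intro b i hb
      induction i with
      | zero => simp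
      | succ i ih => rw [pow_succ, map_mul, Module.End.mul_apply, hb, ih]
    have hzfix : cW z (Φ u) = Φ u := LinearMap.ext fun y => by
      rw [hcW, hTz z hz, hcz z⁻¹ ((Subgroup.center G).inv_mem hz)]
      rfl
    rw [map_mul, map_mul, Module.End.mul_apply, Module.End.mul_apply, hzfix, hpow _ _ hxfix,
      hpow _ _ hsfix]
  -- evaluation at the generator
  let Ev : ((a : Fin l) → U a) →ₗ[k] Matrix (Fin n) (Fin n) k :=
    (LinearMap.applyₗ v) ∘ₗ F ∘ₗ Φ
  have hEv : Function.Injective Ev := by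
    rw [← LinearMap.ker_eq_bot, Submodule.eq_bot_iff]
    intro u hu
    rw [LinearMap.mem_ker] at hu
    change F (Φ u) v = 0 at hu
    obtain ⟨hG, hr⟩ := hF (Φ u) (hfix u)
    have hF0 : F (Φ u) = 0 := by
      refine LinearMap.ext fun y => ?_
      have hy : y ∈ Submodule.span k (Set.range fun a => c a v) := by rw [hspan]; trivial
      induction hy using Submodule.span_induction with
      | mem y hy =>
        obtain ⟨a, rfl⟩ := hy
        have h1 := LinearMap.congr_fun (hG a) (c a v)
        rw [hcW, ← Module.End.mul_apply (c a⁻¹), ← map_mul, inv_mul_cancel, map_one,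
          Module.End.one_apply, hu, map_zero] at h1
        exact h1.symm
      | zero => simp
      | add y y' _ _ h1 h2 => simp only [map_add, h1, h2]
      | smul r y _ h1 => simp only [map_smul, h1, LinearMap.zero_apply, smul_zero]
    rw [hF0, zero_sub] at hr
    obtain ⟨θ, hθ⟩ := (Submodule.neg_mem_iff _).1 hr
    obtain ⟨θ', hθ'⟩ := ((ker_range hW1 hJu.1 hJu.2 hJc.1 hJc.2 _ _).2).1 ⟨θ, hθ⟩
    obtain ⟨θ'', hθ''⟩ := ((ker_range e3 e3a e3b e3c e3d _ _).2).2 ⟨θ', hθ'⟩
    funext a
    refine Subtype.ext ?_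
    have h1 := apply_pow_mem (A := NT) (B := NM) (p - 1) θ'' (m a) (vs a) (hprop a).2.2.1
    rw [hθ'', show p - 1 + 1 - m a = p - m a by omega] at h1
    have h2 := hΦ u a 0
    rw [pow_zero, pow_zero, Module.End.one_apply, Module.End.one_apply] at h2
    rw [h2] at h1
    obtain ⟨M, hM⟩ := ((hkr _ _).2).2 h1
    exact hU3 a _ (u a).2 M hM
  -- the bound on the values
  have hνe : ν ^ e = 1 := by
    have key : ∀ i : ℕ, (c s ^ i) v = ν ^ i • v := by
      intro i
      induction i with
      | zero => simp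
      | succ i ih => rw [pow_succ, Module.End.mul_apply, hvs, map_smul, ih, smul_smul, pow_succ']
    have hv0 : v ≠ 0 := by
      intro h0
      have : (⊤ : Submodule k V) = ⊥ := by
        rw [← hspan, Submodule.span_eq_bot]
        rintro y ⟨a, rfl⟩
        simp [h0]
      exact top_ne_bot this
    have h1 := key e
    rw [hSe, Module.End.one_apply] at h1
    have h2 : (ν ^ e - 1) • v = 0 := by rw [sub_smul, one_smul, ← h1, sub_self]
    exact sub_eq_zero.1 ((smul_eq_zero.1 h2).resolve_right hv0)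
  obtain ⟨w0, hw0, hwν⟩ := hγ.eq_pow_of_pow_eq_one hνe
  have himg : Module.finrank k (LinearMap.range Ev) ≤ t := by
    refine Diag.finrank_le_of_kernel he hw0 hnt _ ?_ ?_
    · rintro _ ⟨u, rfl⟩
      obtain ⟨hG, -⟩ := hF (Φ u) (hfix u)
      have h1 : cT x (Ev u) = Ev u := by
        have h1 := LinearMap.congr_fun (hG x) v
        rw [hcW] at h1
        have h2 : c x⁻¹ v = v := by
          conv_lhs => rw [← hvx, ← Module.End.mul_apply, hci', Module.End.one_apply]
        rwa [h2] at h1
      have h2 : ((cT x - 1 : Module.End k (Matrix (Fin n) (Fin n) k)) ^ 1) (Ev u) = 0 := by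
        rw [pow_one, LinearMap.sub_apply, Module.End.one_apply, h1, sub_self]
      have h3 := ((hkr 1 (Ev u)).1).2 (((ker_range e1 e1a e1b e1c e1d 1 (Ev u)).1).2 h2)
      rwa [pow_one] at h3
    · rintro _ ⟨u, rfl⟩
      obtain ⟨hG, -⟩ := hF (Φ u) (hfix u)
      refine (hweight w0 _).2 ?_
      have h1 := LinearMap.congr_fun (hG s) (c s v)
      rw [hcW, ← Module.End.mul_apply (c s⁻¹), ← map_mul, inv_mul_cancel, map_one,
        Module.End.one_apply, hvs, map_smul, ← hwν] at h1
      exact h1
  rw [LinearMap.finrank_range_of_inj hEv, Module.finrank_pi_fintype] at himg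
  -- the count
  have hd : Module.finrank k V = ∑ a, m a := by
    rw [← eV.finrank_eq, Module.finrank_pi_fintype]
    exact Finset.sum_congr rfl fun a _ => by rw [Module.finrank_pi, Fintype.card_fin]
  have hsum : 2 * e ≤ ∑ a, 2 * Module.finrank k (U a) := by
    rw [← hdim, hd]
    refine (dist_sum _ _ p e (by omega)).trans (Finset.sum_le_sum fun a _ => le_trans ?_ (hU4 a))
    have := (hprop a).2.1
    unfold dist
    rcases Nat.lt_or_ge (m a) p with h' | h'
    · rw [Nat.mod_eq_of_lt h']
    · rw [show m a = p by omega, Nat.mod_self]; simp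
  rw [← Finset.mul_sum] at hsum
  omega

end Cfsg.Agent.Lib.FeitSmall.Stable
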