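import Cfsg.Agent.Lib.FeitSmall.Affords
import Cfsg.Agent.Lib.FeitSmall.Slice
import Cfsg.Agent.Lib.FeitSmall.Stable
import Cfsg.Agent.Lib.Blocks.Trace

/-!
# The lattice of two exceptional characters of the principal slice

Two of them fix a common eigenvalue of `s` on the fixed points of `x`.  The lattice generated by
the sum of two such vectors reduces to a module generated by one vector, whose dimension is
`± 2 e` modulo `p`.
-/

set_option autoImplicit false
set_option linter.unusedSectionVars false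
set_option linter.style.haveILetI false

namespace Cfsg.Agent.Lib.FeitSmall.Lattice

open Cfsg.Agent.Lib Cfsg.Agent.Lib.FirstPower Average Periods Cfsg.Agent.Lib.Characters.Basic
open Family (pow_eq_one_of_order)
open Cfsg.Agent.Lib.DegSubTwo.Basic (lam)
open Setup Eigen Budget Slice
open Cfsg.Agent.Lib.Blocks (localRing residue)

attribute [local instance] Ideal.Quotient.field

universe u

variable {p : ℕ} [Fact p.Prime] {G : Type u} [Group G] [Finite G] {x : G}
  {ζ : Cfsg.IrrCharacter G}

/-- The weighted sum over `⟨x⟩ s ^ r`, `r < e`. -/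
noncomputable def wsum (p : ℕ) [Fact p.Prime] {O R : Type*} [CommRing O] [Ring R] [Algebra O R]
    (T : G →* R) (x s : G) (e : ℕ) (b : O) : R :=
  ∑ r ∈ Finset.range e, b ^ r • ∑ a : ZMod p, T (x ^ a.val * s ^ r)

theorem wsum_fix {O R : Type*} [CommRing O] [Ring R] [Algebra O R] (T : G →* R) {s : G}
    (hx : x ^ p = 1) {g : (ZMod p)ˣ}
    (hconj : ∀ a : ZMod p, s * x ^ a.val = x ^ ((g : ZMod p) * a).val * s) {e : ℕ}
    (hT : T (s ^ e) = 1) {a b : O} (hab : a * b = 1) (ha : a ^ e = 1) :
    T x * wsum p T x s e b = wsum p T x s e b ∧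
      T s * wsum p T x s e b = a • wsum p T x s e b := by
  constructor
  · rw [wsum, Finset.mul_sum]
    refine Finset.sum_congr rfl fun r _ => ?_
    rw [mul_smul_comm, Finset.mul_sum]
    congr 1
    refine Fintype.sum_equiv (Equiv.addLeft 1) _ _ fun c => ?_
    rw [Equiv.coe_addLeft, pow_val_add hx, pow_val_one hx, ← map_mul, mul_assoc]
  · set F : ℕ → R := fun r => b ^ r • ∑ c : ZMod p, T (x ^ c.val * s ^ r) with hF
    have hb : b ^ e = 1 := by
      have := congrArg (· ^ e) hab
      rwa [mul_pow, ha, one_mul, one_pow] at this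
    have hstep : ∀ r, T s * F r = a • F (r + 1) := by
      intro r
      simp only [hF, mul_smul_comm, smul_smul, Finset.mul_sum]
      rw [show a * b ^ (r + 1) = b ^ r by rw [pow_succ', ← mul_assoc, hab, one_mul]]
      congr 1
      refine Fintype.sum_equiv g.mulLeft _ _ fun c => ?_
      rw [Units.mulLeft_apply, ← map_mul, ← mul_assoc, hconj, mul_assoc, ← pow_succ']
    have hlast : F e = F 0 := by
      simp only [hF, hb, pow_zero, mul_one]
      congr 1
      exact Finset.sum_congr rfl fun c _ => by rw [map_mul, hT, mul_one]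
    show T s * ∑ r ∈ Finset.range e, F r = a • ∑ r ∈ Finset.range e, F r
    rw [Finset.mul_sum, Finset.sum_congr rfl fun r _ => hstep r, ← Finset.smul_sum]
    congr 1
    have h1 := Finset.sum_range_succ' F e
    rw [Finset.sum_range_succ, hlast] at h1
    exact add_right_cancel h1.symm

variable {h : Hyp p x ζ} {s : G} {g : (ZMod p)ˣ}

set_option maxHeartbeats 1000000 in
/-- A module over the residue field generated by one fixed vector of `x`. -/
theorem exists_module (ht : 3 ≤ Fintype.card (Cls h)) (E : Eig h s g)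
    (h4 : 4 * Fintype.card (ex h) < p) {M : Ideal Cfsg.AlgInt} [M.IsMaximal]
    (hM : Cfsg.IsPModular p M) :
    ∃ (d : ℕ) (c : G →* Module.End (Cfsg.AlgInt ⧸ M) (Fin d → Cfsg.AlgInt ⧸ M))
      (v : Fin d → Cfsg.AlgInt ⧸ M) (ν : Cfsg.AlgInt ⧸ M),
      (∀ z ∈ Subgroup.center G, c z = 1) ∧ c x v = v ∧ c s v = ν • v ∧
      Submodule.span (Cfsg.AlgInt ⧸ M) (Set.range fun a => c a v) = ⊤ ∧
      Stable.dist p (Fintype.card (ex h)) d = 2 * Fintype.card (ex h) := by
  classical
  set e := Fintype.card (ex h) with he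
  have he0 : 0 < e := Fintype.card_pos
  have hxp := pow_eq_one_of_order h.ord
  obtain ⟨Y, δ, F⟩ := Slice.exists_family h ht (oneChar G)
  obtain ⟨ν, hν, hbud⟩ := Slice.exists_weight F ht s 1
  rw [← he, one_pow] at hν
  obtain ⟨κ, hκ⟩ := Fintype.exists_ne_of_one_lt_card
    (show 1 < Fintype.card (Cls h) by omega) (1 : Cls h)
  have hlam : ∀ κ, ∀ z ∈ Subgroup.center G, lam (Y κ) z = 1 := fun κ z hz => by
    rw [(mem_slice h).1 (F.mem κ) z hz, lam, oneChar_apply, oneChar_apply, div_one]
  have hν0 : ν ≠ 0 := fun h0 => by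
    rw [h0, zero_pow he0.ne'] at hν
    exact zero_ne_one hν
  have hνi : IsIntegral ℤ ν := IsIntegral.of_pow he0 (hν ▸ isIntegral_one)
  have hνi' : IsIntegral ℤ ν⁻¹ := IsIntegral.of_pow he0 (by
    rw [inv_pow, hν, inv_one]; exact isIntegral_one)
  let av : localRing M := ⟨ν, Blocks.mem_localRing_of_isIntegral hνi⟩
  let bv : localRing M := ⟨ν⁻¹, Blocks.mem_localRing_of_isIntegral hνi'⟩
  have hab : av * bv = 1 := Subtype.ext (mul_inv_cancel₀ hν0)
  have hae : av ^ e = 1 := Subtype.ext (by simpa [av] using hν)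
  have hconj : ∀ a : ZMod p, s * x ^ a.val = x ^ ((g : ZMod p) * a).val * s := fun a => by
    have h1 := E.conj 1 a
    rwa [pow_one, pow_one, mul_inv_eq_iff_eq_mul] at h1
  -- matrices and fixed vectors
  have hvec : ∀ κ, ∃ (n : ℕ) (T : G →* Matrix (Fin n) (Fin n) (localRing M))
      (w : Fin n → localRing M), (∀ a, ((T a).trace : ℂ) = (Y κ : G → ℂ) a) ∧
      (∀ z ∈ Subgroup.center G, T z = 1) ∧ (T x).mulVec w = w ∧ (T s).mulVec w = av • w ∧
      (fun i => (w i : ℂ)) ≠ 0 := by
    intro κ
    obtain ⟨n, T, hT⟩ := BrauerChar.exists_matrix_localRing hM (isCharacter_irr (Y κ))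
    have hz : ∀ z ∈ Subgroup.center G, T z = 1 := fun z hz => by
      obtain ⟨c, hc, hc1⟩ := Affords.center_scalar hT hz
      rw [hlam κ z hz] at hc1
      rw [hc, show c = 1 from Subtype.ext hc1, one_smul]
    obtain ⟨hQx, hQs⟩ := wsum_fix T hxp hconj (hz _ (pow_card_center E)) hab hae
    set Q := wsum p T x s e bv with hQ
    have hQ0 : Q ≠ 0 := fun h0 => by
      refine hbud ?_
      rw [← Slice.bud_eq E F ν κ]
      have h1 : ((Q.trace : localRing M) : ℂ) = 0 := by simp [h0]
      simp only [hQ, wsum, Matrix.trace_sum, Matrix.trace_smul, AddSubmonoidClass.coe_finsetSum,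
        smul_eq_mul, Subring.coe_mul, SubmonoidClass.coe_pow, hT] at h1
      rw [bud, ← he]
      exact mul_eq_zero_of_right _ h1
    obtain ⟨i, j, hij⟩ : ∃ i j, Q i j ≠ 0 := by
      by_contra hcon
      push Not at hcon
      exact hQ0 (Matrix.ext hcon)
    refine ⟨n, T, Q.mulVec (Pi.single j 1), hT, hz, ?_, ?_, fun h0 => hij ?_⟩
    · rw [Matrix.mulVec_mulVec, hQx]
    · rw [Matrix.mulVec_mulVec, hQs, Matrix.smul_mulVec]
    · have h1 := congrFun h0 i
      simp only [Matrix.mulVec_single_one, Matrix.col_apply, Pi.zero_apply] at h1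
      exact Subtype.ext h1
  obtain ⟨n₁, T₁, w₁, hT₁, hz₁, hx₁, hs₁, hw₁⟩ := hvec 1
  obtain ⟨n₂, T₂, w₂, hT₂, hz₂, hx₂, hs₂, hw₂⟩ := hvec κ
  have hne : Y 1 ≠ Y κ := fun h0 => hκ (F.inj h0).symm
  -- the lattice
  let f : G →* Module.End (localRing M) ((Fin n₁ → localRing M) × (Fin n₂ → localRing M)) :=
    { toFun := fun a => LinearMap.prodMap (T₁ a).mulVecLin (T₂ a).mulVecLin
      map_one' := LinearMap.ext fun u => Prod.ext (by simp) (by simp)
      map_mul' := fun a b => LinearMap.ext fun u => Prod.ext (by simp [Matrix.mulVec_mulVec])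
        (by simp [Matrix.mulVec_mulVec]) }
  have hf : ∀ a u, f a u = ((T₁ a).mulVec u.1, (T₂ a).mulVec u.2) := fun a u => rfl
  set W := Submodule.span (localRing M) (Set.range fun a => f a (w₁, w₂)) with hW
  have hWinv : ∀ a, ∀ u ∈ W, f a u ∈ W := by
    intro a u hu
    induction hu using Submodule.span_induction with
    | mem y hy =>
      obtain ⟨b, rfl⟩ := hy
      exact Submodule.subset_span ⟨a * b, by simp only [map_mul, Module.End.mul_apply]⟩
    | zero => rw [map_zero]; exact zero_mem W
    | add y y' _ _ h1 h2 => rw [map_add]; exact add_mem h1 h2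
    | smul r y _ h1 => rw [map_smul]; exact Submodule.smul_mem _ _ h1
  haveI : Module.Finite (localRing M) W := Module.Finite.span_of_finite _ (Set.finite_range _)
  haveI : Module.Free (localRing M) W := Blocks.free_of_isTorsionFree hM W
  let fW : G →* Module.End (localRing M) W :=
    { toFun := fun a => (f a).restrict (hWinv a)
      map_one' := LinearMap.ext fun u => Subtype.ext (by simp)
      map_mul' := fun a b => LinearMap.ext fun u => Subtype.ext (by simp) }
  set d := Module.finrank (localRing M) W with hd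
  set B := Module.finBasis (localRing M) W with hB
  let c : G →* Module.End (Cfsg.AlgInt ⧸ M) (Fin d → Cfsg.AlgInt ⧸ M) :=
    (Matrix.toLinAlgEquiv'.toMulEquiv.toMonoidHom).comp
      (((residue M).mapMatrix.toMonoidHom).comp
        ((LinearMap.toMatrixAlgEquiv B).toMulEquiv.toMonoidHom.comp fW))
  let red : W → Fin d → Cfsg.AlgInt ⧸ M := fun u i => residue M (B.repr u i)
  have hred : ∀ a u, c a (red u) = red (fW a u) := by
    intro a u
    funext i
    show ((residue M).mapMatrix (LinearMap.toMatrixAlgEquiv B (fW a))).mulVec _ i = _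
    rw [show (red u) = residue M ∘ (B.repr u) from rfl, RingHom.mapMatrix_apply,
      ← RingHom.map_mulVec (residue M)]
    exact congrArg (residue M) (congrFun (LinearMap.toMatrix_mulVec_repr B B (fW a) u) i)
  have hradd : ∀ u u', red (u + u') = red u + red u' := fun u u' => by
    funext i; simp [red]
  have hrsmul : ∀ (r : localRing M) u, red (r • u) = residue M r • red u := fun r u => by
    funext i; simp [red]
  have hw : (w₁, w₂) ∈ W := Submodule.subset_span ⟨1, by simp⟩
  refine ⟨d, c, red ⟨_, hw⟩, residue M av, fun z hz => ?_, ?_, ?_, ?_, ?_⟩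
  · have h1 : fW z = 1 := LinearMap.ext fun u => Subtype.ext (by
      show f z (u : (Fin n₁ → localRing M) × (Fin n₂ → localRing M)) = u
      rw [hf, hz₁ z hz, hz₂ z hz, Matrix.one_mulVec, Matrix.one_mulVec])
    simp [c, h1]
  · rw [hred]
    congr 1
    refine Subtype.ext ?_
    show f x (w₁, w₂) = _
    rw [hf, hx₁, hx₂]
  · rw [hred, ← hrsmul]
    congr 1
    refine Subtype.ext ?_
    show f s (w₁, w₂) = av • (w₁, w₂)
    rw [hf, hs₁, hs₂, Prod.smul_mk]
  · have h1 : ∀ u (hu : u ∈ W), red ⟨u, hu⟩ ∈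
        Submodule.span (Cfsg.AlgInt ⧸ M) (Set.range fun a => c a (red ⟨_, hw⟩)) := by
      intro u hu
      induction hu using Submodule.span_induction with
      | mem y hy =>
        obtain ⟨b, rfl⟩ := hy
        exact Submodule.subset_span ⟨b, hred b _⟩
      | zero =>
        convert Submodule.zero_mem _
        funext i
        simp [red, show (⟨0, W.zero_mem⟩ : W) = 0 from rfl]
      | add y y' hy hy' h1 h2 =>
        rw [show (⟨y + y', _⟩ : W) = ⟨y, hy⟩ + ⟨y', hy'⟩ from rfl, hradd]
        exact add_mem h1 h2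
      | smul r y hy h1 =>
        rw [show (⟨r • y, _⟩ : W) = r • (⟨y, hy⟩ : W) from rfl, hrsmul]
        exact Submodule.smul_mem _ _ h1
    rw [eq_top_iff, ← (Pi.basisFun (Cfsg.AlgInt ⧸ M) (Fin d)).span_eq, Submodule.span_le]
    rintro _ ⟨i, rfl⟩
    suffices hb : Pi.basisFun (Cfsg.AlgInt ⧸ M) (Fin d) i = red ⟨(B i).1, (B i).2⟩ by
      rw [SetLike.mem_coe, hb]
      exact h1 (B i).1 (B i).2
    funext j
    simp [red, Pi.single_apply, Finsupp.single_apply, apply_ite (residue M), eq_comm]
  · -- the rank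
    let ι : ((Fin n₁ → localRing M) × (Fin n₂ → localRing M)) →ₗ[localRing M]
        ((Fin n₁ → ℂ) × (Fin n₂ → ℂ)) :=
      { toFun := fun u => (fun i => (u.1 i : ℂ), fun i => (u.2 i : ℂ))
        map_add' := fun u u' => rfl
        map_smul' := fun r u => rfl }
    have hle : d ≤ n₁ + n₂ := by
      have h1 := (B.linearIndependent.map' W.subtype (Submodule.ker_subtype W)).fintype_card_le_finrank
      rwa [Fintype.card_fin, Module.finrank_prod, Module.finrank_fin_fun, Module.finrank_fin_fun]
        at h1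
    have hge : n₁ + n₂ ≤ d := by
      have h0 : Submodule.span ℂ (Set.range fun i => ι (B i).1) = ⊤ := by
        rw [eq_top_iff, ← Affords.span_pair_eq_top hT₁ hT₂ hne hw₁ hw₂, Submodule.span_le]
        rintro _ ⟨a, rfl⟩
        have h1 : f a (w₁, w₂) ∈ W := Submodule.subset_span ⟨a, rfl⟩
        have h2 := congrArg (fun u : W => ι u.1) (B.sum_repr ⟨_, h1⟩)
        simp only [Submodule.coe_sum, Submodule.coe_smul, map_sum, map_smul] at h2
        have h3 : ι (f a (w₁, w₂)) = (Affords.cplx T₁ a (fun i => (w₁ i : ℂ)),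
            Affords.cplx T₂ a (fun i => (w₂ i : ℂ))) := by
          rw [hf]
          exact Prod.ext (funext fun i => Affords.cplx_coe a w₁ i)
            (funext fun i => Affords.cplx_coe a w₂ i)
        rw [SetLike.mem_coe]
        beta_reduce
        rw [← h3, ← h2]
        exact Submodule.sum_mem _ fun i _ => by
          rw [Subring.smul_def]
          exact Submodule.smul_mem _ _ (Submodule.subset_span ⟨i, rfl⟩)
      have h1 := finrank_range_le_card (R := ℂ) (b := fun i => ι (B i).1)
      rwa [Set.finrank, h0, finrank_top, Fintype.card_fin, Module.finrank_prod,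
        Module.finrank_fin_fun, Module.finrank_fin_fun] at h1
    obtain ⟨c₁, hd₁, -⟩ := Slice.degree F 1
    obtain ⟨c₂, hd₂, -⟩ := Slice.degree F κ
    have e₁ : n₁ = Cfsg.charDegree (Y 1 : G → ℂ) := by
      exact_mod_cast (Affords.natCast_eq hT₁).trans (apply_one_zeta (Y 1))
    have e₂ : n₂ = Cfsg.charDegree (Y κ : G → ℂ) := by
      exact_mod_cast (Affords.natCast_eq hT₂).trans (apply_one_zeta (Y κ))
    rw [← e₁, ← he] at hd₁
    rw [← e₂, ← he] at hd₂
    have hdeq : d = n₁ + n₂ := le_antisymm hle hge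
    have hp := h.lt
    unfold Stable.dist
    rcases F.sign with hδ | hδ <;> rw [hδ] at hd₁ hd₂
    · have h1 : d = 2 * e + p * (c₁ + c₂) := by
        have : (d : ℤ) = ((2 * e + p * (c₁ + c₂) : ℕ) : ℤ) := by
          rw [hdeq]; push_cast; linarith
        exact_mod_cast this
      rw [h1, Nat.add_mul_mod_self_left, Nat.mod_eq_of_lt (by omega : 2 * e < p)]
      omega
    · have h1 : d + 2 * e = p * (c₁ + c₂) := by
        have : ((d + 2 * e : ℕ) : ℤ) = ((p * (c₁ + c₂) : ℕ) : ℤ) := by
          rw [hdeq]; push_cast; linarith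
        exact_mod_cast this
      obtain ⟨C, hC⟩ : ∃ C, c₁ + c₂ = C + 1 := ⟨c₁ + c₂ - 1, by
        rcases Nat.eq_zero_or_pos (c₁ + c₂) with h0 | h0
        · rw [h0] at h1; omega
        · omega⟩
      rw [hC, mul_add, mul_one] at h1
      rw [show d = (p - 2 * e) + p * C by omega, Nat.add_mul_mod_self_left,
        Nat.mod_eq_of_lt (by omega : p - 2 * e < p)]
      omega

end Cfsg.Agent.Lib.FeitSmall.Lattice
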