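import Cfsg.Agent.Lib.FeitSmall.Bounds

/-!
# At least three classes: the degree is `p - 2`

With a centre of odd order the bounds on the cyclotomic numbers leave only `e = 2`.
-/

set_option autoImplicit false
set_option linter.unusedSectionVars false
set_option linter.style.haveILetI false

namespace Cfsg.Agent.Lib.FeitSmall.Main

open Cfsg.Agent.Lib Cfsg.Agent.Lib.FirstPower Average Periods Cfsg.Agent.Lib.Characters.Basic
open Setup Spikes Eigen Budget Bounds
open Cyclotomy (negc cyc coef sum_coef sum_cyc negc_mul_self flat_false even_false le_deficit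
  odd_false)

attribute [local instance] BlocksChars5.Basic.irrFintype

universe u

variable {p : ℕ} [Fact p.Prime] {G : Type u} [Group G] [Finite G] {x : G}
  {ζ : Cfsg.IrrCharacter G} {h : Hyp p x ζ}

/-- A sum of nonnegative integers with nonpositive total. -/
theorem all_eq_zero {ι : Type*} [Fintype ι] {f : ι → ℤ} (h0 : ∀ i, 0 ≤ f i)
    (hs : ∑ i, f i ≤ 0) (i : ι) : f i = 0 := by
  have := Finset.single_le_sum (fun j _ => h0 j) (Finset.mem_univ i)
  have := h0 i
  linarith

/-- An integer multiple of `t` lying in a short interval. -/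
theorem eq_of_mul_between {t a b : ℤ} (ht : 0 < t) (h1 : (a - 1) * t < b * t)
    (h2 : b * t < (a + 1) * t) : b = a := by
  have h3 := lt_of_mul_lt_mul_right h1 ht.le
  have h4 := lt_of_mul_lt_mul_right h2 ht.le
  omega

open scoped Classical in
theorem card_eq_two (st : Std h) (hZ : Odd (Nat.card (Subgroup.center G))) :
    Fintype.card (ex h) = 2 := by
  obtain ⟨s, g, E⟩ := exists_eig h
  obtain ⟨μ, k, D⟩ := exists_dat st E hZ
  have hp := h.lt
  have h2 : (2 : ZMod p) ≠ 0 := by
    intro h0
    have h1 : ((2 : ℕ) : ZMod p) = 0 := by exact_mod_cast h0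
    rw [ZMod.natCast_eq_zero_iff] at h1
    have := Nat.le_of_dvd (by omega) h1
    omega
  obtain ⟨AS, AL, hAS, hAL, hev, hod⟩ :=
    exists_half_bound st E D (two := Units.mk0 2 h2) rfl
  choose B hB hBb using exists_prod_bound st E D
  set θ := negc (ex h) with hθdef
  set q2 : Cls h := QuotientGroup.mk (Units.mk0 2 h2) with hq2
  set t : ℤ := (Fintype.card (Cls h) : ℤ) with ht
  set e : ℤ := (Fintype.card (ex h) : ℤ) with he
  have ht3 : (3 : ℤ) ≤ t := by rw [ht]; exact_mod_cast st.three
  have he2 : (2 : ℤ) ≤ e := by rw [he]; exact_mod_cast st.two_le_card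
  have hcoef : ∀ d q, coef (ex h) d q = (cyc (ex h) d q : ℤ) - if d = θ then e else 0 :=
    fun d q => rfl
  have hsc : ∀ d, ∑ q, coef (ex h) d q = e - if d = θ then 1 + t * e else 0 :=
    fun d => sum_coef (ex h) d
  have hlow : ∀ d, 0 ≤ t * B d - ∑ q, coef (ex h) d q := by
    intro d
    have h1 : 0 ≤ ∑ q, (B d - coef (ex h) d q) :=
      Finset.sum_nonneg fun q _ => sub_nonneg.2 (hB d q)
    rwa [Finset.sum_sub_distrib, Finset.sum_const, Finset.card_univ, nsmul_eq_mul] at h1
  -- rows away from `-1`
  have hrow : ∀ d, d ≠ θ → (∀ q, (cyc (ex h) d q : ℤ) ≤ B d) ∧ 0 ≤ t * B d - e ∧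
      t * B d - e ≤ t - 1 := by
    intro d hd
    have h1 := hlow d
    have h2' := hBb d
    rw [hsc, if_neg hd, sub_zero] at h1 h2'
    rw [if_neg hd, add_zero] at h2'
    refine ⟨fun q => ?_, h1, h2'⟩
    have := hB d q
    rwa [hcoef, if_neg hd, sub_zero] at this
  by_cases hE : Even (Fintype.card (ex h))
  · have hθ : θ = 1 := (negc_eq_one_iff h).2 hE
    rcases hev hE with hL | hS
    · exfalso
      rw [hsc, if_pos hθ.symm] at hL
      have hz : ∀ q, 2 * AL - (coef (ex h) 1 q + if q = q2 then 1 else 0) = 0 := by
        refine all_eq_zero (fun q => sub_nonneg.2 (hAL q)) ?_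
        rw [Finset.sum_sub_distrib, Finset.sum_const, Finset.card_univ, nsmul_eq_mul,
          Finset.sum_add_distrib, hsc, if_pos hθ.symm, Finset.sum_ite_eq', if_pos (Finset.mem_univ _)]
        linarith
      have hge : 0 ≤ t * (2 * AL) - (e - (1 + t * e)) - 1 := by
        have h1 : 0 ≤ ∑ q, (2 * AL - (coef (ex h) 1 q + if q = q2 then 1 else 0)) :=
          Finset.sum_nonneg fun q _ => sub_nonneg.2 (hAL q)
        rw [Finset.sum_sub_distrib, Finset.sum_const, Finset.card_univ, nsmul_eq_mul,
          Finset.sum_add_distrib, hsc, if_pos hθ.symm, Finset.sum_ite_eq',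
          if_pos (Finset.mem_univ _)] at h1
        linarith
      have htC : t * (2 * AL + e) = e := by linarith
      refine flat_false (ex h) hθ st.three (A := 2 * AL + e) q2 htC (fun d q hd => ?_) fun q hq => ?_
      · have hd' : d ≠ θ := hθ.symm ▸ hd
        obtain ⟨hle, h1, h2'⟩ := hrow d hd'
        have hBC : B d = 2 * AL + e :=
          eq_of_mul_between (t := t) (by omega) (by linarith) (by linarith)
        have hz' := all_eq_zero (f := fun q => B d - (cyc (ex h) d q : ℤ))
          (fun q => sub_nonneg.2 (hle q)) (by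
            rw [Finset.sum_sub_distrib, Finset.sum_const, Finset.card_univ, nsmul_eq_mul,
              sum_cyc, if_neg hd', sub_zero, hBC]
            linarith) q
        rw [← hBC]
        linarith
      · have h1 := hz q
        rw [hcoef, if_pos hθ.symm, if_neg hq] at h1
        linarith
    · rw [hsc, if_pos hθ.symm] at hS
      have hz : ∀ q, 2 * AS - (coef (ex h) 1 q - if q = q2 then 1 else 0) = 0 := by
        refine all_eq_zero (fun q => sub_nonneg.2 (hAS q)) ?_
        rw [Finset.sum_sub_distrib, Finset.sum_const, Finset.card_univ, nsmul_eq_mul,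
          Finset.sum_sub_distrib, hsc, if_pos hθ.symm, Finset.sum_ite_eq', if_pos (Finset.mem_univ _)]
        linarith
      have hge : 0 ≤ t * (2 * AS) - (e - (1 + t * e)) + 1 := by
        have h1 : 0 ≤ ∑ q, (2 * AS - (coef (ex h) 1 q - if q = q2 then 1 else 0)) :=
          Finset.sum_nonneg fun q _ => sub_nonneg.2 (hAS q)
        rw [Finset.sum_sub_distrib, Finset.sum_const, Finset.card_univ, nsmul_eq_mul,
          Finset.sum_sub_distrib, hsc, if_pos hθ.symm, Finset.sum_ite_eq',
          if_pos (Finset.mem_univ _)] at h1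
        linarith
      have htC : t * (2 * AS + e) = e - 2 := by linarith
      have hval : ∀ q, (cyc (ex h) 1 q : ℤ) = 2 * AS + e + if q = q2 then 1 else 0 := fun q => by
        have h1 := hz q
        rw [hcoef, if_pos hθ.symm] at h1
        linarith
      rcases lt_trichotomy (2 * AS + e) 0 with hC | hC | hC
      · exfalso
        have : t * (2 * AS + e) < 0 := mul_neg_of_pos_of_neg (by omega) hC
        omega
      · rw [hC, mul_zero] at htC
        omega
      exfalso
      refine even_false (ex h) hθ st.three (A := 2 * AS + e + 1) (by omega) q2 (by linarith)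
        (fun d q => ?_) fun q hq => ?_
      · by_cases hd : d = 1
        · rw [hd, hval]
          split_ifs <;> omega
        · obtain ⟨hle, h1, h2'⟩ := hrow d (hθ.symm ▸ hd)
          have hBC : B d = 2 * AS + e + 1 :=
            eq_of_mul_between (t := t) (by omega) (by linarith) (by linarith)
          rw [← hBC]
          exact hle q
      · rw [hval, if_neg hq]
        ring
  · exfalso
    have hθ : θ ≠ 1 := fun h' => hE ((negc_eq_one_iff h).1 h')
    obtain ⟨hL, hS⟩ := hod hE
    rw [hsc, if_neg (Ne.symm hθ), sub_zero] at hL hS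
    have hgeL : 0 ≤ t * (2 * AL) - e - 1 := by
      have h1 : 0 ≤ ∑ q, (2 * AL - (coef (ex h) 1 q + if q = q2 then 1 else 0)) :=
        Finset.sum_nonneg fun q _ => sub_nonneg.2 (hAL q)
      rw [Finset.sum_sub_distrib, Finset.sum_const, Finset.card_univ, nsmul_eq_mul,
        Finset.sum_add_distrib, hsc, if_neg (Ne.symm hθ), Finset.sum_ite_eq',
        if_pos (Finset.mem_univ _)] at h1
      linarith
    have hgeS : 0 ≤ t * (2 * AS) - e + 1 := by
      have h1 : 0 ≤ ∑ q, (2 * AS - (coef (ex h) 1 q - if q = q2 then 1 else 0)) :=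
        Finset.sum_nonneg fun q _ => sub_nonneg.2 (hAS q)
      rw [Finset.sum_sub_distrib, Finset.sum_const, Finset.card_univ, nsmul_eq_mul,
        Finset.sum_sub_distrib, hsc, if_neg (Ne.symm hθ), Finset.sum_ite_eq',
        if_pos (Finset.mem_univ _)] at h1
      linarith
    have hSL : 2 * AS = 2 * AL := by
      have h1 : AS < AL + 1 := by
        by_contra hcon
        push Not at hcon
        have := mul_le_mul_of_nonneg_left hcon (show 0 ≤ t by omega)
        linarith
      have h1' : AL < AS + 1 := by
        by_contra hcon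
        push Not at hcon
        have := mul_le_mul_of_nonneg_left hcon (show 0 ≤ t by omega)
        linarith
      omega
    have hle : ∀ d q, (cyc (ex h) d q : ℤ) ≤ 2 * AL := by
      intro d q
      by_cases hd : d = θ
      · have h1 := hlow d
        have h2' := hBb d
        rw [hsc, if_pos hd] at h1 h2'
        rw [if_pos hd] at h2'
        have h3 := hB d q
        rw [hcoef, if_pos hd] at h3
        have h4 : B d + e ≤ 2 * AL := by
          by_contra hcon
          push Not at hcon
          have := mul_le_mul_of_nonneg_left (show 2 * AL + 1 ≤ B d + e by omega)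
            (show 0 ≤ t by omega)
          linarith
        linarith
      · by_cases hd1 : d = 1
        · have h1 := hAL q
          rw [hcoef, if_neg (Ne.symm hθ), sub_zero] at h1
          rw [hd1]
          split_ifs at h1 <;> omega
        · obtain ⟨hle, h1, h2'⟩ := hrow d hd
          rw [← eq_of_mul_between (t := t) (a := 2 * AL) (b := B d) (by omega) (by linarith)
            (by linarith)]
          exact hle q
    have hA0 : 0 < 2 * AL := pos_of_mul_pos_right (show 0 < t * (2 * AL) by linarith) (by omega)
    have hdef := le_deficit (ex h) hA0.le hle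
    rw [← ht, ← he] at hdef
    have hteven : Even (Fintype.card (Cls h)) := by
      have ho : orderOf θ = 2 := orderOf_eq_prime (by rw [sq]; exact negc_mul_self _) hθ
      exact even_iff_two_dvd.2 (ho ▸ orderOf_dvd_card)
    have heodd : e % 2 = 1 := by
      rw [he]
      have := Nat.not_even_iff.1 hE
      omega
    have hteven' : t % 2 = 0 := by
      rw [ht]
      have := Nat.even_iff.1 hteven
      omega
    have hprod : (t * (2 * AL)) % 2 = 0 := by
      rw [mul_left_comm]
      exact Int.mul_emod_right 2 _
    refine odd_false (ex h) hθ st.three (A := 2 * AL) (by omega) ?_ hle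
    rw [← ht, ← he]
    omega

end Cfsg.Agent.Lib.FeitSmall.Main
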