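import Cfsg.Agent.Lib.FeitSmall.Family
import Cfsg.Agent.Lib.RecogThree.M11.Rep

/-!
# The eigen line of the normalizer

With at least three classes and after replacing `x` by a power, `ζ` takes the negated periods on
the powers of `x`.  An element `s` of order prime to `p` inducing a generator of the exponents
fusing `x` then acts on the one-dimensional fixed space of `x` by a scalar `μ`, and
`ζ (s ^ r) = μ ^ r` unless `e` divides `r`.
-/

set_option autoImplicit false
set_option linter.unusedSectionVars false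
set_option linter.style.haveILetI false

namespace Cfsg.Agent.Lib.FeitSmall.Eigen

open Cfsg.Agent.Lib Cfsg.Agent.Lib.FirstPower Average Periods Cfsg.Agent.Lib.Characters.Basic
open Family (pow_eq_one_of_order)
open Cfsg.Agent.Lib.DegSubTwo.Basic (lam lam_one lam_mul lam_pow apply_mul_central)
open Setup Spikes

attribute [local instance] BlocksChars5.Basic.irrFintype

universe u

variable {p : ℕ} [Fact p.Prime] {G : Type u} [Group G] [Finite G] {x : G}
  {ζ : Cfsg.IrrCharacter G}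

open scoped Classical in
/-- The normalised situation. -/
structure Std {G : Type u} [Group G] [Finite G] {p : ℕ} [Fact p.Prime] {x : G}
    {ζ : Cfsg.IrrCharacter G} (h : Hyp p x ζ) : Prop where
  three : 3 ≤ Fintype.card (Cls h)
  val : ∀ q, crd h ζ q = if q = 1 then -1 else 0
  deg : Cfsg.charDegree (ζ : G → ℂ) + Fintype.card (ex h) = p
  fix : ∑ a : ZMod p, (ζ : G → ℂ) (x ^ a.val) = (p : ℂ)

theorem Std.two_le_card {h : Hyp p x ζ} (st : Std h) : 2 ≤ Fintype.card (ex h) := by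
  have := st.deg
  have := h.deg
  omega

theorem value {h : Hyp p x ζ} (st : Std h) (u : (ZMod p)ˣ) :
    (ζ : G → ℂ) (x ^ (u : ZMod p).val) = -eta (ex h) (QuotientGroup.mk u) := by
  classical
  rw [crd_val h]
  simp [st.val]

theorem exists_std (h : Hyp p x ζ) (ht : 3 ≤ Fintype.card (Cls h)) :
    ∃ (y : G) (hy : Hyp p y ζ), ex hy = ex h ∧ Std hy := by
  classical
  obtain ⟨κ₀, hκ, hdeg, hsum⟩ := exists_value h ht
  obtain ⟨u₀, hu₀⟩ := QuotientGroup.mk_surjective κ₀⁻¹
  have hxp := pow_eq_one_of_order h.ord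
  set y := x ^ (u₀ : ZMod p).val with hy
  have hyH : Hyp p y ζ := ⟨h.lt, orderOf_pow_unit h u₀, h.sq, h.nn, h.deg, h.faith⟩
  have hyv : ∀ a : ZMod p, y ^ a.val = x ^ ((u₀ : ZMod p) * a).val := fun a => by
    rw [hy, pow_val_mul hxp]
  have hE : ex hyH = ex h := by
    ext v
    rw [mem_autE, mem_autE, hyv, hy, ← Units.val_mul, isConj_iff_mk hxp,
      QuotientGroup.eq, inv_mul_cancel_left]
    exact mem_autE hxp
  have hval : ∀ v : (ZMod p)ˣ, (ζ : G → ℂ) (y ^ (v : ZMod p).val) =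
      -eta (ex hyH) (QuotientGroup.mk v) := by
    intro v
    rw [hyv, ← Units.val_mul, crd_val h]
    simp only [hκ, Int.cast_ite, Int.cast_neg, Int.cast_one, Int.cast_zero, ite_mul, neg_mul,
      one_mul, zero_mul, Finset.sum_ite_eq', Finset.mem_univ, if_true]
    rw [QuotientGroup.mk_mul, hu₀, mul_inv_cancel_left, hE]
  have hcE : Fintype.card (ex hyH) = Fintype.card (ex h) := by
    rw [← Nat.card_eq_fintype_card, ← Nat.card_eq_fintype_card, hE]
  refine ⟨y, hyH, hE, ⟨?_, fun q => ?_, by rw [hcE]; exact hdeg, ?_⟩⟩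
  · have h1 := card_mul hyH
    have h2 := card_mul h
    rw [hcE] at h1
    rw [Nat.eq_of_mul_eq_mul_right Fintype.card_pos (h1.trans h2.symm)]
    exact ht
  · refine congrFun (coord_unique hyH (g := fun q => if q = 1 then -1 else 0) fun v => ?_) q
    rw [← crd_val, hval]
    simp
  · rw [← hsum]
    refine Fintype.sum_equiv u₀.mulLeft _ _ fun a => ?_
    rw [hyv, Units.mulLeft_apply]

/-- An element inducing a generator of the exponents fusing `x`. -/
structure Eig {G : Type u} [Group G] [Finite G] {p : ℕ} [Fact p.Prime] {x : G}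
    {ζ : Cfsg.IrrCharacter G} (h : Hyp p x ζ) (s : G) (g : (ZMod p)ˣ) : Prop where
  conj : ∀ (r : ℕ) (a : ZMod p), s ^ r * x ^ a.val * (s ^ r)⁻¹ = x ^ ((g : ZMod p) ^ r * a).val
  ord : orderOf g = Fintype.card (ex h)
  reg : ¬ p ∣ orderOf s

theorem exists_eig (h : Hyp p x ζ) : ∃ (s : G) (g : (ZMod p)ˣ), Eig h s g := by
  have hp : p.Prime := Fact.out
  have hxp := pow_eq_one_of_order h.ord
  obtain ⟨⟨g, hg⟩, hgen⟩ := IsCyclic.exists_generator (α := ex h)
  obtain ⟨c, hc⟩ := isConj_iff.1 ((mem_autE hxp).1 hg)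
  set m := p ^ (orderOf c).factorization p with hm
  have hgm : (g : ZMod p) ^ m = g := by rw [hm, ZMod.pow_card_pow]
  have hconj : c ^ m * x * (c ^ m)⁻¹ = x ^ (g : ZMod p).val := by
    rw [Core.conj_pow_iter hc, ← pow_val_natCast hxp]
    push_cast
    rw [ZMod.natCast_zmod_val, hgm]
  refine ⟨c ^ m, g, fun r a => ?_, ?_, ?_⟩
  · rw [← conj_pow, Core.conj_pow_iter hconj, ← pow_mul, ← pow_val_natCast hxp]
    push_cast
    rw [ZMod.natCast_zmod_val, ZMod.natCast_zmod_val]
  · rw [← Nat.card_eq_fintype_card, ← orderOf_eq_card_of_forall_mem_zpowers hgen,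
      ← Subgroup.orderOf_coe]
  · rw [hm, orderOf_pow_of_dvd (pow_ne_zero _ hp.ne_zero) (Nat.ordProj_dvd _ _)]
    exact Nat.not_dvd_ordCompl hp (orderOf_pos c).ne'

variable {h : Hyp p x ζ} {s : G} {g : (ZMod p)ˣ}

theorem pow_eq_one_iff (E : Eig h s g) (r : ℕ) :
    (g : ZMod p) ^ r = 1 ↔ Fintype.card (ex h) ∣ r := by
  rw [← E.ord, orderOf_dvd_iff_pow_eq_one, ← Units.val_pow_eq_pow_val, Units.val_eq_one]

theorem pow_card_center (E : Eig h s g) : s ^ Fintype.card (ex h) ∈ Subgroup.center G := by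
  refine ((isVPart_center h) _).2 ⟨?_, fun hd => E.reg (hd.trans (orderOf_pow_dvd _))⟩
  rw [Core.commute_iff_conj]
  have := E.conj (Fintype.card (ex h)) 1
  rwa [(pow_eq_one_iff E _).2 dvd_rfl, one_mul, pow_val_one (pow_eq_one_of_order h.ord)] at this

theorem card_dvd (E : Eig h s g) : Fintype.card (ex h) ∣ Nat.card G := by
  refine dvd_trans ((pow_eq_one_iff E _).1 ?_) (orderOf_dvd_natCard s)
  have h1 := E.conj (orderOf s) 1
  rw [pow_orderOf_eq_one, one_mul, inv_one, mul_one, mul_one] at h1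
  exact (pow_val_inj h.ord h1).symm

/-- Outside the multiples of `e` the coset `⟨x⟩ s ^ r` is one class. -/
theorem apply_shift (E : Eig h s g) {F : G → ℂ} (hF : ∀ a b : G, F (b * a * b⁻¹) = F a)
    {r : ℕ} (hr : ¬ Fintype.card (ex h) ∣ r) (a : ZMod p) :
    F (x ^ a.val * s ^ r) = F (s ^ r) := by
  have hxp := pow_eq_one_of_order h.ord
  have hne : 1 - (g : ZMod p) ^ r ≠ 0 := fun h0 =>
    hr ((pow_eq_one_iff E r).1 (sub_eq_zero.1 h0).symm)
  set b := a / (1 - (g : ZMod p) ^ r) with hb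
  conv_rhs => rw [← hF (s ^ r) (x ^ b.val)]
  refine congrArg F ?_
  have h1 := E.conj r (-b)
  have h2 : (x ^ b.val)⁻¹ = x ^ (-b).val := by
    rw [inv_eq_iff_mul_eq_one, ← pow_val_add hxp, add_neg_cancel, ZMod.val_zero, pow_zero]
  have h3 : s ^ r * x ^ (-b).val = x ^ ((g : ZMod p) ^ r * -b).val * s ^ r := by
    rw [← h1, inv_mul_cancel_right]
  rw [h2, mul_assoc _ (s ^ r) _, h3, ← mul_assoc, ← pow_val_add hxp]
  congr 3
  rw [hb]
  field_simp
  ring

theorem sum_shift (E : Eig h s g) {F : G → ℂ} (hF : ∀ a b : G, F (b * a * b⁻¹) = F a)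
    {r : ℕ} (hr : ¬ Fintype.card (ex h) ∣ r) :
    ∑ a : ZMod p, F (x ^ a.val * s ^ r) = (p : ℂ) * F (s ^ r) := by
  rw [Finset.sum_congr rfl fun a _ => apply_shift E hF hr a, Finset.sum_const, Finset.card_univ,
    ZMod.card, nsmul_eq_mul]

/-- The averaging projection of a representation onto the fixed points of `x`. -/
noncomputable def proj (p : ℕ) [Fact p.Prime] (x : G) {V : Type} [AddCommGroup V] [Module ℂ V]
    (ρ : Representation ℂ G V) : Module.End ℂ V :=
  (p : ℂ)⁻¹ • ∑ a : ZMod p, ρ (x ^ a.val)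

variable {V : Type} [AddCommGroup V] [Module ℂ V] [FiniteDimensional ℂ V]
  {ρ : Representation ℂ G V}

theorem proj_mul_self (h : Hyp p x ζ) : proj p x ρ * proj p x ρ = proj p x ρ := by
  have hxp := pow_eq_one_of_order h.ord
  rw [proj, smul_mul_smul_comm, Finset.sum_mul_sum, Finset.sum_congr rfl fun a _ =>
    show ∑ b, ρ (x ^ a.val) * ρ (x ^ b.val) = ∑ b : ZMod p, ρ (x ^ b.val) from
      Fintype.sum_equiv (Equiv.addLeft a) _ _ fun b => by
        rw [← map_mul, ← pow_val_add hxp, Equiv.coe_addLeft],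
    Finset.sum_const, Finset.card_univ, ZMod.card, ← Nat.cast_smul_eq_nsmul ℂ, smul_smul,
    mul_assoc, inv_mul_cancel₀ (Nat.cast_ne_zero.2 (Fact.out : p.Prime).ne_zero), mul_one]

theorem proj_comm (E : Eig h s g) : ρ s * proj p x ρ = proj p x ρ * ρ s := by
  rw [proj, mul_smul_comm, smul_mul_assoc, Finset.mul_sum, Finset.sum_mul]
  congr 1
  refine Fintype.sum_equiv g.mulLeft _ _ fun a => ?_
  have h1 := E.conj 1 a
  rw [pow_one, pow_one, mul_inv_eq_iff_eq_mul] at h1
  rw [← map_mul, ← map_mul, Units.mulLeft_apply, h1]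

theorem trace_proj (r : ℕ) :
    LinearMap.trace ℂ V (ρ (s ^ r) * proj p x ρ) =
      (p : ℂ)⁻¹ * ∑ a : ZMod p, ρ.character (x ^ a.val * s ^ r) := by
  rw [proj, mul_smul_comm, map_smul, smul_eq_mul, Finset.mul_sum, map_sum]
  congr 1
  refine Finset.sum_congr rfl fun a _ => ?_
  rw [LinearMap.trace_mul_comm, ← map_mul]
  rfl

/-- The scalar by which `s` acts on the fixed space of `x`. -/
theorem exists_mu (st : Std h) (E : Eig h s g) :
    ∃ μ : ℂ, μ ^ Fintype.card (ex h) = lam ζ (s ^ Fintype.card (ex h)) ∧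
      ∀ r, ¬ Fintype.card (ex h) ∣ r → (ζ : G → ℂ) (s ^ r) = μ ^ r := by
  have hp0 : (p : ℂ) ≠ 0 := Nat.cast_ne_zero.2 (Fact.out : p.Prime).ne_zero
  obtain ⟨d, ρ, hρ, hρχ⟩ := exists_rep ζ
  set P := proj p x ρ with hP
  have htr : LinearMap.trace ℂ _ P = 1 := by
    have h0 := trace_proj (p := p) (x := x) (ρ := ρ) (s := s) 0
    rw [pow_zero, map_one, one_mul] at h0
    rw [hP, h0, hρχ]
    simp only [mul_one, st.fix]
    exact inv_mul_cancel₀ hp0
  have hrank : Module.finrank ℂ (LinearMap.range P) = 1 := by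
    have h1 := RecogThree.M11.Rep.trace_idem P (proj_mul_self h)
    rw [htr] at h1
    exact_mod_cast h1.symm
  obtain ⟨v, hv0, hv⟩ := finrank_eq_one_iff'.1 hrank
  have hPv : P v.1 = v.1 := by
    obtain ⟨w, hw⟩ := v.2
    rw [← hw, ← Module.End.mul_apply, proj_mul_self h]
  obtain ⟨μ, hμ⟩ := hv ⟨ρ s v.1, ⟨ρ s v.1, by
    rw [← Module.End.mul_apply, ← proj_comm E, Module.End.mul_apply, hPv]⟩⟩
  have hsP : ρ s * P = μ • P := LinearMap.ext fun w => by
    obtain ⟨a, ha⟩ := hv ⟨P w, LinearMap.mem_range_self P w⟩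
    have ha' : a • v.1 = P w := congrArg Subtype.val ha
    have hμ' : μ • v.1 = ρ s v.1 := congrArg Subtype.val hμ
    rw [Module.End.mul_apply, LinearMap.smul_apply, ← ha', map_smul, ← hμ', smul_comm]
  have hpow : ∀ r, ρ (s ^ r) * P = μ ^ r • P := by
    intro r
    induction r with
    | zero => simp
    | succ r ih =>
      rw [pow_succ, map_mul, mul_assoc, hsP, mul_smul_comm, ih, smul_smul, pow_succ']
  refine ⟨μ, ?_, fun r hr => ?_⟩
  · have h1 := trace_proj (p := p) (x := x) (ρ := ρ) (s := s) (Fintype.card (ex h))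
    rw [← hP, hpow, map_smul, htr, smul_eq_mul, mul_one, hρχ] at h1
    simp only [apply_mul_central ζ (pow_card_center E), ← Finset.mul_sum, st.fix] at h1
    rw [h1, mul_comm (lam ζ _) (p : ℂ), ← mul_assoc, inv_mul_cancel₀ hp0, one_mul]
  · have h1 := trace_proj (p := p) (x := x) (ρ := ρ) (s := s) r
    rw [← hP, hpow, map_smul, htr, smul_eq_mul, mul_one, hρχ,
      sum_shift E (isClassFunction_irr ζ) hr, ← mul_assoc, inv_mul_cancel₀ hp0, one_mul] at h1
    exact h1.symm

end Cfsg.Agent.Lib.FeitSmall.Eigen
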