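import Cfsg.Agent.Lib.FeitSmall.Affords
import Cfsg.Agent.Lib.FeitSmall.Half
import Cfsg.Agent.Lib.FeitSmall.Eigen
import Cfsg.Agent.Lib.FeitSmall.Stable

/-!
# The reduction of the character is one Jordan block

When the group is generated by conjugates of `x`, has a centre of even order and at least three
classes, the reduction modulo `p` is irreducible and `x` acts by one Jordan block, for otherwise
the group maps onto `PSL₂(p)`.  In a basis adapted to it the generator is the shift and `s` is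
diagonal.
-/

set_option autoImplicit false
set_option linter.unusedSectionVars false
set_option linter.style.haveILetI false

namespace Cfsg.Agent.Lib.FeitSmall.SingleBlock

open Cfsg.Agent.Lib Cfsg.Agent.Lib.FirstPower Average Periods Cfsg.Agent.Lib.Characters.Basic
open Cfsg.Agent.Lib.SmallRep Model
open Family (pow_eq_one_of_order)
open Cfsg.Agent.Lib.DegSubTwo.Basic (lam)
open Setup Eigen
open Cfsg.Agent.Lib.Blocks (localRing residue)
open Gauss (gaussN coe)

attribute [local instance] Ideal.Quotient.field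

universe u

variable {p : ℕ} [Fact p.Prime] {G : Type u} [Group G] [Finite G] {x : G}
  {ζ : Cfsg.IrrCharacter G}

/-- With three classes there is no map onto `PSL₂(p)`. -/
theorem no_surj (h : Hyp p x ζ) (hgen : Subgroup.normalClosure {x} = ⊤)
    (ht : 3 ≤ Fintype.card (Cls h))
    {π : G →* Matrix.ProjectiveSpecialLinearGroup (Fin 2) (ZMod p)} (hπ : Function.Surjective π) :
    False := by
  classical
  have hp := h.lt
  have hxp := pow_eq_one_of_order h.ord
  have hker := Half.ker_eq_center h.lt h.ord h.sq hgen (isCharacter_irr ζ) h.faith h.deg hπ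
  have hπx : π x ≠ 1 := fun h1 => by
    have hle : Subgroup.normalClosure {x} ≤ π.ker :=
      Subgroup.normalClosure_le_normal (by simpa using h1)
    rw [hgen] at hle
    obtain ⟨a, ha⟩ : ∃ a : Matrix.ProjectiveSpecialLinearGroup (Fin 2) (ZMod p), a ≠ 1 := by
      haveI : IsSimpleGroup (Matrix.ProjectiveSpecialLinearGroup (Fin 2) (ZMod p)) :=
        Linear.isSimpleGroup_PSL le_rfl fun _ => by rw [Nat.card_zmod]; omega
      exact exists_ne 1
    obtain ⟨b, rfl⟩ := hπ a
    exact ha (hle trivial)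
  have hπxp : π x ^ p = 1 := by rw [← map_pow, hxp, map_one]
  have hsq : ∀ v : (ZMod p)ˣ, v * v ∈ ex h := by
    intro v
    obtain ⟨a, c, hc, ha⟩ := Image.exists_conj_up (by omega) hπxp hπx
    set t := (v : ZMod p).val with ht'
    have ht0 : (v : ZMod p) ≠ 0 := v.ne_zero
    set D : Matrix.SpecialLinearGroup (Fin 2) (ZMod p) :=
      ⟨!![(v : ZMod p), 0; 0, (v : ZMod p)⁻¹], by rw [Matrix.det_fin_two_of]; field_simp; ring⟩
      with hD
    obtain ⟨b, hb⟩ := hπ (a * (D : Matrix.ProjectiveSpecialLinearGroup (Fin 2) (ZMod p)) * a⁻¹)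
    have hconj : (D * PLocal.SLTwo.up c * D⁻¹ :
        Matrix.SpecialLinearGroup (Fin 2) (ZMod p)) = PLocal.SLTwo.up c ^ (t * t) := by
      rw [mul_inv_eq_iff_eq_mul, ← Dickson.up_nsmul]
      apply Subtype.ext
      rw [Matrix.SpecialLinearGroup.coe_mul, Matrix.SpecialLinearGroup.coe_mul, Dickson.coe_up,
        Dickson.coe_up, hD]
      show !![(v : ZMod p), 0; 0, (v : ZMod p)⁻¹] * _ = _ * !![(v : ZMod p), 0; 0, (v : ZMod p)⁻¹]
      rw [Nat.cast_mul, ht', ZMod.natCast_zmod_val]
      clear_value D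
      clear hD hb
      generalize (v : ZMod p) = w at ht0 ⊢
      simp [Matrix.mul_fin_two]
      field_simp
    set z := b * x * b⁻¹ * (x ^ (t * t))⁻¹ with hz
    have hzk : z ∈ Subgroup.center G := by
      rw [← hker, MonoidHom.mem_ker, map_mul, map_mul, map_mul, map_inv, map_inv, map_pow, hb, ha,
        conj_pow, ← QuotientGroup.mk_pow, ← hconj, QuotientGroup.mk_mul, QuotientGroup.mk_mul,
        QuotientGroup.mk_inv]
      group
    have hxt : (x ^ (t * t)) = x ^ (((v * v : (ZMod p)ˣ) : ZMod p)).val := by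
      rw [← pow_val_natCast hxp, ht', Nat.cast_mul, ZMod.natCast_zmod_val, Units.val_mul]
    have hc : IsConj x (x ^ (((v * v : (ZMod p)ˣ) : ZMod p)).val * z) := by
      refine isConj_iff.2 ⟨b, ?_⟩
      rw [← hxt, Subgroup.mem_center_iff.1 hzk, hz]
      group
    have hz1 := eq_one_of_isConj h hxp
      (by rw [← pow_mul, mul_comm, pow_mul, hxp, one_pow]) hzk hc
    rw [hz1, mul_one] at hc
    exact (mem_autE hxp).2 hc
  have hle : Fintype.card (Cls h) ≤ 2 := by
    obtain ⟨q, hq⟩ := IsCyclic.exists_generator (α := Cls h)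
    have h2 : q ^ 2 = 1 := by
      obtain ⟨v, rfl⟩ := QuotientGroup.mk_surjective q
      rw [← QuotientGroup.mk_pow, QuotientGroup.eq_one_iff, pow_two]
      exact hsq v
    rw [← Nat.card_eq_fintype_card, ← orderOf_eq_card_of_forall_mem_zpowers hq]
    exact orderOf_le_of_pow_eq_one two_pos h2
  omega

variable {h : Hyp p x ζ} {s : G} {g : (ZMod p)ˣ}

set_option maxHeartbeats 1000000 in
/-- The adapted basis. -/
theorem exists_basis_form {k : Type} [Field k] [CharP k p] [IsAlgClosed k] [Algebra (ZMod p) k]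
    (hint : ∀ a : k, IsIntegral (ZMod p) a) (hgen : Subgroup.normalClosure {x} = ⊤)
    (ht : 3 ≤ Fintype.card (Cls h)) (E : Eig h s g) {n' : ℕ}
    (hn : Cfsg.charDegree (ζ : G → ℂ) = n') (A : G →* Module.End k (Fin n' → k))
    (hAc : ∀ z ∈ Subgroup.center G, ∃ a : k, A z = a • 1) {z₀ : G} (hA0 : A z₀ = -1) :
    ∃ (R : G →* Matrix (Fin n') (Fin n') k) (δ : Fin n' → k),
      (∀ z ∈ Subgroup.center G, ∃ a : k, R z = a • 1) ∧
      gaussN p k (R x) = Diag.shiftM k n' ∧ R s = Matrix.diagonal δ := by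
  classical
  have hp := h.lt
  have hxp := pow_eq_one_of_order h.ord
  have hdeg1 := h.deg
  have hn0 : 0 < n' := hn ▸ DegreeBounds.Basic.charDegree_pos ζ
  haveI : Nonempty (Fin n') := ⟨⟨0, hn0⟩⟩
  haveI : Nontrivial (Fin n' → k) := inferInstance
  have h2k : (2 : k) ≠ 0 := fun h2 => by
    have := Nat.le_of_dvd two_pos ((CharP.cast_eq_zero_iff k p 2).1 (by exact_mod_cast h2))
    omega
  have htriv : ∀ {W : Type} [AddCommGroup W] [Module k W] (c : G →* Module.End k W),
      c x = 1 → c z₀ = 1 := by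
    intro W _ _ c hc
    exact (Subgroup.normalClosure_le_normal (s := {x}) (N := c.ker) (by simpa using hc))
      (by rw [hgen]; trivial)
  have hAx : A x ≠ 1 := fun h1 => by
    have h3 := LinearMap.congr_fun ((htriv A h1).symm.trans hA0) (fun _ => (1 : k))
    have h4 := congrFun h3 ⟨0, hn0⟩
    simp only [Module.End.one_apply, LinearMap.neg_apply, Pi.neg_apply] at h4
    exact h2k (by linear_combination h4)
  have hq : ∀ N : Subgroup G, ∀ [N.Normal], IsPGroup p (G ⧸ N) → x ∈ N := fun N _ hN =>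
    Half.mem_of_pgroup_quotient h.ord h.sq (fun hc hnorm => h.nn _ hnorm hc) (isCharacter_irr ζ)
      h.faith h.deg N hN
  have hirr : ∀ S : Submodule k (Fin n' → k), (∀ a, ∀ v ∈ S, A a v ∈ S) → S = ⊥ ∨ S = ⊤ := by
    intro S hS
    by_contra hcon
    push Not at hcon
    obtain ⟨hS0, hS1⟩ := hcon
    let cS : G →* Module.End k S :=
      { toFun := fun a => (A a).restrict (hS a)
        map_one' := LinearMap.ext fun v => Subtype.ext (by simp)
        map_mul' := fun a b => LinearMap.ext fun v => Subtype.ext (by simp) }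
    let cQ : G →* Module.End k ((Fin n' → k) ⧸ S) :=
      { toFun := fun a => S.mapQ S (A a) (hS a)
        map_one' := Submodule.linearMap_qext _ (LinearMap.ext fun v => by simp)
        map_mul' := fun a b => Submodule.linearMap_qext _ (LinearMap.ext fun v => by simp) }
    have hsum := S.finrank_quotient_add_finrank
    rw [Module.finrank_fin_fun] at hsum
    have hSx : cS x ≠ 1 := by
      intro h1
      obtain ⟨v, hv, hv0⟩ := (Submodule.ne_bot_iff S).1 hS0
      have h3 := congrArg Subtype.val (LinearMap.congr_fun (htriv cS h1) ⟨v, hv⟩)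
      change A z₀ v = v at h3
      rw [hA0, LinearMap.neg_apply, Module.End.one_apply, neg_eq_iff_add_eq_zero, ← two_smul k,
        smul_eq_zero] at h3
      exact hv0 (h3.resolve_left h2k)
    have hQx : cQ x ≠ 1 := by
      intro h1
      refine hS1 (eq_top_iff.2 fun v _ => ?_)
      have h3 := LinearMap.congr_fun (htriv cQ h1) (Submodule.Quotient.mk v)
      change Submodule.Quotient.mk (A z₀ v) = Submodule.Quotient.mk v at h3
      rw [Submodule.Quotient.eq, hA0, LinearMap.neg_apply, Module.End.one_apply,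
        show -v - v = (-2 : k) • v by rw [neg_smul, two_smul]; abel] at h3
      exact (S.smul_mem_iff (neg_ne_zero.2 h2k)).1 h3
    rcases le_or_gt (2 * Module.finrank k S) n' with hd | hd
    · obtain ⟨π, hπ⟩ := Half.exists_surj_of_small hint (by omega) h.ord h.sq hgen hq cS
        (by omega) hSx
      exact no_surj h hgen ht hπ
    · obtain ⟨π, hπ⟩ := Half.exists_surj_of_small hint (by omega) h.ord h.sq hgen hq cQ
        (by omega) hQx
      exact no_surj h hgen ht hπ
  obtain ⟨m, l, ι, hm2, hl1, hlm, hιinj, hιX, -, -⟩ :=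
    Block.exists_model A hirr h.ord h.sq hAx (by rw [Module.finrank_fin_fun]; omega)
  rw [Module.finrank_fin_fun] at hlm
  by_cases hshort : 2 * m ≤ p
  · obtain ⟨π, hπ, -⟩ := Faithful.exists_surj_of_short hint (by omega) h.ord h.sq hgen A hirr
      (by rw [Module.finrank_fin_fun]; omega) hshort
      (by rw [← hιX, ← map_one ι, ← map_sub, ← map_pow, Skew.pasc_pow_n, map_zero]) hAx
    exact (no_surj h hgen ht hπ).elim
  have hl : l = 1 := by
    by_contra hne
    have : 2 * m ≤ l * m := Nat.mul_le_mul_right m (by omega)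
    omega
  obtain rfl : m = n' := by rw [← hlm, hl, one_mul]
  have hnat : ∀ a : ℕ, 0 < a → a < m → (a : k) ≠ 0 := fun a ha0 ha h0 => by
    have := Nat.le_of_dvd ha0 ((CharP.cast_eq_zero_iff k p a).1 h0)
    omega
  have hXn : (A x - 1) ^ m = 0 := by
    rw [← hιX, ← map_one ι, ← map_sub, ← map_pow, Skew.pasc_pow_n, map_zero]
  have hXn1 : (A x - 1) ^ (m - 1) ≠ 0 := by
    rw [← hιX, ← map_one ι, ← map_sub, ← map_pow]
    intro h0
    have h1 : (pasc k m - 1) ^ (m - 1) = 0 := hιinj (by rw [h0, map_zero])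
    have h2 := (cyc_of_shift (isShift_pasc (k := k) (d := m)) (by omega) hnat).indep.ne_zero
      ⟨m - 1, by omega⟩
    refine h2 ?_
    show ((Matrix.toLinAlgEquiv' (pasc k m - 1)) ^ (m - 1)) (top k m) = 0
    rw [← map_pow, h1, map_zero, LinearMap.zero_apply]
  -- the generator
  obtain ⟨w, w', hw, hw1, hw2, hwc, hwc'⟩ := Gauss.exists_unit_one (k := k) (p := p) (by omega)
    (show A x ^ p = 1 by rw [← map_pow, hxp, map_one])
  set N := gaussN p k (A x) with hN
  have hNn : N ^ m = 0 := by rw [hw, hwc.mul_pow, hXn, zero_mul]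
  have hNn1 : N ^ (m - 1) ≠ 0 := fun h0 => hXn1 (by
    rw [← (Gauss.pow_unit hw1 hw2 hwc hwc' (m - 1)).1, ← hw, h0, zero_mul])
  -- the eigenvector
  set e := Fintype.card (ex h) with he
  obtain ⟨cs, hcs⟩ := hAc _ (pow_card_center E)
  rw [← he] at hcs
  obtain ⟨r₀, hr₀⟩ := IsAlgClosed.exists_pow_nat_eq cs (show 0 < e from Fintype.card_pos)
  have hr0 : r₀ ≠ 0 := by
    rintro rfl
    rw [zero_pow (Fintype.card_pos.ne')] at hr₀
    have h1 : A (s ^ e) * A (s ^ e)⁻¹ = 1 := by rw [← map_mul, mul_inv_cancel, map_one]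
    rw [hcs, ← hr₀, zero_smul, zero_mul] at h1
    exact zero_ne_one h1
  have hek : (e : k) ≠ 0 := fun h0 => by
    have h1 := Nat.le_of_dvd Fintype.card_pos ((CharP.cast_eq_zero_iff k p e).1 h0)
    have h2 := FeitSmall.Spikes.card_mul h
    rw [← he] at h2
    have h3 : 1 * e ≤ Fintype.card (Cls h) * e := Nat.mul_le_mul_right _ (by omega)
    omega
  have hS : (r₀⁻¹ • A s) ^ e = 1 := by
    rw [smul_pow, ← map_pow, hcs, smul_smul, inv_pow, hr₀, inv_mul_cancel₀, one_smul]
    rw [← hr₀]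
    exact pow_ne_zero _ hr0
  obtain ⟨w₀, hw₀⟩ : ∃ v, (N ^ (m - 1)) v ≠ 0 := by
    by_contra hcon
    push Not at hcon
    exact hNn1 (LinearMap.ext hcon)
  obtain ⟨ν, v₀, -, hSv, hv₀⟩ := Strings.exists_eig_vec hek hS (N ^ (m - 1)) hw₀
  have hAs : A s v₀ = (r₀ * ν) • v₀ := by
    rw [LinearMap.smul_apply, inv_smul_eq_iff₀ hr0, smul_smul] at hSv
    exact hSv
  have hcyc : Cyc N v₀ m := Cyc.of_ne (by rw [hNn]; rfl) hv₀
  let b := (hcyc.basis hn0 (Module.finrank_fin_fun k)).reindex Fin.revPerm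
  have hb : ∀ i : Fin m, b i = (N ^ (m - (i.1 + 1))) v₀ := fun i => by
    simp only [b, Module.Basis.reindex_apply, Fin.revPerm_symm, Fin.revPerm_apply,
      Cyc.basis_apply, Fin.val_rev]
  let R : G →* Matrix (Fin m) (Fin m) k :=
    (LinearMap.toMatrixAlgEquiv b).toMulEquiv.toMonoidHom.comp A
  refine ⟨R, fun i => coe k (g : ZMod p) ^ (m - (i.1 + 1)) * (r₀ * ν), fun z hz => ?_, ?_, ?_⟩
  · obtain ⟨a, ha⟩ := hAc z hz
    refine ⟨a, ?_⟩
    show LinearMap.toMatrixAlgEquiv b (A z) = _
    rw [ha, map_smul, map_one]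
  · show gaussN p k ((LinearMap.toMatrixAlgEquiv b).toAlgHom (A x)) = _
    rw [← Gauss.map_gaussN, ← hN]
    show LinearMap.toMatrixAlgEquiv b N = _
    ext i j
    rw [LinearMap.toMatrixAlgEquiv_apply, Diag.shiftM, Matrix.of_apply, hb, ← Module.End.mul_apply,
      ← pow_succ']
    rcases Nat.eq_zero_or_pos j.1 with hj | hj
    · rw [show m - (j.1 + 1) + 1 = m by omega, hNn, LinearMap.zero_apply, map_zero,
        Finsupp.zero_apply, if_neg (by omega)]
    · have hj' : j.1 - 1 < m := by omega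
      have hNb : (N ^ (m - (j.1 + 1) + 1)) v₀ = b ⟨j.1 - 1, hj'⟩ := by
        rw [hb]
        congr 2
        show m - (j.1 + 1) + 1 = m - (j.1 - 1 + 1)
        omega
      rw [hNb, Module.Basis.repr_self, Finsupp.single_apply]
      refine if_congr ?_ rfl rfl
      rw [Fin.ext_iff]
      show j.1 - 1 = i.1 ↔ _
      omega
  · show LinearMap.toMatrixAlgEquiv b (A s) = _
    ext i j
    have hconj : s * x * s⁻¹ = x ^ (g : ZMod p).val := by
      have h1 := E.conj 1 1
      rwa [pow_one, pow_one, mul_one, pow_val_one hxp] at h1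
    rw [LinearMap.toMatrixAlgEquiv_apply, hb, ← Module.End.mul_apply, hN,
      Stable.semi_pow A hxp hconj, LinearMap.smul_apply, Module.End.mul_apply, ← hN, hAs]
    simp only [map_smul, Finsupp.smul_apply, smul_eq_mul]
    rw [← hb, Module.Basis.repr_self, Finsupp.single_apply, Matrix.diagonal_apply]
    by_cases hij : j = i
    · subst hij; simp
    · simp [hij, Ne.symm hij]

set_option synthInstance.maxHeartbeats 400000 in
set_option maxHeartbeats 1000000 in
/-- The adapted basis for the reduction of the character. -/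
theorem exists_reduced (hgen : Subgroup.normalClosure {x} = ⊤) (ht : 3 ≤ Fintype.card (Cls h))
    (E : Eig h s g) {z₀ : G} (hz₀ : z₀ ∈ Subgroup.center G) (hz₂ : z₀ ^ 2 = 1) (hz₁ : z₀ ≠ 1)
    {M : Ideal Cfsg.AlgInt} [M.IsMaximal] (hM : Cfsg.IsPModular p M) {n : ℕ}
    (hn : Cfsg.charDegree (ζ : G → ℂ) = n) :
    haveI := Blocks.charP_residue hM
    ∃ (R : G →* Matrix (Fin n) (Fin n) (Cfsg.AlgInt ⧸ M)) (δ : Fin n → Cfsg.AlgInt ⧸ M),
      (∀ z ∈ Subgroup.center G, ∃ a : Cfsg.AlgInt ⧸ M, R z = a • 1) ∧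
      gaussN p (Cfsg.AlgInt ⧸ M) (R x) = Diag.shiftM (Cfsg.AlgInt ⧸ M) n ∧
      R s = Matrix.diagonal δ := by
  classical
  haveI : CharP (Cfsg.AlgInt ⧸ M) p := Blocks.charP_residue hM
  haveI : IsAlgClosed (Cfsg.AlgInt ⧸ M) := Blocks.isAlgClosed_residueField
  letI : Algebra (ZMod p) (Cfsg.AlgInt ⧸ M) := ZMod.algebra _ p
  haveI : IsScalarTower ℤ (ZMod p) (Cfsg.AlgInt ⧸ M) :=
    IsScalarTower.of_algebraMap_eq' (RingHom.ext_int _ _)
  have hint : ∀ a : Cfsg.AlgInt ⧸ M, IsIntegral (ZMod p) a := by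
    intro a
    obtain ⟨a, rfl⟩ := Ideal.Quotient.mk_surjective a
    have ha : IsIntegral ℤ a :=
      (isIntegral_algebraMap_iff (FaithfulSMul.algebraMap_injective Cfsg.AlgInt ℂ)).mp a.2
    exact (ha.map (Ideal.Quotient.mkₐ ℤ M)).tower_top
  obtain ⟨n', T, hT⟩ := BrauerChar.exists_matrix_localRing hM (isCharacter_irr ζ)
  obtain rfl : n' = n := by
    rw [← hn]
    exact_mod_cast (Affords.natCast_eq hT).trans (apply_one_zeta ζ)
  have hn0 : 0 < n' := hn ▸ DegreeBounds.Basic.charDegree_pos ζ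
  let A : G →* Module.End (Cfsg.AlgInt ⧸ M) (Fin n' → Cfsg.AlgInt ⧸ M) :=
    (Matrix.toLinAlgEquiv'.toMulEquiv.toMonoidHom).comp (((residue M).mapMatrix.toMonoidHom).comp T)
  refine exists_basis_form hint hgen ht E hn A (fun z hz => ?_) (z₀ := z₀) ?_
  · obtain ⟨c, hc, -⟩ := Affords.center_scalar hT hz
    refine ⟨residue M c, ?_⟩
    show Matrix.toLinAlgEquiv' ((residue M).mapMatrix (T z)) = _
    rw [show (residue M).mapMatrix (T z) =
        residue M c • (1 : Matrix (Fin n') (Fin n') (Cfsg.AlgInt ⧸ M)) by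
      rw [hc]; ext i j; simp [Matrix.one_apply, apply_ite (residue M)], map_smul, map_one]
  · obtain ⟨c, hc, hc1⟩ := Affords.center_scalar hT hz₀
    have hcc : c * c = 1 := by
      have h1 := congrFun (congrFun (congrArg T hz₂) ⟨0, hn0⟩) ⟨0, hn0⟩
      rw [map_pow, hc, map_one, smul_pow, one_pow, Matrix.smul_apply, Matrix.one_apply_eq,
        smul_eq_mul, mul_one, pow_two] at h1
      exact h1
    have hc2 : (c : ℂ) ≠ 1 := fun h1 => hz₁ (h.faith _ (by
      rw [h1, lam, eq_comm, div_eq_one_iff_eq (apply_one_ne_zero ζ)] at hc1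
      exact hc1))
    have hc3 : c = -1 := by
      refine Subtype.ext ?_
      have h1 : (c : ℂ) * c = 1 := congrArg Subtype.val hcc
      rcases mul_self_eq_one_iff.1 h1 with h2 | h2
      · exact absurd h2 hc2
      · rw [h2]; simp
    show Matrix.toLinAlgEquiv' ((residue M).mapMatrix (T z₀)) = _
    rw [hc, hc3, neg_smul, one_smul, map_neg, map_one, map_neg, map_one]

end Cfsg.Agent.Lib.FeitSmall.SingleBlock
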