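import Cfsg.Agent.Lib.FeitSmall.Family
import Cfsg.Agent.Lib.FeitSmall.Half
import Cfsg.Agent.S4504

/-!
# Two classes: the group is `PSL₂(p)` modulo the centre

With two classes the degree is `(p ± 1) / 2`.  The smaller one is S4504; for the larger one the
normal closure of `x` maps onto `PSL₂(p)` with central kernel, and the whole group is this normal
closure times the centre as the two have the same exponents fusing `x`.
-/

set_option autoImplicit false
set_option linter.unusedSectionVars false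
set_option linter.style.haveILetI false

namespace Cfsg.Agent.Lib.FeitSmall.Two

open Cfsg.Agent.Lib Cfsg.Agent.Lib.FirstPower Average Periods Cfsg.Agent.Lib.Characters.Basic
open Family (pow_eq_one_of_order)
open Setup Spikes
open Cfsg.Agent.Lib.DegSubTwo.Reduction (gen_core nn_core core' exists_conj_eq)

universe u

variable {p : ℕ} [Fact p.Prime] {G : Type u} [Group G] [Finite G] {x : G}
  {ζ : Cfsg.IrrCharacter G}

/-- With two classes the degree is `(p ± 1) / 2`. -/
theorem degree_cases (h : Hyp p x ζ) (h2 : Fintype.card (Cls h) = 2) :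
    2 * Cfsg.charDegree (ζ : G → ℂ) + 1 = p ∨ 2 * Cfsg.charDegree (ζ : G → ℂ) = p + 1 := by
  classical
  obtain ⟨Y, c, δ, hY, hδ, hmem, hval, hrest⟩ := exists_spikes h ζ
  obtain ⟨κ₀, hκ₀⟩ := (hrest ζ (self_mem_slice h ζ)).resolve_right (not_const h)
  have hc : c = 0 ∨ c = -δ :=
    (coord_bound h hY hδ hmem hval hrest).imp_right fun h' => h'.2
  obtain ⟨c₀, -, hdeg, -⟩ := exists_degree h ζ
  have hq : ∀ q, crd h ζ q = c + if q = κ₀ then δ else 0 := fun q => by
    have h1 := hval κ₀ q
    rw [congrArg (fun χ : Cfsg.IrrCharacter G => crd h χ q) hκ₀] at h1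
    exact h1
  simp only [hq, mul_add, mul_ite, mul_zero, Finset.sum_add_distrib, Finset.sum_ite_eq',
    Finset.mem_univ, if_true, Finset.sum_const, Finset.card_univ, nsmul_eq_mul, h2] at hdeg
  set e := Fintype.card (ex h) with he
  have hte := card_mul h
  rw [h2, ← he] at hte
  have hp := h.lt
  have hlt := h.deg
  have hlow := le_deg h
  have hn : (Cfsg.charDegree (ζ : G → ℂ) : ℤ) = (p : ℤ) * c₀ + e * (2 * c + δ) := by
    rw [hdeg, show (p : ℤ) = 2 * e + 1 by omega]
    push_cast
    ring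
  rcases Nat.lt_or_ge c₀ 2 with hc2 | hc2
  · interval_cases c₀
    · rcases hc with rfl | rfl <;> rcases hδ with rfl | rfl <;>
        · push_cast at hn
          omega
    · rcases hc with rfl | rfl <;> rcases hδ with rfl | rfl <;>
        · push_cast at hn
          omega
  · exfalso
    have h1 : (p : ℤ) * 2 ≤ p * c₀ := mul_le_mul_of_nonneg_left (by exact_mod_cast hc2) (by omega)
    rcases hc with rfl | rfl <;> rcases hδ with rfl | rfl <;>
      · push_cast at hn
        omega

set_option maxHeartbeats 400000 in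
/-- The larger degree. -/
theorem psl_of_half (h : Hyp p x ζ) (h2 : Fintype.card (Cls h) = 2)
    (hn : 2 * Cfsg.charDegree (ζ : G → ℂ) = p + 1) :
    Nonempty ((G ⧸ Subgroup.center G) ≃*
      Matrix.ProjectiveSpecialLinearGroup (Fin 2) (ZMod p)) := by
  classical
  set H := core' x with hH
  have hxH : x ∈ H := Subgroup.subset_normalClosure rfl
  set y : H := ⟨x, hxH⟩ with hy
  have hyo : orderOf y = p := by rw [← h.ord, ← Subgroup.orderOf_coe]
  have h2H : ¬ p ^ 2 ∣ Nat.card H := fun h' => h.sq (h'.trans (Subgroup.card_subgroup_dvd_card H))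
  let ζH : Cfsg.IrrCharacter H := ⟨_, restrict_irr h⟩
  have hdegH : Cfsg.charDegree (ζH : H → ℂ) = Cfsg.charDegree (ζ : G → ℂ) :=
    BlocksChars5.Basic.charDegree_congr rfl
  have hyH : Hyp p y ζH := ⟨h.lt, hyo, h2H, nn_core h.ord h.sq h.nn, hdegH ▸ h.deg,
    fun a ha => Subtype.ext (h.faith _ ha)⟩
  have h2' : Fintype.card (Cls hyH) = 2 := by
    have h1 := two_le hyH
    by_contra hne
    obtain ⟨-, -, hdeg', -⟩ := exists_value hyH (by omega)
    rw [hdegH] at hdeg'
    have hte := card_mul hyH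
    have := h.lt
    have : 3 * Fintype.card (ex hyH) ≤ Fintype.card (Cls hyH) * Fintype.card (ex hyH) :=
      Nat.mul_le_mul_right _ (by omega)
    omega
  -- the map onto `PSL₂(p)`
  obtain ⟨M, hM⟩ := Blocks.exists_isPModular p (Fact.out : p.Prime)
  haveI : M.IsMaximal := hM.2.1
  letI : Field (Cfsg.AlgInt ⧸ M) := Ideal.Quotient.field M
  haveI : CharP (Cfsg.AlgInt ⧸ M) p := Blocks.charP_residue hM
  haveI : IsAlgClosed (Cfsg.AlgInt ⧸ M) := Blocks.isAlgClosed_residueField
  letI : Algebra (ZMod p) (Cfsg.AlgInt ⧸ M) := ZMod.algebra _ p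
  have hint : ∀ a : Cfsg.AlgInt ⧸ M, IsIntegral (ZMod p) a := by
    intro a
    obtain ⟨a, rfl⟩ := Ideal.Quotient.mk_surjective a
    have ha : IsIntegral ℤ a :=
      (isIntegral_algebraMap_iff (FaithfulSMul.algebraMap_injective Cfsg.AlgInt ℂ)).mp a.2
    exact (ha.map (Ideal.Quotient.mkₐ ℤ M)).tower_top
  obtain ⟨d, A, hd, hker⟩ :=
    SmallReduction.exists_reduction (p := p) hM (isCharacter_irr ζH)
  have hdn : d = Cfsg.charDegree (ζ : G → ℂ) := by
    rw [← hdegH]
    exact_mod_cast hd.symm.trans (apply_one_zeta ζH)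
  have hcy : A y ≠ 1 := fun h1 => by
    have hinj : A.ker = ⊥ := eq_bot_of_pgroup hyH (fun a => by
      obtain ⟨k, hk⟩ : ∃ k, ¬ p ∣ orderOf ((a : H) ^ p ^ k) := by
        refine ⟨(orderOf (a : H)).factorization p, ?_⟩
        rw [orderOf_pow_of_dvd (pow_ne_zero _ (Fact.out : p.Prime).ne_zero) (Nat.ordProj_dvd _ _)]
        exact Nat.not_dvd_ordCompl Fact.out (orderOf_pos (a : H)).ne'
      refine ⟨k, Subtype.ext ?_⟩
      rw [SubmonoidClass.coe_pow]
      exact hyH.faith _ (hker _ hk (by rw [map_pow, MonoidHom.mem_ker.mp a.2, one_pow])))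
    have hy1 : y = 1 := (MonoidHom.ker_eq_bot_iff A).mp hinj (h1.trans (map_one A).symm)
    rw [hy1, orderOf_one] at hyo
    have := h.lt
    omega
  have hdeg1 : Cfsg.charDegree (ζH : H → ℂ) + 1 < p := hyH.deg
  obtain ⟨π, hπ⟩ := Half.exists_surj hint h.lt hyo h2H (gen_core h.ord h.sq)
    (fun N _ hN => Half.mem_of_pgroup_quotient hyo h2H
      (fun hc hnorm => hyH.nn _ hnorm hc) (isCharacter_irr ζH) hyH.faith hdeg1 N hN) A
    (by rw [Module.finrank_fin_fun, hdn]; exact hn) hcy
  have hπker := Half.ker_eq_center h.lt hyo h2H (gen_core h.ord h.sq) (isCharacter_irr ζH)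
    hyH.faith hdeg1 hπ
  -- the exponents
  have hE : ex hyH = ex h := by
    refine Subgroup.eq_of_le_of_card_ge (fun u hu => ?_) ?_
    · obtain ⟨a, ha⟩ := isConj_iff.1 ((mem_autE (pow_eq_one_of_order hyo)).1 hu)
      refine (mem_autE (pow_eq_one_of_order h.ord)).2 (isConj_iff.2 ⟨(a : G), ?_⟩)
      simpa [hy] using congrArg Subtype.val ha
    · have h1 := card_mul hyH
      have h3 := card_mul h
      rw [h2'] at h1
      rw [h2] at h3
      rw [Nat.card_eq_fintype_card, Nat.card_eq_fintype_card]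
      omega
  -- the splitting
  have hsplit : ∀ g : G, ∃ a : H, ∃ z ∈ Subgroup.center G, g = a * z := by
    intro g
    obtain ⟨-, b, hb, hbx⟩ := exists_conj_eq h.ord h.sq H hxH (g * x * g⁻¹)
      (by rw [← MulAut.conj_apply, MulEquiv.orderOf_eq, h.ord])
    obtain ⟨j, hj⟩ := (mem_zpowers_iff_val (pow_eq_one_of_order h.ord)).1 hbx
    have hj0 : j ≠ 0 := fun h0 => by
      rw [h0, ZMod.val_zero, pow_zero, eq_comm, show b * (g * x * g⁻¹) * b⁻¹ =
        b * g * x * (b * g)⁻¹ by group, conj_eq_one_iff] at hj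
      have := h.ord
      rw [hj, orderOf_one] at this
      have := h.lt
      omega
    have hu : (Units.mk0 j hj0) ∈ ex hyH := by
      rw [hE, mem_autE, Units.val_mk0]
      exact isConj_iff.2 ⟨b * g, by rw [hj]; group⟩
    obtain ⟨a, ha⟩ := isConj_iff.1 ((mem_autE (pow_eq_one_of_order hyo)).1 hu)
    have ha' : (a : G) * x * (a : G)⁻¹ = x ^ j.val := by
      simpa [hy] using congrArg Subtype.val ha
    have hc : (a : G)⁻¹ * (b * g) ∈ Subgroup.centralizer ({x} : Set G) := by
      rw [Core.commute_iff_conj, show (a : G)⁻¹ * (b * g) * x * ((a : G)⁻¹ * (b * g))⁻¹ =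
        (a : G)⁻¹ * (b * (g * x * g⁻¹) * b⁻¹) * a by group, ← hj, ← ha']
      group
    obtain ⟨i, z, hz⟩ := exists_decomp h.ord h.sq (isVPart_center h) hc
    refine ⟨⟨b⁻¹, H.inv_mem hb⟩ * a * y ^ i.val, z, z.2, ?_⟩
    simp only [Subgroup.coe_mul, SubmonoidClass.coe_pow, hy]
    rw [mul_assoc, mul_assoc, ← hz]
    group
  -- conclusion
  let f : H →* G ⧸ Subgroup.center G := (QuotientGroup.mk' _).comp H.subtype
  have hf : Function.Surjective f := by
    intro q
    obtain ⟨g, rfl⟩ := QuotientGroup.mk_surjective q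
    obtain ⟨a, z, hz, rfl⟩ := hsplit g
    refine ⟨a, ?_⟩
    show ((a : G) : G ⧸ Subgroup.center G) = _
    rw [QuotientGroup.mk_mul, (QuotientGroup.eq_one_iff z).2 hz, mul_one]
  have hfker : f.ker = π.ker := by
    ext a
    show ((a : G) : G ⧸ Subgroup.center G) = 1 ↔ _
    rw [QuotientGroup.eq_one_iff, hπker]
    constructor
    · intro ha
      rw [Subgroup.mem_center_iff]
      exact fun b => Subtype.ext (Subgroup.mem_center_iff.1 ha b)
    · intro ha
      refine mem_center_of_core h fun b hb => ?_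
      exact (congrArg Subtype.val (Subgroup.mem_center_iff.1 ha ⟨b, hb⟩)).symm
  exact ⟨((QuotientGroup.quotientKerEquivOfSurjective f hf).symm.trans
    (QuotientGroup.quotientMulEquivOfEq hfker)).trans
    (QuotientGroup.quotientKerEquivOfSurjective π hπ)⟩

/-- With two classes the group is `PSL₂(p)` modulo its centre. -/
theorem psl_of_two (h : Hyp p x ζ) (h2 : Fintype.card (Cls h) = 2) :
    Nonempty ((G ⧸ Subgroup.center G) ≃*
      Matrix.ProjectiveSpecialLinearGroup (Fin 2) (ZMod p)) ∧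
      (2 * Cfsg.charDegree (ζ : G → ℂ) + 1 = p ∨ 2 * Cfsg.charDegree (ζ : G → ℂ) = p + 1) := by
  refine ⟨?_, degree_cases h h2⟩
  rcases degree_cases h h2 with hn | hn
  · exact Cfsg.Agent.S4504.result p Fact.out (prime_dvd_card h) h.sq h.nn (ζ : G → ℂ)
      (isCharacter_irr ζ) h.faith hn
  · exact psl_of_half h h2 hn

end Cfsg.Agent.Lib.FeitSmall.Two
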