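import Cfsg.Agent.Lib.FeitSmall.Alt
import Cfsg.Agent.Lib.FeitSmall.Main
import Cfsg.Agent.Lib.FeitSmall.Two
import Cfsg.Agent.Lib.FeitSmall.Lattice
import Cfsg.Agent.Lib.FeitSmall.SingleBlock

/-!
# With three classes there are at least `e + 3`

One passes to the normal closure of `x`.  For a centre of odd order `e = 2`; otherwise `e` is odd,
`e ≤ t` by counting maps into the adjoint module and `e + 1 ≠ t` by the exterior square.
-/

set_option autoImplicit false
set_option linter.unusedSectionVars false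
set_option linter.style.haveILetI false

namespace Cfsg.Agent.Lib.FeitSmall.Classes

open Cfsg.Agent.Lib Cfsg.Agent.Lib.FirstPower Average Periods Cfsg.Agent.Lib.Characters.Basic
open Family (pow_eq_one_of_order)
open Setup Spikes Eigen
open Cfsg.Agent.Lib.DegSubTwo.Reduction (gen_core nn_core core')

attribute [local instance] Ideal.Quotient.field

universe u

variable {p : ℕ} [Fact p.Prime] {G : Type u} [Group G] [Finite G] {x : G}
  {ζ : Cfsg.IrrCharacter G}

set_option maxHeartbeats 800000 in
/-- The bound when the group is generated by the conjugates of `x`. -/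
theorem bound_of_gen (h : Hyp p x ζ) (hgen : Subgroup.normalClosure {x} = ⊤) (st : Std h) :
    Fintype.card (ex h) + 3 ≤ Fintype.card (Cls h) := by
  classical
  have hp := h.lt
  have ht := st.three
  have he2 := st.two_le_card
  have hte := card_mul h
  have hdeg := st.deg
  by_cases hZ : Odd (Nat.card (Subgroup.center G))
  · have h2 := Main.card_eq_two st hZ
    rw [h2] at hte ⊢
    by_contra hlt
    have h1 : p = 2 * Fintype.card (Cls h) + 1 := by omega
    have h4 : Fintype.card (Cls h) = 4 := by omega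
    rw [h4] at h1
    exact absurd (h1 ▸ (Fact.out : p.Prime)) (by norm_num)
  rw [Nat.not_odd_iff_even] at hZ
  haveI : Fact (Nat.Prime 2) := ⟨Nat.prime_two⟩
  obtain ⟨⟨z₀, hz₀⟩, hzo⟩ := exists_prime_orderOf_dvd_card' (G := Subgroup.center G) 2
    (even_iff_two_dvd.1 hZ)
  rw [Subgroup.orderOf_mk] at hzo
  have hz2 : z₀ ^ 2 = 1 := by rw [← hzo, pow_orderOf_eq_one]
  have hz1 : z₀ ≠ 1 := fun h0 => by rw [h0, orderOf_one] at hzo; omega
  obtain ⟨s, g, E⟩ := exists_eig h
  have hxp := pow_eq_one_of_order h.ord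
  have hconj : s * x * s⁻¹ = x ^ (g : ZMod p).val := by
    have h1 := E.conj 1 1
    rwa [pow_one, pow_one, mul_one, pow_val_one hxp] at h1
  -- `det` forces the degree to be even
  have heo : Odd (Fintype.card (ex h)) := by
    obtain ⟨n, ρ, hρ, hρχ⟩ := exists_rep ζ
    have hn : Cfsg.charDegree (ζ : G → ℂ) = n := by
      have h0 : (ζ : G → ℂ) 1 = n := by
        rw [← hρχ, Representation.char_one, Module.finrank_fin_fun]
      exact_mod_cast (apply_one_zeta ζ).symm.trans h0
    obtain ⟨c, hc⟩ := Clifford.Rep.schur ρ (ρ z₀) (fun a => by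
      rw [← map_mul, ← map_mul, Subgroup.mem_center_iff.1 hz₀ a])
    have hcc : c * c = 1 := by
      have h1 : ρ z₀ * ρ z₀ = 1 := by rw [← map_mul, ← pow_two, hz2, map_one]
      rw [hc, smul_mul_smul_comm, one_mul] at h1
      haveI := Clifford.Rep.nontrivial_of_irreducible ρ
      obtain ⟨v, hv⟩ := exists_ne (0 : Fin n → ℂ)
      have h2 := LinearMap.congr_fun h1 v
      rw [LinearMap.smul_apply, Module.End.one_apply] at h2
      have h3 : (c * c - 1) • v = 0 := by rw [sub_smul, one_smul, h2, sub_self]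
      exact sub_eq_zero.1 ((smul_eq_zero.1 h3).resolve_right hv)
    have hc1 : c ≠ 1 := fun h0 => hz1 (h.faith _ (by
      rw [← hρχ, Representation.character, Representation.character, hc, h0, one_smul, map_one ρ]))
    obtain rfl : c = -1 := (mul_self_eq_one_iff.1 hcc).resolve_left hc1
    let D : G →* ℂ := LinearMap.det.comp ρ
    have hdx : D x = 1 := by
      have h1 : D x ^ p = 1 := by rw [← map_pow, hxp, map_one]
      have h2 : D x ^ (g : ZMod p).val = D x := by
        rw [← map_pow, ← hconj, map_mul, map_mul, mul_comm (D s), mul_assoc, ← map_mul,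
          mul_inv_cancel, map_one, mul_one]
      rcases (Nat.dvd_prime (Fact.out : p.Prime)).1 (orderOf_dvd_of_pow_eq_one h1) with h3 | h3
      · exact orderOf_eq_one_iff.1 h3
      exfalso
      have h4 := h2.trans (pow_one (D x)).symm
      replace h4 : (g : ZMod p).val = 1 := pow_injOn_Iio_orderOf
        (by rw [Set.mem_Iio, h3]; exact ZMod.val_lt _)
        (by rw [Set.mem_Iio, h3]; omega) h4
      have h5 : g = 1 := Units.ext (by
        rw [← ZMod.natCast_zmod_val (g : ZMod p), h4, Nat.cast_one, Units.val_one])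
      have h6 := E.ord
      rw [h5, orderOf_one] at h6
      omega
    have hker : Subgroup.normalClosure {x} ≤ D.ker :=
      Subgroup.normalClosure_le_normal (by simpa using hdx)
    rw [hgen] at hker
    have h7 : D z₀ = 1 := hker trivial
    change LinearMap.det (ρ z₀) = 1 at h7
    rw [hc, LinearMap.det_smul, Module.finrank_fin_fun, map_one, mul_one,
      neg_one_pow_eq_one_iff_even (by norm_num)] at h7
    obtain ⟨j, hj⟩ := h7
    obtain ⟨i, hi⟩ := (Fact.out : p.Prime).odd_of_ne_two (by omega)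
    refine ⟨i - j, ?_⟩
    omega
  have hno : ¬ Even (Fintype.card (ex h)) := Nat.not_even_iff_odd.2 heo
  have hteven : Even (Fintype.card (Cls h)) := by
    have h1 : Even (Fintype.card (Cls h) * Fintype.card (ex h)) := by
      rw [hte]
      exact (Fact.out : p.Prime).even_sub_one (by omega)
    exact (Nat.even_mul.1 h1).resolve_right hno
  have h4 : 4 * Fintype.card (ex h) < p := by
    obtain ⟨j, hj⟩ := hteven
    have : 4 * Fintype.card (ex h) ≤ Fintype.card (Cls h) * Fintype.card (ex h) :=
      Nat.mul_le_mul_right _ (by omega)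
    omega
  -- the count
  obtain ⟨M, hM⟩ := Blocks.exists_isPModular p (Fact.out : p.Prime)
  haveI : M.IsMaximal := hM.2.1
  haveI : CharP (Cfsg.AlgInt ⧸ M) p := Blocks.charP_residue hM
  haveI : IsAlgClosed (Cfsg.AlgInt ⧸ M) := Blocks.isAlgClosed_residueField
  obtain ⟨R, δ, hRz, hshift, hdiag⟩ :=
    SingleBlock.exists_reduced hgen ht E hz₀ hz2 hz1 hM (n := Cfsg.charDegree (ζ : G → ℂ)) rfl
  obtain ⟨d, c, v, ν, hcz, hvx, hvs, hspan, hdim⟩ := Lattice.exists_module ht E h4 hM
  have hnorm : ∀ a ∈ Subgroup.normalizer (Subgroup.zpowers x : Set G),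
      ∃ i j : ℕ, ∃ z ∈ Subgroup.center G, a = s ^ i * x ^ j * z := by
    intro a ha
    obtain ⟨j, hj⟩ := (mem_zpowers_iff_val hxp).1
      ((Subgroup.mem_normalizer_iff.1 ha x).1 (Subgroup.mem_zpowers x))
    have hj0 : j ≠ 0 := fun h0 => by
      rw [h0, ZMod.val_zero, pow_zero, eq_comm, conj_eq_one_iff] at hj
      have h8 := h.ord
      rw [hj, orderOf_one] at h8
      omega
    have hu : Units.mk0 j hj0 ∈ ex h := by
      rw [mem_autE, Units.val_mk0]
      exact isConj_iff.2 ⟨a, hj.symm⟩
    have hg : g ∈ ex h := by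
      rw [mem_autE]
      exact isConj_iff.2 ⟨s, hconj⟩
    have hz : Subgroup.zpowers g = ex h := Subgroup.eq_of_le_of_card_ge
      (Subgroup.zpowers_le.2 hg) (by rw [Nat.card_zpowers, E.ord, Nat.card_eq_fintype_card])
    rw [← hz, ← mem_powers_iff_mem_zpowers] at hu
    obtain ⟨i, hi⟩ := hu
    have hsi : s ^ i * x * (s ^ i)⁻¹ = x ^ j.val := by
      have h1 := E.conj i 1
      rw [mul_one, pow_val_one hxp] at h1
      rw [h1, ← Units.val_pow_eq_pow_val, show g ^ i = Units.mk0 j hj0 from hi, Units.val_mk0]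
    have hcen : (s ^ i)⁻¹ * a ∈ Subgroup.centralizer ({x} : Set G) := by
      rw [Core.commute_iff_conj, show (s ^ i)⁻¹ * a * x * ((s ^ i)⁻¹ * a)⁻¹ =
        (s ^ i)⁻¹ * (a * x * a⁻¹) * s ^ i by group, ← hj, ← hsi]
      group
    obtain ⟨b, z, hbz⟩ := exists_decomp h.ord h.sq (isVPart_center h) hcen
    exact ⟨i, b.val, z, z.2, by rw [mul_assoc, ← hbz, mul_inv_cancel_left]⟩
  have hle : Fintype.card (ex h) ≤ Fintype.card (Cls h) :=
    Stable.le_classes h.ord h.sq Fintype.card_pos h4 hdeg (by omega) E.ord hconj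
      (pow_card_center E) hnorm R hRz hshift hdiag c hcz hvx hvs hspan
      (by rw [Module.finrank_fin_fun]; exact hdim)
  have hne := Alt.not_pred st E hno
  obtain ⟨i, hi⟩ := heo
  obtain ⟨j, hj⟩ := hteven
  omega

/-- The bound. -/
theorem card_add_three_le (h : Hyp p x ζ) (ht : 3 ≤ Fintype.card (Cls h)) :
    Fintype.card (ex h) + 3 ≤ Fintype.card (Cls h) := by
  classical
  set H := core' x with hH
  have hxH : x ∈ H := Subgroup.subset_normalClosure rfl
  set y : H := ⟨x, hxH⟩ with hy
  have hyo : orderOf y = p := by rw [← h.ord, ← Subgroup.orderOf_coe]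
  have h2H : ¬ p ^ 2 ∣ Nat.card H := fun h' => h.sq (h'.trans (Subgroup.card_subgroup_dvd_card H))
  let ζH : Cfsg.IrrCharacter H := ⟨_, restrict_irr h⟩
  have hdegH : Cfsg.charDegree (ζH : H → ℂ) = Cfsg.charDegree (ζ : G → ℂ) :=
    BlocksChars5.Basic.charDegree_congr rfl
  have hyH : Hyp p y ζH := ⟨h.lt, hyo, h2H, nn_core h.ord h.sq h.nn, hdegH ▸ h.deg,
    fun a ha => Subtype.ext (h.faith _ ha)⟩
  obtain ⟨-, -, hdeg, -⟩ := exists_value h ht
  have hp := h.lt
  have hte := card_mul h
  have hteH := card_mul hyH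
  have ht' : 3 ≤ Fintype.card (Cls hyH) := by
    have h1 := two_le hyH
    by_contra hne
    have h2 : Fintype.card (Cls hyH) = 2 := by omega
    have h3 := Two.degree_cases hyH h2
    have : 3 * Fintype.card (ex h) ≤ Fintype.card (Cls h) * Fintype.card (ex h) :=
      Nat.mul_le_mul_right _ ht
    rw [hdegH] at h3
    omega
  obtain ⟨-, -, hdeg', -⟩ := exists_value hyH ht'
  rw [hdegH] at hdeg'
  have hee : Fintype.card (ex hyH) = Fintype.card (ex h) := by omega
  have htt : Fintype.card (Cls hyH) = Fintype.card (Cls h) := by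
    rw [hee] at hteH
    exact Nat.eq_of_mul_eq_mul_right Fintype.card_pos (hteH.trans hte.symm)
  obtain ⟨y', hy', hexeq, st⟩ := exists_std hyH ht'
  have hcE : Fintype.card (ex hy') = Fintype.card (ex hyH) := by
    rw [← Nat.card_eq_fintype_card, ← Nat.card_eq_fintype_card, hexeq]
  have hcT : Fintype.card (Cls hy') = Fintype.card (Cls hyH) := by
    have h1 := card_mul hy'
    rw [hcE] at h1
    exact Nat.eq_of_mul_eq_mul_right Fintype.card_pos (h1.trans hteH.symm)
  have hgen' : Subgroup.normalClosure ({y'} : Set H) = ⊤ := by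
    have hmem : y ∈ Subgroup.normalClosure ({y'} : Set H) := Slice.mem_of_dvd hyH _ (by
      have h1 : y' ∈ Subgroup.normalClosure ({y'} : Set H) := Subgroup.subset_normalClosure rfl
      exact hy'.ord ▸ Subgroup.orderOf_dvd_natCard _ h1)
    rw [eq_top_iff, ← gen_core h.ord h.sq]
    exact Subgroup.normalClosure_le_normal (Set.singleton_subset_iff.2 hmem)
  have := bound_of_gen hy' hgen' st
  omega

end Cfsg.Agent.Lib.FeitSmall.Classes
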