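import Cfsg.Agent.Lib.FirstPower.Family
import Cfsg.Agent.Lib.FirstPower.SmallDegree.Eta

/-!
# Products of Gaussian periods and cyclotomic numbers

For a subgroup `E` of `(ZMod p)ˣ` of order `e` and index `t`, `cyc d k` is the number of
`v` in the coset `d` with `1 + v` in the coset `k`.  The second moment of these numbers and a
comparison of two of the rows show that they cannot all be bounded by a number `A` in the cases
needed for characters of degree `p - e`.
-/

set_option autoImplicit false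
set_option linter.style.haveILetI false
set_option linter.unusedSectionVars false

namespace Cfsg.Agent.Lib.FeitSmall.Cyclotomy

open Cfsg.Agent.Lib.FirstPower Periods
open scoped ComplexConjugate

variable {p : ℕ} [Fact p.Prime] (E : Subgroup (ZMod p)ˣ)

/-- The coset of `-1`. -/
def negc : (ZMod p)ˣ ⧸ E := QuotientGroup.mk (-1)

theorem negc_mul_self : negc E * negc E = 1 := by
  rw [negc, ← QuotientGroup.mk_mul, neg_mul_neg, one_mul, QuotientGroup.mk_one]

open scoped Classical in
/-- The cyclotomic number. -/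
noncomputable def cyc (d k : (ZMod p)ˣ ⧸ E) : ℕ :=
  (Finset.univ.filter fun v : (ZMod p)ˣ => (QuotientGroup.mk v : (ZMod p)ˣ ⧸ E) = d ∧
    ∃ w : (ZMod p)ˣ, (w : ZMod p) = 1 + v ∧ (QuotientGroup.mk w : (ZMod p)ˣ ⧸ E) = k).card

theorem exists_succ {v : (ZMod p)ˣ} (hv : v ≠ -1) :
    ∃ w : (ZMod p)ˣ, (w : ZMod p) = 1 + v := by
  refine ⟨Units.mk0 (1 + (v : ZMod p)) fun h => hv (Units.ext ?_), rfl⟩
  rw [Units.val_neg, Units.val_one]
  linear_combination h

theorem succ_ne_zero {v : (ZMod p)ˣ} {w : (ZMod p)ˣ} (hw : (w : ZMod p) = 1 + v) : v ≠ -1 := by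
  rintro rfl
  rw [Units.val_neg, Units.val_one, add_neg_cancel] at hw
  exact w.ne_zero hw

open scoped Classical in
/-- Interchanging `v` and `-(1 + v)`. -/
theorem cyc_comm (d k : (ZMod p)ˣ ⧸ E) : cyc E d k = cyc E (k * negc E) (d * negc E) := by
  have key : ∀ d k : (ZMod p)ˣ ⧸ E, cyc E d k ≤ cyc E (k * negc E) (d * negc E) := by
    intro d k
    unfold cyc
    refine Finset.card_le_card_of_injOn
      (fun v => if h : v = -1 then v else -(exists_succ h).choose) ?_ ?_
    · intro v hv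
      simp only [Finset.coe_filter, Finset.mem_univ, true_and, Set.mem_ofPred_eq] at hv ⊢
      obtain ⟨hvd, w, hw, hwk⟩ := hv
      rw [dif_neg (succ_ne_zero hw)]
      have hs := (exists_succ (succ_ne_zero hw)).choose_spec
      have heq : (exists_succ (succ_ne_zero hw)).choose = w := Units.ext (hs.trans hw.symm)
      rw [heq]
      refine ⟨?_, -v, ?_, ?_⟩
      · rw [negc, ← hwk, ← QuotientGroup.mk_mul, mul_neg_one]
      · rw [Units.val_neg, Units.val_neg, hw]; ring
      · rw [negc, ← hvd, ← QuotientGroup.mk_mul, mul_neg_one]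
    · intro v hv v' hv' h
      simp only [Finset.coe_filter, Finset.mem_univ, true_and, Set.mem_ofPred_eq] at hv hv'
      obtain ⟨-, w, hw, -⟩ := hv
      obtain ⟨-, w', hw', -⟩ := hv'
      simp only [dif_neg (succ_ne_zero hw), dif_neg (succ_ne_zero hw'), neg_inj] at h
      have h1 := (exists_succ (succ_ne_zero hw)).choose_spec
      have h2 := (exists_succ (succ_ne_zero hw')).choose_spec
      rw [h, h2] at h1
      exact Units.ext (add_left_cancel h1).symm
  refine le_antisymm (key d k) ?_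
  have h := key (k * negc E) (d * negc E)
  rwa [mul_assoc, negc_mul_self, mul_one, mul_assoc, negc_mul_self, mul_one] at h

open scoped Classical in
/-- Interchanging `v` and `v⁻¹`. -/
theorem cyc_inv (d k : (ZMod p)ˣ ⧸ E) : cyc E d k = cyc E d⁻¹ (k * d⁻¹) := by
  have key : ∀ d k : (ZMod p)ˣ ⧸ E, cyc E d k ≤ cyc E d⁻¹ (k * d⁻¹) := by
    intro d k
    unfold cyc
    refine Finset.card_le_card_of_injOn (fun v => v⁻¹) ?_ (fun a _ b _ h => inv_injective h)
    intro v hv
    simp only [Finset.coe_filter, Finset.mem_univ, true_and, Set.mem_ofPred_eq] at hv ⊢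
    obtain ⟨hvd, w, hw, hwk⟩ := hv
    refine ⟨by rw [QuotientGroup.mk_inv, hvd], w * v⁻¹, ?_,
      by rw [QuotientGroup.mk_mul, QuotientGroup.mk_inv, hvd, hwk]⟩
    rw [Units.val_mul, hw, add_mul, one_mul, Units.mul_inv, add_comm]
  refine le_antisymm (key d k) ?_
  have h := key d⁻¹ (k * d⁻¹)
  rwa [inv_inv, mul_assoc, inv_mul_cancel, mul_one] at h

variable [Fintype E] [Fintype ((ZMod p)ˣ ⧸ E)]

open scoped Classical in
theorem sum_cyc (d : (ZMod p)ˣ ⧸ E) :
    ∑ k, (cyc E d k : ℤ) = Fintype.card E - if d = negc E then 1 else 0 := by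
  set S := Finset.univ.filter fun v : (ZMod p)ˣ =>
    (QuotientGroup.mk v : (ZMod p)ˣ ⧸ E) = d with hS
  let nx : (ZMod p)ˣ → (ZMod p)ˣ ⧸ E := fun v =>
    if h : v = -1 then 1 else QuotientGroup.mk (exists_succ h).choose
  have h1 : ∀ k, cyc E d k = ((S.erase (-1)).filter fun v => nx v = k).card := by
    intro k
    unfold cyc
    congr 1
    ext v
    simp only [Finset.mem_filter, Finset.mem_univ, true_and, hS, Finset.mem_erase]
    constructor
    · rintro ⟨hvd, w, hw, hwk⟩
      refine ⟨⟨succ_ne_zero hw, hvd⟩, ?_⟩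
      simp only [nx, dif_neg (succ_ne_zero hw)]
      rw [← hwk]
      exact congrArg _ (Units.ext ((exists_succ (succ_ne_zero hw)).choose_spec.trans hw.symm))
    · rintro ⟨⟨hv, hvd⟩, hk⟩
      simp only [nx, dif_neg hv] at hk
      exact ⟨hvd, _, (exists_succ hv).choose_spec, hk⟩
  simp only [h1, ← Nat.cast_sum]
  rw [← Finset.card_eq_sum_card_fiberwise fun v _ => Finset.mem_univ _]
  have hcard : S.card = Fintype.card E := card_fiber E d
  by_cases hd : d = negc E
  · have hm : (-1 : (ZMod p)ˣ) ∈ S := by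
      rw [hS, Finset.mem_filter]; exact ⟨Finset.mem_univ _, hd.symm⟩
    rw [Finset.card_erase_of_mem hm, hcard, if_pos hd, Nat.cast_sub Fintype.card_pos]
    simp
  · have hm : (-1 : (ZMod p)ˣ) ∉ S := fun h => hd (Finset.mem_filter.mp h).2.symm
    rw [Finset.erase_eq_of_notMem hm, hcard, if_neg hd, sub_zero]

open scoped Classical in
theorem eta_mul_unit (q : (ZMod p)ˣ ⧸ E) (w : (ZMod p)ˣ) :
    ∑ u ∈ Finset.univ.filter (fun u : (ZMod p)ˣ => (QuotientGroup.mk u : (ZMod p)ˣ ⧸ E) = q),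
      chr p ((u : ZMod p) * w) = eta E (q * QuotientGroup.mk w) := by
  rw [eta]
  refine Finset.sum_bij (fun u _ => u * w) ?_ (fun _ _ _ _ h => mul_right_cancel h) ?_ ?_
  · intro u hu
    rw [Finset.mem_filter] at hu ⊢
    exact ⟨Finset.mem_univ _, by rw [QuotientGroup.mk_mul, hu.2]⟩
  · intro u hu
    rw [Finset.mem_filter] at hu
    refine ⟨u * w⁻¹, Finset.mem_filter.mpr ⟨Finset.mem_univ _, ?_⟩, inv_mul_cancel_right u w⟩
    rw [QuotientGroup.mk_mul, hu.2, QuotientGroup.mk_inv, mul_inv_cancel_right]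
  · intro u _
    rw [Units.val_mul]

open scoped Classical in
/-- The product of two periods. -/
theorem eta_mul_eta (r d : (ZMod p)ˣ ⧸ E) :
    eta E r * eta E (r * d) = (if d = negc E then (Fintype.card E : ℂ) else 0) +
      ∑ k, (cyc E d k : ℂ) * eta E (r * k) := by
  set R := Finset.univ.filter fun u : (ZMod p)ˣ => (QuotientGroup.mk u : (ZMod p)ˣ ⧸ E) = r with hR
  set D := Finset.univ.filter fun u : (ZMod p)ˣ => (QuotientGroup.mk u : (ZMod p)ˣ ⧸ E) = d with hD
  have h1 : eta E r * eta E (r * d) =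
      ∑ v ∈ D, ∑ u ∈ R, chr p ((u : ZMod p) * (1 + v)) := by
    rw [eta, Finset.sum_mul, Finset.sum_comm]
    refine Finset.sum_congr rfl fun u hu => ?_
    have h2 : eta E (r * d) = ∑ v ∈ D, chr p ((v : ZMod p) * u) := by
      rw [hD, eta_mul_unit, mul_comm r, (Finset.mem_filter.mp hu).2]
    rw [h2, Finset.mul_sum]
    refine Finset.sum_congr rfl fun v _ => ?_
    rw [← chr_add]
    congr 1
    ring
  rw [h1]
  let nx : (ZMod p)ˣ → (ZMod p)ˣ ⧸ E := fun v =>
    if h : v = -1 then 1 else QuotientGroup.mk (exists_succ h).choose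
  have hterm : ∀ v ∈ D, ∑ u ∈ R, chr p ((u : ZMod p) * (1 + v)) =
      if v = -1 then (Fintype.card E : ℂ) else eta E (r * nx v) := by
    intro v _
    by_cases hv : v = -1
    · subst hv
      rw [if_pos rfl]
      simp only [Units.val_neg, Units.val_one, add_neg_cancel, mul_zero, chr_zero,
        Finset.sum_const, nsmul_eq_mul, mul_one]
      rw [hR, card_fiber]
    · rw [if_neg hv]
      simp only [nx, dif_neg hv]
      rw [← eta_mul_unit, hR]
      exact Finset.sum_congr rfl fun u _ => by rw [(exists_succ hv).choose_spec]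
  rw [Finset.sum_congr rfl hterm]
  have hsplit : ∀ v ∈ D, (if v = -1 then (Fintype.card E : ℂ) else eta E (r * nx v)) =
      (if v = -1 then (Fintype.card E : ℂ) else 0) +
        ∑ k, (if v ≠ -1 ∧ nx v = k then (1 : ℂ) else 0) * eta E (r * k) := by
    intro v _
    by_cases hv : v = -1
    · rw [if_pos hv, if_pos hv, Finset.sum_eq_zero fun k _ => by
        rw [if_neg (fun h => h.1 hv), zero_mul], add_zero]
    · rw [if_neg hv, if_neg hv, zero_add, Finset.sum_eq_single (nx v)]
      · rw [if_pos ⟨hv, rfl⟩, one_mul]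
      · intro k _ hk
        rw [if_neg (fun h => hk h.2.symm), zero_mul]
      · simp
  rw [Finset.sum_congr rfl hsplit, Finset.sum_add_distrib, Finset.sum_comm]
  congr 1
  · rw [Finset.sum_ite_eq']
    by_cases hd : d = negc E
    · rw [if_pos hd, if_pos]
      rw [hD, Finset.mem_filter]
      exact ⟨Finset.mem_univ _, hd.symm⟩
    · rw [if_neg hd, if_neg]
      exact fun h => hd (Finset.mem_filter.mp h).2.symm
  · refine Finset.sum_congr rfl fun k _ => ?_
    rw [← Finset.sum_mul]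
    congr 1
    rw [Finset.sum_boole, Nat.cast_inj]
    unfold cyc
    congr 1
    ext v
    simp only [Finset.mem_filter, Finset.mem_univ, true_and, hD]
    constructor
    · rintro ⟨hvd, hv, hk⟩
      simp only [nx, dif_neg hv] at hk
      exact ⟨hvd, _, (exists_succ hv).choose_spec, hk⟩
    · rintro ⟨hvd, w, hw, hwk⟩
      refine ⟨hvd, succ_ne_zero hw, ?_⟩
      simp only [nx, dif_neg (succ_ne_zero hw)]
      rw [← hwk]
      exact congrArg _ (Units.ext ((exists_succ (succ_ne_zero hw)).choose_spec.trans hw.symm))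

open scoped Classical in
/-- The coefficients of the product of two periods. -/
noncomputable def coef (d k : (ZMod p)ˣ ⧸ E) : ℤ :=
  (cyc E d k : ℤ) - if d = negc E then (Fintype.card E : ℤ) else 0

open scoped Classical in
theorem eta_mul_coef (r d : (ZMod p)ˣ ⧸ E) :
    eta E r * eta E (r * d) = ∑ k, (coef E d k : ℂ) * eta E (k * r) := by
  rw [eta_mul_eta]
  simp only [coef, Int.cast_sub, Int.cast_natCast, sub_mul, Finset.sum_sub_distrib,
    ← Finset.mul_sum, sum_eta_shift, mul_comm r]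
  split_ifs <;> push_cast <;> ring

open scoped Classical in
theorem sum_coef (d : (ZMod p)ˣ ⧸ E) : ∑ k, coef E d k = Fintype.card E -
    if d = negc E then 1 + (Fintype.card ((ZMod p)ˣ ⧸ E) : ℤ) * Fintype.card E else 0 := by
  simp only [coef, Finset.sum_sub_distrib, sum_cyc, Finset.sum_const, Finset.card_univ,
    nsmul_eq_mul]
  split_ifs <;> ring

theorem cast_card_mul : (Fintype.card ((ZMod p)ˣ ⧸ E) : ℤ) * Fintype.card E + 1 = p := by
  have h := card_mul_card (E := E)
  have := (Fact.out : p.Prime).one_le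
  have h' : ((Fintype.card ((ZMod p)ˣ ⧸ E) * Fintype.card E : ℕ) : ℤ) = ((p - 1 : ℕ) : ℤ) := by
    exact_mod_cast h
  push_cast [Nat.cast_sub this] at h'
  linarith

open scoped Classical in
/-- Parseval. -/
theorem sum_normSq_comb (a : (ZMod p)ˣ ⧸ E → ℤ) :
    ∑ r, (∑ k, (a k : ℂ) * eta E (k * r)) * conj (∑ k, (a k : ℂ) * eta E (k * r)) =
      (((p : ℤ) * ∑ k, a k ^ 2 - Fintype.card E * (∑ k, a k) ^ 2 : ℤ) : ℂ) := by
  have h1 : ∀ k l, ∑ r, eta E (k * r) * conj (eta E (l * r)) =
      (if k = l then (p : ℂ) else 0) - Fintype.card E := by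
    intro k l
    rw [← sum_eta_mul_conj E k l]
    exact Finset.sum_congr rfl fun r _ => by rw [mul_comm k, mul_comm l]
  simp only [map_sum, map_mul, map_intCast, Finset.sum_mul_sum]
  rw [Finset.sum_comm]
  calc ∑ k, ∑ r, ∑ l, ((a k : ℂ) * eta E (k * r)) * ((a l : ℂ) * conj (eta E (l * r)))
      = ∑ k, ∑ l, (a k : ℂ) * a l * ∑ r, eta E (k * r) * conj (eta E (l * r)) := by
        refine Finset.sum_congr rfl fun k _ => ?_
        rw [Finset.sum_comm]
        refine Finset.sum_congr rfl fun l _ => ?_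
        rw [Finset.mul_sum]
        exact Finset.sum_congr rfl fun r _ => by ring
    _ = _ := by
        simp only [h1, mul_sub, Finset.sum_sub_distrib, mul_ite, mul_zero, Finset.sum_ite_eq,
          Finset.mem_univ, if_true]
        push_cast
        rw [sq, Finset.sum_mul_sum, Finset.mul_sum, Finset.mul_sum]
        congr 1
        · exact Finset.sum_congr rfl fun k _ => by ring
        · refine Finset.sum_congr rfl fun k _ => ?_
          rw [Finset.mul_sum]
          exact Finset.sum_congr rfl fun l _ => by ring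

open scoped Classical in
theorem normSq_products (d : (ZMod p)ˣ ⧸ E) :
    ∑ r, (eta E r * conj (eta E r)) * (eta E (r * d) * conj (eta E (r * d))) =
      (((p : ℤ) * ∑ k, coef E d k ^ 2 - Fintype.card E * (∑ k, coef E d k) ^ 2 : ℤ) : ℂ) := by
  rw [← sum_normSq_comb]
  refine Finset.sum_congr rfl fun r _ => ?_
  rw [← eta_mul_coef, map_mul]
  ring

open scoped Classical in
theorem coef_sq_row_one (h : negc E ≠ 1) :
    ∑ k, (cyc E 1 k : ℤ) ^ 2 = ∑ k, (cyc E (negc E) k : ℤ) ^ 2 + Fintype.card E := by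
  set e : ℤ := ((Fintype.card E : ℕ) : ℤ)
  have heq : (p : ℤ) * ∑ k, coef E 1 k ^ 2 - e * (∑ k, coef E 1 k) ^ 2 =
      (p : ℤ) * ∑ k, coef E (negc E) k ^ 2 - e * (∑ k, coef E (negc E) k) ^ 2 := by
    apply @Int.cast_injective ℂ
    rw [← normSq_products, ← normSq_products]
    refine Finset.sum_congr rfl fun r _ => ?_
    rw [mul_one, show eta E (r * negc E) = conj (eta E r) from (SmallDegree.conj_eta r).symm,
      Complex.conj_conj]
    ring
  rw [sum_coef, sum_coef, if_neg (Ne.symm h), if_pos rfl] at heq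
  simp only [coef, if_neg (Ne.symm h), if_pos, sub_zero] at heq
  have h2 : ∑ k, ((cyc E (negc E) k : ℤ) - e) ^ 2 =
      ∑ k, (cyc E (negc E) k : ℤ) ^ 2 - 2 * e * (e - 1) +
        (Fintype.card ((ZMod p)ˣ ⧸ E) : ℤ) * e ^ 2 := by
    have hs := sum_cyc E (negc E)
    rw [if_pos rfl] at hs
    simp only [sub_sq, Finset.sum_add_distrib, Finset.sum_sub_distrib, ← Finset.sum_mul,
      ← Finset.mul_sum, hs, Finset.sum_const, Finset.card_univ, nsmul_eq_mul]
    ring
  rw [h2] at heq
  have hp : (p : ℤ) ≠ 0 := Int.natCast_ne_zero.mpr (Fact.out : p.Prime).ne_zero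
  refine mul_left_cancel₀ hp ?_
  rw [← cast_card_mul E] at heq ⊢
  linear_combination heq

open scoped Classical in
/-- The second moment of the cyclotomic numbers. -/
theorem sum_sq : ∑ d, ∑ k, (cyc E d k : ℤ) ^ 2 =
    (Fintype.card E : ℤ) ^ 2 + Fintype.card E * Fintype.card ((ZMod p)ˣ ⧸ E) -
      3 * Fintype.card E + 1 := by
  set e : ℤ := ((Fintype.card E : ℕ) : ℤ)
  set t : ℤ := ((Fintype.card ((ZMod p)ˣ ⧸ E) : ℕ) : ℤ)
  have hn : ∑ r, eta E r * conj (eta E r) = ((p - Fintype.card E : ℤ) : ℂ) := by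
    have h := sum_eta_mul_conj E (1 : (ZMod p)ˣ ⧸ E) 1
    simp only [mul_one, if_pos] at h
    rw [h]; push_cast; ring
  have heq : ∑ d, ((p : ℤ) * ∑ k, coef E d k ^ 2 - e * (∑ k, coef E d k) ^ 2) =
      ((p : ℤ) - e) ^ 2 := by
    apply @Int.cast_injective ℂ
    rw [Int.cast_sum]
    simp only [e, ← normSq_products]
    rw [Int.cast_pow, ← hn, sq, Finset.sum_mul_sum, Finset.sum_comm]
    refine Finset.sum_congr rfl fun r _ => ?_
    refine Fintype.sum_equiv (Equiv.mulLeft r) _ _ fun d => ?_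
    rfl
  have hrow : ∀ d, ∑ k, coef E d k ^ 2 = ∑ k, (cyc E d k : ℤ) ^ 2 +
      if d = negc E then t * e ^ 2 - 2 * e * (e - 1) else 0 := by
    intro d
    by_cases hd : d = negc E
    · have hs := sum_cyc E d
      rw [if_pos hd] at hs
      simp only [coef, if_pos hd, sub_sq, Finset.sum_add_distrib, Finset.sum_sub_distrib,
        ← Finset.sum_mul, ← Finset.mul_sum, hs, Finset.sum_const, Finset.card_univ, nsmul_eq_mul]
      ring
    · simp only [coef, if_neg hd, sub_zero, add_zero]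
  have hsum : ∀ d, (∑ k, coef E d k) ^ 2 =
      e ^ 2 + if d = negc E then (e - 1 - t * e) ^ 2 - e ^ 2 else 0 := by
    intro d
    rw [sum_coef]
    split_ifs <;> ring
  simp only [hrow, hsum, mul_add, Finset.sum_add_distrib, Finset.sum_sub_distrib,
    ← Finset.mul_sum, Finset.sum_ite_eq', Finset.mem_univ, if_true, Finset.sum_const,
    Finset.card_univ, nsmul_eq_mul] at heq
  have hp : (p : ℤ) ≠ 0 := Int.natCast_ne_zero.mpr (Fact.out : p.Prime).ne_zero
  refine mul_left_cancel₀ hp ?_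
  have hpe : (p : ℤ) = t * e + 1 := (cast_card_mul E).symm
  change _ * _ = _
  rw [hpe] at heq ⊢
  linear_combination heq

open scoped Classical in
theorem sum_all : ∑ d, ∑ k, (cyc E d k : ℤ) =
    (Fintype.card ((ZMod p)ˣ ⧸ E) : ℤ) * Fintype.card E - 1 := by
  simp only [sum_cyc, Finset.sum_sub_distrib, Finset.sum_ite_eq', Finset.mem_univ, if_true,
    Finset.sum_const, Finset.card_univ, nsmul_eq_mul]

/-- The deficit of a cyclotomic number from a bound. -/
noncomputable def gap (A : ℤ) (d k : (ZMod p)ˣ ⧸ E) : ℤ :=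
  (A - cyc E d k) * (cyc E d k : ℤ)

theorem gap_nonneg {A : ℤ} (hle : ∀ d k, (cyc E d k : ℤ) ≤ A) (d k : (ZMod p)ˣ ⧸ E) :
    0 ≤ gap E A d k :=
  mul_nonneg (by linarith [hle d k]) (Int.natCast_nonneg _)

theorem sum_gap (A : ℤ) : ∑ d, ∑ k, gap E A d k =
    A * ((Fintype.card ((ZMod p)ˣ ⧸ E) : ℤ) * Fintype.card E - 1) -
      ((Fintype.card E : ℤ) ^ 2 + Fintype.card E * Fintype.card ((ZMod p)ˣ ⧸ E) -
        3 * Fintype.card E + 1) := by
  rw [← sum_sq E, ← sum_all E, Finset.mul_sum, ← Finset.sum_sub_distrib]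
  refine Finset.sum_congr rfl fun d _ => ?_
  rw [Finset.mul_sum, ← Finset.sum_sub_distrib]
  exact Finset.sum_congr rfl fun k _ => by rw [gap]; ring

/-- The case `-1 ∈ E`, all numbers equal up to one. -/
theorem flat_false (h : negc E = 1) (ht : 3 ≤ Fintype.card ((ZMod p)ˣ ⧸ E)) {A : ℤ}
    (κ : (ZMod p)ˣ ⧸ E) (hA : (Fintype.card ((ZMod p)ˣ ⧸ E) : ℤ) * A = Fintype.card E)
    (hrow : ∀ d k, d ≠ 1 → (cyc E d k : ℤ) = A)
    (hone : ∀ k, k ≠ κ → (cyc E 1 k : ℤ) = A) : False := by
  classical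
  have he : (0 : ℤ) < Fintype.card E := by exact_mod_cast Fintype.card_pos
  have ht' : (3 : ℤ) ≤ Fintype.card ((ZMod p)ˣ ⧸ E) := by exact_mod_cast ht
  have hκ : (cyc E 1 κ : ℤ) = A - 1 := by
    have hs := sum_cyc E (1 : (ZMod p)ˣ ⧸ E)
    rw [if_pos h.symm, ← Finset.add_sum_erase _ _ (Finset.mem_univ κ),
      Finset.sum_congr rfl fun k hk => hone k (Finset.ne_of_mem_erase hk), Finset.sum_const,
      Finset.card_erase_of_mem (Finset.mem_univ _), Finset.card_univ, nsmul_eq_mul,
      Nat.cast_sub (by omega)] at hs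
    push_cast at hs
    linarith
  have hg : ∑ d, ∑ k, gap E A d k = A - 1 := by
    rw [Finset.sum_eq_single (1 : (ZMod p)ˣ ⧸ E)]
    · rw [Finset.sum_eq_single κ]
      · rw [gap, hκ]; ring
      · intro k _ hk
        rw [gap, hone k hk]; ring
      · simp
    · intro d _ hd
      exact Finset.sum_eq_zero fun k _ => by rw [gap, hrow d k hd]; ring
    · simp
  rw [sum_gap] at hg
  have hA0 : 0 < A := by
    by_contra hcon
    push Not at hcon
    nlinarith
  nlinarith

/-- The case `-1 ∈ E`, the first row one below the bound. -/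
theorem even_false (h : negc E = 1) (ht : 3 ≤ Fintype.card ((ZMod p)ˣ ⧸ E)) {A : ℤ} (h2 : 2 ≤ A)
    (κ : (ZMod p)ˣ ⧸ E)
    (hA : (Fintype.card ((ZMod p)ˣ ⧸ E) : ℤ) * A =
      Fintype.card E + Fintype.card ((ZMod p)ˣ ⧸ E) - 2)
    (hle : ∀ d k, (cyc E d k : ℤ) ≤ A) (hone : ∀ k, k ≠ κ → (cyc E 1 k : ℤ) = A - 1) : False := by
  classical
  obtain ⟨d, hd1, hdκ⟩ : ∃ d : (ZMod p)ˣ ⧸ E, d ≠ 1 ∧ d ≠ κ := by
    by_contra hcon
    push Not at hcon
    have : Fintype.card ((ZMod p)ˣ ⧸ E) ≤ ({1, κ} : Finset ((ZMod p)ˣ ⧸ E)).card := by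
      rw [← Finset.card_univ]
      refine Finset.card_le_card fun x _ => ?_
      by_cases hx : x = 1
      · simp [hx]
      · simp [hcon x hx]
    have := this.trans (Finset.card_le_two)
    omega
  set t : ℤ := ((Fintype.card ((ZMod p)ˣ ⧸ E) : ℕ) : ℤ) with ht'
  set e : ℤ := ((Fintype.card E : ℕ) : ℤ)
  have hlow : (t - 1) * (A - 1) ≤ ∑ k, gap E A 1 k := by
    rw [← Finset.add_sum_erase _ _ (Finset.mem_univ κ),
      Finset.sum_congr rfl fun k hk => show gap E A 1 k = A - 1 by
        rw [gap, hone k (Finset.ne_of_mem_erase hk)]; ring,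
      Finset.sum_const, Finset.card_erase_of_mem (Finset.mem_univ _), Finset.card_univ,
      nsmul_eq_mul, Nat.cast_sub (by omega)]
    have := gap_nonneg E hle 1 κ
    push_cast
    linarith
  have hd : gap E A d 1 = A - 1 := by
    have : cyc E d 1 = cyc E 1 d := by
      rw [cyc_comm E d 1, h, mul_one, mul_one]
    rw [gap, this, hone d hdκ]; ring
  have htot : ∑ k, gap E A 1 k + gap E A d 1 ≤ ∑ a, ∑ k, gap E A a k := by
    rw [← Finset.add_sum_erase Finset.univ (fun a => ∑ k, gap E A a k)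
      (Finset.mem_univ (1 : (ZMod p)ˣ ⧸ E))]
    refine add_le_add (le_refl (∑ k, gap E A 1 k)) ?_
    refine le_trans ?_ (Finset.single_le_sum
      (fun a _ => Finset.sum_nonneg fun k _ => gap_nonneg E hle a k)
      (Finset.mem_erase.mpr ⟨hd1, Finset.mem_univ d⟩))
    exact Finset.single_le_sum (fun k _ => gap_nonneg E hle d k) (Finset.mem_univ (1 : (ZMod p)ˣ ⧸ E))
  rw [sum_gap] at htot
  have he : e = t * A - t + 2 := by linarith
  have : A * (t * e - 1) - (e ^ 2 + e * t - 3 * e + 1) = (t - 1) * (A - 1) := by rw [he]; ring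
  nlinarith

/-- The case `-1 ∉ E`: the deficit from `e / t` is at least `t - 2`. -/
theorem le_deficit {A : ℤ} (hA : 0 ≤ A) (hle : ∀ d k, (cyc E d k : ℤ) ≤ A) :
    (Fintype.card ((ZMod p)ˣ ⧸ E) : ℤ) - 2 ≤
      (Fintype.card ((ZMod p)ˣ ⧸ E) : ℤ) * A - Fintype.card E := by
  set t : ℤ := ((Fintype.card ((ZMod p)ˣ ⧸ E) : ℕ) : ℤ)
  set e : ℤ := ((Fintype.card E : ℕ) : ℤ)
  have h0 : 0 ≤ ∑ d, ∑ k, gap E A d k :=
    Finset.sum_nonneg fun d _ => Finset.sum_nonneg fun k _ => gap_nonneg E hle d k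
  rw [sum_gap] at h0
  have he : 1 ≤ e := Int.natCast_pos.mpr Fintype.card_pos
  by_contra hcon
  push Not at hcon
  nlinarith

/-- The case `-1 ∉ E`, `e ≡ 1` modulo `t`: some number exceeds the bound. -/
theorem odd_false (h : negc E ≠ 1) (ht : 3 ≤ Fintype.card ((ZMod p)ˣ ⧸ E)) {A : ℤ} (h2 : 2 ≤ A)
    (hA : (Fintype.card ((ZMod p)ˣ ⧸ E) : ℤ) * A =
      Fintype.card E + Fintype.card ((ZMod p)ˣ ⧸ E) - 1)
    (hle : ∀ d k, (cyc E d k : ℤ) ≤ A) : False := by
  classical
  set t : ℤ := ((Fintype.card ((ZMod p)ˣ ⧸ E) : ℕ) : ℤ) with ht'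
  set e : ℤ := ((Fintype.card E : ℕ) : ℤ) with he'
  set θ := negc E with hθ
  have hTT : ∀ d k, gap E A (k * θ) (d * θ) = gap E A d k := fun d k => by
    rw [gap, gap, ← cyc_comm E d k]
  have hII : ∀ d k, gap E A d⁻¹ (k * d⁻¹) = gap E A d k := fun d k => by
    rw [gap, gap, ← cyc_inv E d k]
  set S := ∑ k, gap E A θ k with hS
  set g := gap E A 1 1 with hg
  have hθθ : θ * θ = 1 := negc_mul_self E
  have hcol : ∑ d, gap E A d 1 = S := by
    rw [hS]
    refine Fintype.sum_equiv (Equiv.mulRight θ) _ _ fun d => ?_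
    rw [Equiv.coe_mulRight, ← hTT d 1, one_mul]
  have hdia : ∑ d, gap E A d d = S := by
    rw [← hcol]
    refine Fintype.sum_equiv (Equiv.inv _) _ _ fun d => ?_
    rw [Equiv.inv_apply, ← hII d⁻¹ 1, inv_inv, one_mul]
  have hg1 : gap E A θ θ = g := by
    have := hTT 1 1
    rwa [one_mul] at this
  have hg2 : gap E A θ 1 = g := by
    have := hII θ θ
    rwa [mul_inv_cancel, show θ⁻¹ = θ from inv_eq_of_mul_eq_one_right hθθ, hg1] at this
  -- the four lines
  have hcell : ∀ d k, (if d = θ then gap E A d k else 0) +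
      (if k = 1 then (if d = θ then 0 else gap E A d k) else 0) +
      (if k = d then (if d = θ ∨ d = 1 then 0 else gap E A d k) else 0) +
      (if d = 1 then (if k = 1 then 0 else gap E A d k) else 0) ≤ gap E A d k := by
    intro d k
    have := gap_nonneg E hle d k
    have h' : ¬ (1 : (ZMod p)ˣ ⧸ E) = θ := Ne.symm h
    split_ifs <;> first | linarith | (exfalso; simp_all)
  have htot := Finset.sum_le_sum fun d (_ : d ∈ Finset.univ) =>
    Finset.sum_le_sum fun k (_ : k ∈ Finset.univ) => hcell d k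
  simp only [Finset.sum_add_distrib] at htot
  have e1 : ∑ d, ∑ k, (if d = θ then gap E A d k else 0) = S := by
    rw [Finset.sum_eq_single θ (fun d _ hd => by simp [hd]) (by simp)]
    simp [hS]
  have e2 : ∑ d, ∑ k, (if k = 1 then (if d = θ then 0 else gap E A d k) else 0) = S - g := by
    simp only [Finset.sum_ite_eq', Finset.mem_univ, if_true]
    rw [← Finset.add_sum_erase _ _ (Finset.mem_univ θ), if_pos rfl, zero_add,
      Finset.sum_congr rfl fun d hd => if_neg (Finset.ne_of_mem_erase hd),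
      Finset.sum_erase_eq_sub (Finset.mem_univ θ), hcol, hg2]
  have e3 : ∑ d, ∑ k, (if k = d then (if d = θ ∨ d = 1 then 0 else gap E A d k) else 0) =
      S - 2 * g := by
    simp only [Finset.sum_ite_eq', Finset.mem_univ, if_true]
    have : ∀ d, (if d = θ ∨ d = 1 then 0 else gap E A d d) =
        gap E A d d - (if d = θ then gap E A d d else 0) - (if d = 1 then gap E A d d else 0) := by
      intro d
      by_cases h1 : d = θ
      · simp [h1, h]
      · by_cases h4 : d = 1 <;> simp [h1, h4, Ne.symm h]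
    simp only [this, Finset.sum_sub_distrib, Finset.sum_ite_eq', Finset.mem_univ, if_true, hdia,
      hg1]
    ring
  have e4 : ∑ d, ∑ k, (if d = 1 then (if k = 1 then 0 else gap E A d k) else 0) =
      (∑ k, gap E A 1 k) - g := by
    rw [Finset.sum_eq_single (1 : (ZMod p)ˣ ⧸ E) (fun d _ hd => by simp [hd]) (by simp)]
    simp only [if_true]
    rw [← Finset.add_sum_erase _ _ (Finset.mem_univ (1 : (ZMod p)ˣ ⧸ E)), if_pos rfl, zero_add,
      Finset.sum_congr rfl fun d hd => if_neg (Finset.ne_of_mem_erase hd),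
      Finset.sum_erase_eq_sub (Finset.mem_univ _)]
  rw [e1, e2, e3, e4, sum_gap, ← ht', ← he'] at htot
  have hG : ∀ d, ∑ k, gap E A d k = A * ∑ k, (cyc E d k : ℤ) - ∑ k, (cyc E d k : ℤ) ^ 2 := by
    intro d
    rw [Finset.mul_sum, ← Finset.sum_sub_distrib]
    exact Finset.sum_congr rfl fun k _ => by rw [gap]; ring
  have hrel : ∑ k, gap E A 1 k = S + A - e := by
    rw [hS, hG, hG, sum_cyc, sum_cyc, if_neg (Ne.symm h), if_pos rfl, coef_sq_row_one E h,
      ← he']
    ring
  have hgle : g ≤ ∑ k, gap E A 1 k :=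
    Finset.single_le_sum (fun k _ => gap_nonneg E hle 1 k) (Finset.mem_univ _)
  rw [hrel] at htot hgle
  have he : e = t * A - t + 1 := by linarith
  have htot' : A * (t * e - 1) - (e ^ 2 + e * t - 3 * e + 1) = (2 * t - 1) * (A - 1) := by
    rw [he]; ring
  have : (3 : ℤ) ≤ t := by rw [ht']; exact_mod_cast ht
  nlinarith

end Cfsg.Agent.Lib.FeitSmall.Cyclotomy
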