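import Cfsg.Agent.Lib.FeitSmall.Setup

/-!
# From a Sylow subgroup of prime order to the standing hypotheses
-/

set_option autoImplicit false
set_option linter.style.haveILetI false

namespace Cfsg.Agent.Lib.FeitSmall.Entry

universe u

variable {p : ℕ} [Fact p.Prime] {G : Type u} [Group G] [Finite G]

/-- A Sylow subgroup of prime order that is not normal gives the standing hypotheses. -/
theorem exists_hyp (hp : 7 < p) (P : Sylow p G) (hP : Nat.card P = p)
    (hnn : ¬ (P : Subgroup G).Normal) (ζ : Cfsg.IrrCharacter G)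
    (hfaith : ∀ g : G, (ζ : G → ℂ) g = (ζ : G → ℂ) 1 → g = 1)
    (hdeg : Cfsg.charDegree (ζ : G → ℂ) + 1 < p) : ∃ x : G, Setup.Hyp p x ζ := by
  have hPc : Nat.card (P : Subgroup G) = p := hP
  obtain ⟨x, hx⟩ := exists_prime_orderOf_dvd_card' p
    (hPc ▸ Subgroup.card_subgroup_dvd_card (P : Subgroup G))
  refine ⟨x, hp, hx, fun hsq => ?_, fun H hH hcard => ?_, hdeg, hfaith⟩
  · have h1 := P.pow_dvd_card_of_pow_dvd_card hsq
    rw [hPc] at h1
    have h2 := Nat.le_of_dvd (by omega) h1
    nlinarith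
  · obtain ⟨Q, hQ⟩ := (IsPGroup.of_card (n := 1) (by rw [pow_one]; exact hcard) :
      IsPGroup p H).exists_le_sylow
    have hQc : Nat.card (Q : Subgroup G) = p := by
      exact (Sylow.card_eq_multiplicity Q).trans ((Sylow.card_eq_multiplicity P).symm.trans hPc)
    have hHQ : H = (Q : Subgroup G) :=
      Subgroup.eq_of_le_of_card_ge hQ (by rw [hQc, hcard])
    haveI hQn : (Q : Subgroup G).Normal := hHQ ▸ hH
    haveI := Q.unique_of_normal hQn
    exact hnn (Subsingleton.elim Q P ▸ hQn)

end Cfsg.Agent.Lib.FeitSmall.Entry
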