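import Cfsg.Agent.Lib.SmallRep.Model
import Mathlib.Data.Nat.Prime.Factorial
import Mathlib.Algebra.CharP.Basic

/-!
# The form of one Jordan block

`Qm` spans the solutions of `C T + T Cᵀ = 0` for the operators `C` of `sl₂` on the polynomials of
degree less than `n`.
-/

set_option autoImplicit false
set_option linter.unusedSectionVars false

namespace Cfsg.Agent.Lib.FeitSmall.Form

open Matrix
open Cfsg.Agent.Lib.SmallRep.Model

variable {k : Type*} [Field k] {n : ℕ}

/-- The form. -/
def Qm (k : Type*) [Field k] (n : ℕ) : Matrix (Fin n) (Fin n) k :=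
  Matrix.of fun a b =>
    if a.1 + b.1 + 1 = n then (-1) ^ a.1 * (Nat.choose (n - 1) a.1 : k) else 0

/-- Its inverse. -/
def Qi (k : Type*) [Field k] (n : ℕ) : Matrix (Fin n) (Fin n) k :=
  Matrix.of fun a b => if a.1 + b.1 + 1 = n then (-1) ^ b.1 * (Nat.choose (n - 1) b.1 : k)⁻¹ else 0

/-- The binomial coefficients in the form are invertible. -/
theorem choose_ne_zero {p : ℕ} [Fact p.Prime] [CharP k p] (hn : n ≤ p) {a : ℕ} (ha : a < n) :
    (Nat.choose (n - 1) a : k) ≠ 0 := by
  rw [Ne, CharP.cast_eq_zero_iff k p]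
  intro h
  have h1 : p ∣ (n - 1).factorial := by
    rw [← Nat.choose_mul_factorial_mul_factorial (show a ≤ n - 1 by omega)]
    exact dvd_mul_of_dvd_left (dvd_mul_of_dvd_left h _) _
  have := (Nat.Prime.dvd_factorial Fact.out).1 h1
  omega

theorem Qm_mul_Qi {p : ℕ} [Fact p.Prime] [CharP k p] (hn : n ≤ p) :
    Qm k n * Qi k n = 1 := by
  ext a b
  rw [Matrix.mul_apply, Finset.sum_eq_single ⟨n - 1 - a.1, by omega⟩]
  · simp only [Qm, Qi, Matrix.of_apply]
    rw [if_pos (by omega)]
    by_cases h : a = b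
    · subst h
      rw [if_pos (by omega), Matrix.one_apply_eq]
      have h0 := choose_ne_zero (k := k) (p := p) hn a.2
      field_simp
      rw [← pow_mul, mul_comm, pow_mul, neg_one_sq, one_pow]
    · have : a.1 ≠ b.1 := fun e => h (Fin.ext e)
      rw [if_neg (by omega), Matrix.one_apply_ne h, mul_zero]
  · intro c _ hc
    have : a.1 + c.1 + 1 ≠ n := fun e => hc (Fin.ext (by simp; omega))
    simp [Qm, this]
  · simp

theorem Qi_mul_Qm {p : ℕ} [Fact p.Prime] [CharP k p] (hn : n ≤ p) :
    Qi k n * Qm k n = 1 :=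
  mul_eq_one_comm.1 (Qm_mul_Qi (p := p) hn)

theorem Qm_transpose : (Qm k n)ᵀ = (-1 : k) ^ (n - 1) • Qm k n := by
  ext a b
  simp only [Matrix.transpose_apply, Matrix.smul_apply, Qm, Matrix.of_apply, smul_eq_mul]
  by_cases h : a.1 + b.1 + 1 = n
  · rw [if_pos h, if_pos (by omega), ← mul_assoc, ← pow_add]
    congr 1
    · rw [show n - 1 + a.1 = b.1 + 2 * a.1 by omega, pow_add, pow_mul, neg_one_sq, one_pow, mul_one]
    · rw [show b.1 = n - 1 - a.1 by omega, Nat.choose_symm (by omega)]
  · rw [if_neg h, if_neg (by omega), mul_zero]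

/-- The two sides of the equation for the derivative at one entry. -/
theorem lowE_mul_add (S : Matrix (Fin n) (Fin n) k) (a b : Fin n) :
    (lowE k n * S + S * (lowE k n)ᵀ) a b =
      (if h : a.1 + 1 < n then ((a.1 : k) + 1) * S ⟨a.1 + 1, h⟩ b else 0) +
      if h : b.1 + 1 < n then ((b.1 : k) + 1) * S a ⟨b.1 + 1, h⟩ else 0 := by
  rw [Matrix.add_apply, lowE_mul, show S * (lowE k n)ᵀ = (lowE k n * Sᵀ)ᵀ by
    rw [Matrix.transpose_mul, Matrix.transpose_transpose], Matrix.transpose_apply, lowE_mul]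
  rfl

theorem diagH_mul_add (S : Matrix (Fin n) (Fin n) k) (a b : Fin n) :
    (diagH k n * S + S * (diagH k n)ᵀ) a b =
      2 * ((n : k) - 1 - (a.1 : k) - (b.1 : k)) * S a b := by
  rw [Matrix.add_apply, diagH_mul, show (diagH k n)ᵀ = diagH k n from Matrix.diagonal_transpose _,
    mul_diagH]
  ring

theorem raiseF_mul_add (S : Matrix (Fin n) (Fin n) k) (a b : Fin n) :
    (raiseF k n * S + S * (raiseF k n)ᵀ) a b =
      (if h : 1 ≤ a.1 then ((n : k) - (a.1 : k)) * S ⟨a.1 - 1, by omega⟩ b else 0) +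
      if h : 1 ≤ b.1 then ((n : k) - (b.1 : k)) * S a ⟨b.1 - 1, by omega⟩ else 0 := by
  rw [Matrix.add_apply, raiseF_mul, show S * (raiseF k n)ᵀ = (raiseF k n * Sᵀ)ᵀ by
    rw [Matrix.transpose_mul, Matrix.transpose_transpose], Matrix.transpose_apply, raiseF_mul]
  rfl

theorem lowE_Qm :
    lowE k n * Qm k n + Qm k n * (lowE k n)ᵀ = 0 := by
  ext a b
  rw [lowE_mul_add, Matrix.zero_apply]
  by_cases h : a.1 + b.1 + 2 = n
  · rw [dif_pos (by omega), dif_pos (by omega)]
    simp only [Qm, Matrix.of_apply]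
    rw [if_pos (by omega), if_pos (by omega)]
    have h2 := Nat.choose_succ_right_eq (n - 1) a.1
    rw [show n - 1 - a.1 = b.1 + 1 by omega] at h2
    have h2' := congrArg (fun m : ℕ => (m : k)) h2
    push_cast at h2'
    rw [pow_succ]
    linear_combination -(-1 : k) ^ a.1 * h2'
  · rw [add_eq_zero_iff_eq_neg]
    split_ifs with h1 h2 h2 <;> (try simp only [Qm, Matrix.of_apply]) <;>
      (try rw [if_neg (by omega)]) <;> (try rw [if_neg (by omega)]) <;> simp

theorem diagH_Qm : diagH k n * Qm k n + Qm k n * (diagH k n)ᵀ = 0 := by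
  ext a b
  rw [diagH_mul_add, Matrix.zero_apply]
  simp only [Qm, Matrix.of_apply]
  by_cases h : a.1 + b.1 + 1 = n
  · have : (n : k) = (a.1 : k) + b.1 + 1 := by exact_mod_cast congrArg (fun m : ℕ => (m : k)) h.symm
    rw [this]
    ring
  · rw [if_neg h, mul_zero]

theorem raiseF_Qm :
    raiseF k n * Qm k n + Qm k n * (raiseF k n)ᵀ = 0 := by
  ext a b
  rw [raiseF_mul_add, Matrix.zero_apply]
  by_cases h : a.1 + b.1 = n
  · rw [dif_pos (by omega), dif_pos (by omega)]
    simp only [Qm, Matrix.of_apply]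
    rw [if_pos (by omega), if_pos (by omega)]
    obtain ⟨c, hc⟩ : ∃ c, a.1 = c + 1 := ⟨a.1 - 1, by omega⟩
    have h2 := Nat.choose_succ_right_eq (n - 1) c
    rw [show n - 1 - c = b.1 by omega] at h2
    have h2' := congrArg (fun m : ℕ => (m : k)) h2
    have hn' : (n : k) = (c : k) + 1 + b.1 := by
      have : c + 1 + b.1 = n := by omega
      exact_mod_cast congrArg (fun m : ℕ => (m : k)) this.symm
    push_cast at h2'
    simp only [hc, Nat.add_sub_cancel, hn']
    push_cast
    rw [pow_succ]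
    linear_combination -(-1 : k) ^ c * h2'
  · rw [add_eq_zero_iff_eq_neg]
    split_ifs with h1 h2 h2 <;> (try simp only [Qm, Matrix.of_apply]) <;>
      (try rw [if_neg (by omega)]) <;> (try rw [if_neg (by omega)]) <;> simp

/-- The operators of `sl₂` annihilate the form. -/
theorem comb_Qm (v : Fin 3 → k) :
    comb n v * Qm k n + Qm k n * (comb n v)ᵀ = 0 := by
  simp only [comb, Matrix.add_mul, Matrix.transpose_add, Matrix.transpose_smul, Matrix.mul_add,
    smul_mul_assoc, mul_smul_comm]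
  calc _ = v 0 • (diagH k n * Qm k n + Qm k n * (diagH k n)ᵀ) +
        v 1 • (lowE k n * Qm k n + Qm k n * (lowE k n)ᵀ) +
        v 2 • (raiseF k n * Qm k n + Qm k n * (raiseF k n)ᵀ) := by
          simp only [smul_add]; abel
    _ = 0 := by rw [diagH_Qm, lowE_Qm, raiseF_Qm]; simp

/-- The solutions are multiples of the form. -/
theorem eq_smul_Qm {p : ℕ} [Fact p.Prime] [CharP k p] (hn : n < p) (h2 : (2 : k) ≠ 0)
    (h1 : 1 ≤ n) {S : Matrix (Fin n) (Fin n) k}
    (hS : ∀ v, comb n v * S + S * (comb n v)ᵀ = 0) :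
    S = S ⟨0, h1⟩ ⟨n - 1, by omega⟩ • Qm k n := by
  set c := S ⟨0, h1⟩ ⟨n - 1, by omega⟩ with hc
  set T := S - c • Qm k n with hT
  suffices T = 0 from sub_eq_zero.1 this
  have hTv : ∀ v, comb n v * T + T * (comb n v)ᵀ = 0 := fun v => by
    rw [hT, mul_sub, sub_mul, mul_smul_comm, smul_mul_assoc, sub_add_sub_comm, ← smul_add,
      hS, comb_Qm, smul_zero, sub_zero]
  have hH : ∀ a b : Fin n, a.1 + b.1 + 1 ≠ n → T a b = 0 := by
    intro a b hab
    have h := hTv ![1, 0, 0]
    have hC : comb n ![(1 : k), 0, 0] = diagH k n := by simp [comb]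
    rw [hC] at h
    have h' := congrFun (congrFun h a) b
    rw [diagH_mul_add, Matrix.zero_apply] at h'
    refine (mul_eq_zero.1 h').resolve_left (mul_ne_zero h2 fun h0 => hab ?_)
    have h3 : ((a.1 + b.1 + 1 : ℕ) : k) = (n : k) := by push_cast; linear_combination -h0
    rcases Nat.lt_or_ge (a.1 + b.1 + 1) p with h4 | h4
    · exact Nat.ModEq.eq_of_lt_of_lt ((CharP.natCast_eq_natCast k p).1 h3) h4 hn
    · have h5 : ((a.1 + b.1 + 1 - p : ℕ) : k) = (n : k) := by
        rw [Nat.cast_sub h4, CharP.cast_eq_zero k p, sub_zero]; exact h3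
      have := Nat.ModEq.eq_of_lt_of_lt ((CharP.natCast_eq_natCast k p).1 h5) (by omega) hn
      omega
  have hanti : ∀ (m : ℕ) (a b : Fin n), a.1 = m → a.1 + b.1 + 1 = n → T a b = 0 := by
    intro m
    induction m with
    | zero =>
      intro a b ha hab
      rw [show a = ⟨0, h1⟩ from Fin.ext ha, show b = ⟨n - 1, by omega⟩ from Fin.ext (by simp; omega),
        hT, Matrix.sub_apply, Matrix.smul_apply, ← hc]
      simp [Qm, show n - 1 + 1 = n by omega]
    | succ m ih =>
      intro a b ha hab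
      have h := hTv ![0, 1, 0]
      have hC : comb n ![(0 : k), 1, 0] = lowE k n := by simp [comb]
      rw [hC] at h
      have h' := congrFun (congrFun h ⟨m, by omega⟩) b
      rw [lowE_mul_add, Matrix.zero_apply, dif_pos (show m + 1 < n by omega),
        dif_pos (show b.1 + 1 < n by omega),
        ih ⟨m, by omega⟩ ⟨b.1 + 1, by omega⟩ rfl (by simp; omega), mul_zero, add_zero,
        show (⟨(⟨m, by omega⟩ : Fin n).1 + 1, by simp; omega⟩ : Fin n) = a from
          Fin.ext (by simp; omega)] at h'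
      refine (mul_eq_zero.1 h').resolve_left fun h0 => ?_
      have h3 : ((m + 1 : ℕ) : k) = 0 := by push_cast; exact h0
      rw [CharP.cast_eq_zero_iff k p] at h3
      have := Nat.le_of_dvd (by omega) h3
      omega
  ext a b
  rw [Matrix.zero_apply]
  by_cases hab : a.1 + b.1 + 1 = n
  · exact hanti a.1 a b rfl hab
  · exact hH a b hab

/-- Translation preserves the form. -/
theorem pasc_Qm {p : ℕ} [Fact p.Prime] [CharP k p] (hn : n < p) (h2 : (2 : k) ≠ 0) (h1 : 1 ≤ n) :
    pasc k n * Qm k n * (pasc k n)ᵀ = Qm k n := by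
  have hS : ∀ v, comb n v * (pasc k n * Qm k n * (pasc k n)ᵀ) +
      pasc k n * Qm k n * (pasc k n)ᵀ * (comb n v)ᵀ = 0 := by
    intro v
    set u : Fin 3 → k := ![v 0 - v 2, v 1 + 2 * v 0 - v 2, v 2] with hu
    have hXu : pasc k n * comb n u = comb n v * pasc k n := by
      rw [pasc_comb]
      congr 2
      funext i
      fin_cases i <;> simp [hu]
      ring
    calc _ = comb n v * pasc k n * Qm k n * (pasc k n)ᵀ +
          pasc k n * Qm k n * (comb n v * pasc k n)ᵀ := by
          simp only [Matrix.transpose_mul, mul_assoc]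
      _ = pasc k n * (comb n u * Qm k n + Qm k n * (comb n u)ᵀ) * (pasc k n)ᵀ := by
          rw [← hXu, Matrix.transpose_mul]
          simp only [mul_add, add_mul, mul_assoc]
      _ = 0 := by rw [comb_Qm]; simp
  rw [eq_smul_Qm (p := p) hn h2 h1 hS]
  convert one_smul k (Qm k n) using 2
  rw [Matrix.mul_apply, Finset.sum_eq_single ⟨n - 1, by omega⟩]
  · rw [Matrix.mul_apply, Finset.sum_eq_single ⟨0, h1⟩]
    · simp [pasc, Qm, show n - 1 + 1 = n by omega]
    · intro i _ hi
      have : i.1 ≠ 0 := fun e => hi (Fin.ext e)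
      have : i.1 + (n - 1) + 1 ≠ n := by omega
      simp [Qm, this]
    · simp
  · intro i _ hi
    have : i.1 ≠ n - 1 := fun e => hi (Fin.ext e)
    simp [pasc, Nat.choose_eq_zero_of_lt (show i.1 < n - 1 by omega)]
  · simp

/-- Twice the sum of the squares of the entries on the second diagonals. -/
theorem trace_EEFF :
    30 * (lowE k n * lowE k n * (raiseF k n * raiseF k n)).trace =
      ((n : k) + 2) * ((n : k) + 1) * n * ((n : k) - 1) * ((n : k) - 2) := by
  have hterm : ∀ a : Fin n, (lowE k n * lowE k n * (raiseF k n * raiseF k n)) a a =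
      ((a.1 : k) + 1) * ((a.1 : k) + 2) * ((n : k) - 1 - a.1) * ((n : k) - 2 - a.1) := by
    intro a
    rw [mul_assoc, lowE_mul]
    split_ifs with h
    · rw [lowE_mul]
      split_ifs with h'
      · rw [raiseF_mul]
        simp only [Nat.add_sub_cancel]
        rw [dif_pos (by omega), raiseF, Matrix.of_apply, if_pos rfl]
        push_cast
        ring
      · have : (n : k) = (a.1 : k) + 2 := by
          have : a.1 + 2 = n := by simp at h'; omega
          exact_mod_cast congrArg (fun m : ℕ => (m : k)) this.symm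
        rw [this]; ring
    · have : (n : k) = (a.1 : k) + 1 := by
        exact_mod_cast congrArg (fun m : ℕ => (m : k)) (show n = a.1 + 1 by omega)
      rw [this]; ring
  have hsum : ∀ m : ℕ, 30 * ∑ j ∈ Finset.range m,
      ((j : k) + 1) * ((j : k) + 2) * ((n : k) - 1 - j) * ((n : k) - 2 - j) =
      6 * (m : k) ^ 5 + (30 - 15 * (n : k)) * (m : k) ^ 4 +
        (50 - 60 * (n : k) + 10 * (n : k) ^ 2) * (m : k) ^ 3 +
        (30 - 75 * (n : k) + 30 * (n : k) ^ 2) * (m : k) ^ 2 +
        (4 - 30 * (n : k) + 20 * (n : k) ^ 2) * (m : k) := by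
    intro m
    induction m with
    | zero => simp
    | succ m ih =>
      rw [Finset.sum_range_succ, mul_add, ih]
      push_cast
      ring
  rw [Matrix.trace]
  simp only [Matrix.diag_apply, hterm]
  rw [
    Fin.sum_univ_eq_sum_range (fun j => ((j : k) + 1) * ((j : k) + 2) * ((n : k) - 1 - j) *
      ((n : k) - 2 - j)) n, hsum]
  ring

end Cfsg.Agent.Lib.FeitSmall.Form
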