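import Cfsg.Agent.Lib.SmallRep.Lift
import Mathlib.Algebra.CharP.Lemmas
import Mathlib.Algebra.Algebra.Subalgebra.Lattice
import Mathlib.FieldTheory.Finite.Basic

/-!
# A homogeneous generator for a group of order `p`

For `X ^ p = 1` in characteristic `p` the element `∑ a⁻¹ X ^ a` is `X - 1` times a unit, and a
semilinear symmetry `S X = X ^ g S` multiplies it by `g`.
-/

set_option autoImplicit false
set_option linter.unusedSectionVars false
set_option linter.style.haveILetI false

namespace Cfsg.Agent.Lib.FeitSmall.Gauss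

variable {p : ℕ} [Fact p.Prime] {k : Type*} [Field k] [CharP k p]
  {R : Type*} [Ring R] [Algebra k R]

/-- The inclusion of the prime field. -/
noncomputable def coe (k : Type*) [Field k] {p : ℕ} [CharP k p] (a : ZMod p) : k :=
  ZMod.castHom (dvd_refl p) k a

/-- The homogeneous generator. -/
noncomputable def gaussN (p : ℕ) [Fact p.Prime] (k : Type*) [Field k] [CharP k p] {R : Type*}
    [Ring R] [Algebra k R] (X : R) : R :=
  ∑ a : (ZMod p)ˣ, coe k ((a⁻¹ : (ZMod p)ˣ) : ZMod p) • X ^ (a : ZMod p).val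

theorem map_gaussN {R' : Type*} [Ring R'] [Algebra k R'] (f : R →ₐ[k] R') (X : R) :
    f (gaussN p k X) = gaussN p k (f X) := by
  rw [gaussN, gaussN, map_sum]
  exact Finset.sum_congr rfl fun a _ => by rw [map_smul, map_pow]

theorem gaussN_one (hp : 2 < p) : gaussN p k (1 : R) = 0 := by
  have hinj : ((1 : (ZMod p)ˣ) ≠ -1) := by
    intro h
    have h1 := congrArg (fun u : (ZMod p)ˣ => (u : ZMod p)) h
    simp only [Units.val_one, Units.val_neg] at h1
    have h2 : ((2 : ℕ) : ZMod p) = 0 := by push_cast; linear_combination h1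
    rw [ZMod.natCast_eq_zero_iff] at h2
    have := Nat.le_of_dvd two_pos h2
    omega
  have h0 : ∑ a : (ZMod p)ˣ, ((a⁻¹ : (ZMod p)ˣ) : ZMod p) = 0 := by
    rw [Fintype.sum_equiv (Equiv.inv _) (fun a : (ZMod p)ˣ => ((a⁻¹ : (ZMod p)ˣ) : ZMod p))
      (fun a => (a : ZMod p)) fun a => rfl]
    have h1 : ∑ a : (ZMod p)ˣ, (a : ZMod p) = -∑ a : (ZMod p)ˣ, (a : ZMod p) := by
      rw [← Finset.sum_neg_distrib]
      exact Fintype.sum_equiv (Equiv.neg _) _ _ fun a => by simp
    have h2 : (2 : ZMod p) * ∑ a : (ZMod p)ˣ, (a : ZMod p) = 0 := by linear_combination h1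
    refine (mul_eq_zero.1 h2).resolve_left fun h3 => ?_
    have h4 : ((2 : ℕ) : ZMod p) = 0 := by exact_mod_cast h3
    rw [ZMod.natCast_eq_zero_iff] at h4
    have := Nat.le_of_dvd two_pos h4
    omega
  simp only [gaussN, one_pow]
  rw [← Finset.sum_smul]
  simp only [coe]
  rw [← map_sum, h0, map_zero, zero_smul]

/-- A semilinear symmetry scales the generator. -/
theorem semiconj {S X : R} (g : (ZMod p)ˣ) (hXp : X ^ p = 1)
    (hS : S * X = X ^ (g : ZMod p).val * S) :
    S * gaussN p k X = coe k (g : ZMod p) • (gaussN p k X * S) := by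
  have hpow : ∀ n : ℕ, S * X ^ n = X ^ ((g : ZMod p).val * n) * S := by
    intro n
    induction n with
    | zero => simp
    | succ n ih => rw [pow_succ, ← mul_assoc, ih, mul_assoc, hS, ← mul_assoc, ← pow_add, Nat.mul_succ]
  simp only [gaussN, Finset.mul_sum, Finset.sum_mul, Finset.smul_sum, smul_mul_assoc, smul_smul,
    mul_smul_comm]
  refine Fintype.sum_equiv (Equiv.mulLeft g) _ _ fun a => ?_
  rw [Equiv.coe_mulLeft, hpow, mul_inv_rev, coe, coe, coe, ← map_mul,
    Units.val_mul, mul_left_comm, ← Units.val_mul g g⁻¹, mul_inv_cancel, Units.val_one, mul_one]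
  congr 2
  simp only [Units.val_mul, ZMod.val_mul]
  rw [← pow_eq_pow_mod _ hXp]

/-- The difference of two generators. -/
theorem exists_unit [Nontrivial R] {A B : R} (hAB : Commute A B) (hA : A ^ p = 1)
    (hB : B ^ p = 1) :
    ∃ w w' : R, gaussN p k A - gaussN p k B = (A - B) * w ∧ w * w' = 1 ∧ w' * w = 1 ∧
      Commute (A - B) w ∧ Commute (A - B) w' := by
  classical
  haveI : IsMulCommutative (Algebra.adjoin k ({A, B} : Set R)) :=
    Algebra.isMulCommutative_adjoin k (by
      rintro a (rfl | rfl) b (rfl | rfl) <;> first | rfl | exact hAB.eq | exact hAB.symm.eq)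
  set K := Algebra.adjoin k ({A, B} : Set R)
  letI : CommRing K := { (inferInstance : Ring K) with mul_comm := mul_comm' }
  haveI : CharP K p := by
    haveI : Nontrivial K := inferInstance
    exact charP_of_injective_algebraMap (algebraMap k K).injective p
  let a : K := ⟨A, Algebra.subset_adjoin (by simp)⟩
  let b : K := ⟨B, Algebra.subset_adjoin (by simp)⟩
  have ha : a ^ p = 1 := Subtype.ext (by simpa using hA)
  have hb : b ^ p = 1 := Subtype.ext (by simpa using hB)
  set W : K := ∑ u : (ZMod p)ˣ, coe k ((u⁻¹ : (ZMod p)ˣ) : ZMod p) •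
    ∑ i ∈ Finset.range (u : ZMod p).val, a ^ i * b ^ ((u : ZMod p).val - 1 - i) with hW
  have h1 : gaussN p k a - gaussN p k b = (a - b) * W := by
    rw [hW, Finset.mul_sum, gaussN, gaussN, ← Finset.sum_sub_distrib]
    refine Finset.sum_congr rfl fun u _ => ?_
    rw [mul_smul_comm, ← smul_sub]
    congr 1
    rw [mul_comm, geom_sum₂_mul]
  have h2 : W ^ p = -1 := by
    rw [hW, sum_pow_char p]
    simp only [smul_pow, sum_pow_char p, mul_pow, ← pow_mul, mul_comm _ p]
    simp only [pow_mul, ha, hb, one_pow, one_mul, Finset.sum_const, Finset.card_range]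
    have h3 : ∀ u : (ZMod p)ˣ, coe k ((u⁻¹ : (ZMod p)ˣ) : ZMod p) ^ p •
        ((u : ZMod p).val • (1 : K)) = (1 : K) := by
      intro u
      rw [← Nat.cast_smul_eq_nsmul k, smul_smul, coe, ← map_pow, ZMod.pow_card,
        ← map_natCast (ZMod.castHom (dvd_refl p) k), ZMod.natCast_zmod_val, ← map_mul,
        ← Units.val_mul, inv_mul_cancel, Units.val_one, map_one, one_smul]
    rw [Finset.sum_congr rfl fun u _ => h3 u, Finset.sum_const, Finset.card_univ,
      ZMod.card_units, nsmul_eq_mul, mul_one, Nat.cast_sub (Fact.out : p.Prime).one_le,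
      CharP.cast_eq_zero, Nat.cast_one, zero_sub]
  have hpr := (Fact.out : p.Prime).one_le
  refine ⟨W, ((-W ^ (p - 1) : K) : R), ?_, ?_, ?_, ?_, ?_⟩
  · have h4 := congrArg K.val h1
    rw [map_sub, map_gaussN, map_gaussN, map_mul] at h4
    exact h4
  · have h4 : W * (-W ^ (p - 1)) = 1 := by
      rw [mul_neg, ← pow_succ', Nat.sub_add_cancel hpr, h2, neg_neg]
    exact congrArg K.val h4
  · have h4 : (-W ^ (p - 1)) * W = 1 := by
      rw [neg_mul, ← pow_succ, Nat.sub_add_cancel hpr, h2, neg_neg]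
    exact congrArg K.val h4
  · exact congrArg K.val (mul_comm (a - b) W)
  · exact congrArg K.val (mul_comm (a - b) (-W ^ (p - 1)))

variable [Nontrivial R]

/-- `∑ a⁻¹ X ^ a` is `X - 1` times a unit. -/
theorem exists_unit_one (hp : 2 < p) {X : R} (hX : X ^ p = 1) :
    ∃ w w' : R, gaussN p k X = (X - 1) * w ∧ w * w' = 1 ∧ w' * w = 1 ∧
      Commute (X - 1) w ∧ Commute (X - 1) w' := by
  obtain ⟨w, w', h, h1, h2, h3, h4⟩ := exists_unit (k := k) (Commute.one_right X) hX (one_pow p)
  rw [gaussN_one hp, sub_zero] at h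
  exact ⟨w, w', h, h1, h2, h3, h4⟩

omit [Nontrivial R] in
/-- Powers of `(A - B) w` against powers of `A - B`. -/
theorem pow_unit {D w w' : R} (h1 : w * w' = 1) (h2 : w' * w = 1) (hc : Commute D w)
    (hc' : Commute D w') (l : ℕ) :
    (D * w) ^ l * w' ^ l = D ^ l ∧ D ^ l * w ^ l = (D * w) ^ l ∧ w ^ l * w' ^ l = 1 ∧
      w' ^ l * w ^ l = 1 ∧ Commute (D ^ l) (w ^ l) ∧ Commute (D ^ l) (w' ^ l) := by
  have hww : Commute w w' := h1.trans h2.symm
  have e1 : w ^ l * w' ^ l = 1 := by rw [← hww.mul_pow, h1, one_pow]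
  refine ⟨?_, (hc.mul_pow l).symm, e1, ?_, hc.pow_pow l l, hc'.pow_pow l l⟩
  · rw [hc.mul_pow, mul_assoc, e1, mul_one]
  · rw [← hww.symm.mul_pow, h2, one_pow]

theorem gaussN_pow_prime (hp : 2 < p) {X : R} (hX : X ^ p = 1) : gaussN p k X ^ p = 0 := by
  haveI : CharP R p := charP_of_injective_algebraMap (algebraMap k R).injective p
  obtain ⟨w, w', h, -, -, hc, -⟩ := exists_unit_one (k := k) hp hX
  rw [h, hc.mul_pow, sub_pow_char_of_commute (p := p) (Commute.one_right X), hX, one_pow, sub_self,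
    zero_mul]

end Cfsg.Agent.Lib.FeitSmall.Gauss
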