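import Cfsg.Agent.Lib.FeitSmall.Centralizer
import Cfsg.Agent.Lib.FeitSmall.Cyclotomy
import Cfsg.Agent.Lib.DegSubTwo.Reduction

/-!
# A faithful irreducible character of degree below `p - 1`

`p` divides `|G|` exactly once, `x` has order `p` and generates no normal subgroup.  Then the
centralizer of `x` is `⟨x⟩ Z(G)`; the restriction of a character to `⟨x⟩` is given by integral
coordinates with respect to the periods, and for each central character the coordinates of the
characters lying over it have the inner products `δ + e`.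
-/

set_option autoImplicit false
set_option linter.unusedSectionVars false
set_option linter.style.haveILetI false

namespace Cfsg.Agent.Lib.FeitSmall.Setup

open Cfsg.Agent.Lib Cfsg.Agent.Lib.FirstPower Average Periods Cfsg.Agent.Lib.Characters.Basic
open Family (pow_eq_one_of_order)
open Cfsg.Agent.Lib.DegSubTwo.Basic (lam lam_one lam_mul lam_mul_conj apply_mul_central)
open Cfsg.Agent.Lib.DegSubTwo.Reduction (gen_core nn_core core')
open scoped ComplexConjugate
open CharOrbit (IsVPart)

attribute [local instance] BlocksChars5.Basic.irrFintype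

universe u

variable {p : ℕ} [Fact p.Prime] {G : Type u} [Group G] [Finite G] {x : G}
  {ζ : Cfsg.IrrCharacter G}

/-- The hypotheses. -/
structure Hyp {G : Type u} [Group G] (p : ℕ) (x : G) (ζ : Cfsg.IrrCharacter G) : Prop where
  lt : 7 < p
  ord : orderOf x = p
  sq : ¬ p ^ 2 ∣ Nat.card G
  nn : ∀ H : Subgroup G, H.Normal → Nat.card H ≠ p
  deg : Cfsg.charDegree (ζ : G → ℂ) + 1 < p
  faith : ∀ g : G, (ζ : G → ℂ) g = (ζ : G → ℂ) 1 → g = 1

theorem prime_dvd_card (h : Hyp p x ζ) : p ∣ Nat.card G := h.ord ▸ orderOf_dvd_natCard x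

theorem apply_one_zeta (ζ : Cfsg.IrrCharacter G) :
    (ζ : G → ℂ) 1 = (Cfsg.charDegree (ζ : G → ℂ) : ℂ) :=
  DegreeBounds.Basic.charDegree_irr ζ

/-- The degree is at least `(p - 1) / 2`. -/
theorem le_deg (h : Hyp p x ζ) : p ≤ 2 * Cfsg.charDegree (ζ : G → ℂ) + 1 :=
  Cfsg.Agent.S4503.result p Fact.out (prime_dvd_card h) h.sq h.nn (ζ : G → ℂ)
    (isCharacter_irr ζ) h.faith

theorem restrict_irr (h : Hyp p x ζ) :
    Cfsg.IsIrrCharacter (core' x) (fun a => (ζ : G → ℂ) a) := by
  classical
  set H := core' x with hH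
  haveI := Fintype.ofFinite G
  haveI := Fintype.ofFinite H
  obtain ⟨θ, hθ⟩ := Clifford.Basic.exists_constituent_restrict H ζ.2
  have hres : Cfsg.IsCharacter H (fun a : H => (ζ : G → ℂ) a) :=
    isCharacter_comp H.subtype (isCharacter_irr ζ)
  obtain ⟨e, he⟩ := exists_classInner_nat hres (isCharacter_irr θ)
  set t := (Clifford.Basic.inertia H (θ : H → ℂ)).index with ht
  set d := Cfsg.charDegree (θ : H → ℂ) with hd
  have hd1 : (θ : H → ℂ) 1 = d := DegreeBounds.Basic.charDegree_irr θ
  have hdeg' : Cfsg.charDegree (ζ : G → ℂ) = e * t * d := by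
    have h' := Clifford.Basic.clifford_degree H ζ.2 θ hθ
    rw [he, hd1, ← ht, DegreeBounds.Basic.charDegree_irr] at h'
    exact_mod_cast h'
  by_cases het : e * t = 1
  · obtain ⟨he1, ht1⟩ := mul_eq_one.1 het
    have hinv : ∀ g, Clifford.Basic.conjC H g (θ : H → ℂ) = (θ : H → ℂ) := fun g => by
      have := Subgroup.index_eq_one.1 ht1
      exact (Clifford.Basic.mem_inertia H).1 (this ▸ Subgroup.mem_top g)
    have h' := Clifford.Basic.restrict_eq_smul H ζ.2 θ hθ hinv
    rw [he, he1, Nat.cast_one, one_smul] at h'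
    rw [h']
    exact θ.2
  exfalso
  have hlow := le_deg h
  have hdeg := h.deg
  have het2 : 2 ≤ e * t := by
    rcases Nat.eq_zero_or_pos (e * t) with h0 | h0
    · rw [h0, zero_mul] at hdeg'
      have := h.lt
      omega
    · omega
  have hd2 : 2 * d ≤ Cfsg.charDegree (ζ : G → ℂ) := hdeg'.symm ▸ Nat.mul_le_mul_right d het2
  have hxH : x ∈ H := Subgroup.subset_normalClosure rfl
  set y : H := ⟨x, hxH⟩ with hy
  have hyo : orderOf y = p := by rw [← h.ord, ← Subgroup.orderOf_coe]
  have hgen : Subgroup.normalClosure ({y} : Set H) = ⊤ := gen_core h.ord h.sq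
  have hcl := Clifford.Basic.clifford H ζ.2 θ hθ
  by_cases hd0 : d = 1
  · have h1 : (θ : H → ℂ) 1 = 1 := by rw [hd1, hd0, Nat.cast_one]
    let L := Characters.Linear.degOneHom (isCharacter_irr θ) h1
    have hcomm : ∀ a b : H, a * b = b * a := by
      intro a b
      have hker : ∀ g : G, Clifford.Basic.conjC H g (θ : H → ℂ) (a * b * (b * a)⁻¹) =
          Clifford.Basic.conjC H g (θ : H → ℂ) 1 := by
        intro g
        let θ' : Cfsg.IrrCharacter H := ⟨_, Clifford.Basic.isIrrCharacter_conjC H g θ.2⟩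
        have h1' : (θ' : H → ℂ) 1 = 1 := by
          show Clifford.Basic.conjC H g (θ : H → ℂ) 1 = 1
          rw [← h1]
          simp only [Clifford.Basic.conjC]
          exact congrArg (θ : H → ℂ) (Subtype.ext (by simp))
        let F := Characters.Linear.degOneHom (isCharacter_irr θ') h1'
        have h3 : F (a * b * (b * a)⁻¹) = 1 := by
          rw [map_mul, map_inv, map_mul, map_mul, mul_comm (F a), mul_inv_cancel]
        show (θ' : H → ℂ) _ = (θ' : H → ℂ) _
        rw [h1', ← Characters.Linear.degOneHom_apply (isCharacter_irr θ') h1']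
        exact (congrArg Units.val h3).trans Units.val_one
      have heq : (ζ : G → ℂ) ((a * b * (b * a)⁻¹ : H) : G) = (ζ : G → ℂ) 1 := by
        have e1 := congrFun hcl (a * b * (b * a)⁻¹)
        have e2 := congrFun hcl 1
        simp only [Pi.smul_apply, Finset.sum_apply, smul_eq_mul] at e1 e2
        rw [OneMemClass.coe_one] at e2
        rw [e1, e2, Finset.sum_congr rfl fun g _ => hker g]
      exact mul_inv_eq_one.1 (Subtype.ext (h.faith _ heq))
    refine nn_core h.ord h.sq h.nn (Subgroup.zpowers y) ⟨fun k hk g => ?_⟩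
      (by rw [Nat.card_zpowers, hyo])
    rwa [hcomm g k, mul_inv_cancel_right]
  haveI := BlocksChars5.Basic.charKer_normal θ
  set K := BlocksChars5.Basic.charKer θ with hK
  by_cases hyK' : y ∈ K
  · have hall : ∀ a : H, (θ : H → ℂ) a = (θ : H → ℂ) 1 := fun a =>
      (BlocksChars5.Basic.mem_charKer θ a).1
        ((hgen ▸ Subgroup.normalClosure_le_normal (Set.singleton_subset_iff.2 hyK'))
          (Subgroup.mem_top a))
    have hy1 : (ζ : G → ℂ) x = (ζ : G → ℂ) 1 := by
      have e1 := congrFun hcl y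
      have e2 := congrFun hcl 1
      simp only [Pi.smul_apply, Finset.sum_apply, smul_eq_mul] at e1 e2
      rw [OneMemClass.coe_one] at e2
      rw [show x = ((y : H) : G) from rfl, e1, e2]
      simp only [Clifford.Basic.conjC, hall]
    have := h.faith x hy1
    have hp := h.lt
    rw [← h.ord, this, orderOf_one] at hp
    omega
  obtain ⟨φ, hφ⟩ := BlocksChars5.Basic.exists_deflate θ K le_rfl
  have hφv : ∀ a : H, (φ : H ⧸ K → ℂ) a = (θ : H → ℂ) a := fun a => by
    rw [← hφ, BlocksChars5.Basic.inflate_apply]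
  have hφdeg : Cfsg.charDegree (φ : H ⧸ K → ℂ) = d :=
    BlocksChars5.Basic.charDegree_congr (by rw [← hφv 1]; rfl)
  have hφf : ∀ g : H ⧸ K, (φ : H ⧸ K → ℂ) g = (φ : H ⧸ K → ℂ) 1 → g = 1 := by
    intro g
    obtain ⟨a, rfl⟩ := QuotientGroup.mk_surjective g
    intro he
    rw [hφv, ← QuotientGroup.mk_one, hφv] at he
    exact (QuotientGroup.eq_one_iff a).mpr ((BlocksChars5.Basic.mem_charKer θ a).mpr he)
  have hyne : (QuotientGroup.mk y : H ⧸ K) ≠ 1 := fun h' => hyK' ((QuotientGroup.eq_one_iff y).mp h')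
  have hyK : orderOf (QuotientGroup.mk y : H ⧸ K) = p :=
    orderOf_eq_prime (by rw [← QuotientGroup.mk_pow, ← hyo, pow_orderOf_eq_one, QuotientGroup.mk_one])
      hyne
  have h2K : ¬ p ^ 2 ∣ Nat.card (H ⧸ K) := fun h' =>
    h.sq ((h'.trans (Subgroup.card_quotient_dvd_card K)).trans (Subgroup.card_subgroup_dvd_card H))
  have hgenK : Subgroup.normalClosure ({(QuotientGroup.mk y : H ⧸ K)} : Set (H ⧸ K)) = ⊤ := by
    rw [eq_top_iff]
    intro g _
    obtain ⟨a, rfl⟩ := QuotientGroup.mk_surjective g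
    have : Subgroup.normalClosure ({y} : Set H) ≤
        (Subgroup.normalClosure ({(QuotientGroup.mk y : H ⧸ K)} : Set (H ⧸ K))).comap
          (QuotientGroup.mk' K) :=
      Subgroup.normalClosure_le_normal (Set.singleton_subset_iff.mpr
        (Subgroup.subset_normalClosure rfl))
    exact this (hgen ▸ Subgroup.mem_top a)
  have hnnK : ∀ L : Subgroup (H ⧸ K), L.Normal → Nat.card L ≠ p := by
    intro L hL hcard
    haveI := hL
    have hLz := Cfsg.Agent.S4503.zpowers_of_dvd h2K hyK hcard
    have htop : L = ⊤ := top_le_iff.mp (hgenK ▸ Subgroup.normalClosure_le_normal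
      (Set.singleton_subset_iff.mpr (hLz ▸ Subgroup.mem_zpowers _)))
    have hcyc : ∀ a b : H ⧸ K, a * b = b * a := by
      intro a b
      have ha : a ∈ Subgroup.zpowers (QuotientGroup.mk y : H ⧸ K) := by rw [hLz, htop]; trivial
      have hb : b ∈ Subgroup.zpowers (QuotientGroup.mk y : H ⧸ K) := by rw [hLz, htop]; trivial
      obtain ⟨i, rfl⟩ := ha
      obtain ⟨j, rfl⟩ := hb
      exact ((Commute.refl _).zpow_zpow i j).eq
    have h1 := BlocksChars5.Basic.degree_eq_one_of_comm φ hcyc
    rw [DegreeBounds.Basic.charDegree_irr, hφdeg] at h1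
    norm_cast at h1
  have := Cfsg.Agent.S4503.result p Fact.out (hyK ▸ orderOf_dvd_natCard _) h2K hnnK
    (φ : H ⧸ K → ℂ) (isCharacter_irr φ) hφf
  omega

/-- What centralizes the normal closure of `x` is central. -/
theorem mem_center_of_core (h : Hyp p x ζ) {c : G} (hc : ∀ a ∈ core' x, c * a = a * c) :
    c ∈ Subgroup.center G := by
  classical
  haveI := Fintype.ofFinite G
  haveI := Fintype.ofFinite (core' x)
  let ζH : Cfsg.IrrCharacter (core' x) := ⟨_, restrict_irr h⟩
  obtain ⟨d, ρ, hρ, hρχ⟩ := exists_rep ζ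
  let ρH : Representation ℂ (core' x) (Fin d → ℂ) := ρ.comp (core' x).subtype
  have hρHc : ρH.character = fun a : core' x => (ζ : G → ℂ) a := by
    funext a
    rw [← hρχ]
    rfl
  haveI : ρH.IsIrreducible := (isIrreducible_iff_classInner_self ρH).2 (by
    rw [hρHc]; exact classInner_self_irr ζH)
  obtain ⟨r, hr⟩ := Clifford.Rep.schur ρH (ρ c) (fun a => by
    show ρ c * ρ a = ρ a * ρ c
    rw [← map_mul, ← map_mul, hc a a.2])
  rw [Subgroup.mem_center_iff]
  intro g
  have h1 : ρ (g * c) = ρ (c * g) := by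
    rw [map_mul, map_mul, hr]
    exact LinearMap.ext fun v => by simp
  have h3 : ρ (g * c * (c * g)⁻¹) = ρ 1 := by
    rw [map_mul, h1, ← map_mul, mul_inv_cancel]
  have h4 := h.faith (g * c * (c * g)⁻¹) (by
    rw [← hρχ, Representation.character, Representation.character, h3])
  exact mul_inv_eq_one.1 h4

theorem eq_bot_of_pgroup (h : Hyp p x ζ) {K : Subgroup G} [hK : K.Normal]
    (hKp : IsPGroup p K) : K = ⊥ := by
  obtain ⟨a, ha⟩ := hKp.exists_card_eq
  match a, ha with
  | 0, ha => exact Subgroup.card_eq_one.mp (by rw [ha, pow_zero])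
  | 1, ha => exact absurd (by rw [ha, pow_one]) (h.nn K hK)
  | a + 2, ha =>
    exact absurd ((pow_dvd_pow p (by omega : 2 ≤ a + 2)).trans
      (ha ▸ Subgroup.card_subgroup_dvd_card K)) h.sq

/-- The prime-to-`p` part of the centralizer of `x` is the centre. -/
theorem isVPart_center (h : Hyp p x ζ) : IsVPart p x (Subgroup.center G) := by
  classical
  have hp : p.Prime := Fact.out
  obtain ⟨V, hV⟩ := Family.exists_vpart h.ord h.sq
  suffices hVZ : V = Subgroup.center G by rwa [hVZ] at hV
  refine le_antisymm ?_ ?_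
  · obtain ⟨M, hM⟩ := Blocks.exists_isPModular p hp
    haveI : M.IsMaximal := hM.2.1
    haveI : CharP (Cfsg.AlgInt ⧸ M) p := Blocks.charP_residue hM
    letI : Field (Cfsg.AlgInt ⧸ M) := Ideal.Quotient.field M
    obtain ⟨d, A, hd, hker⟩ := SmallReduction.exists_reduction (p := p) hM (isCharacter_irr ζ)
    have hdn : d = Cfsg.charDegree (ζ : G → ℂ) := by
      exact_mod_cast hd.symm.trans (apply_one_zeta ζ)
    have hinj : A.ker = ⊥ := by
      refine eq_bot_of_pgroup h (fun g => ?_)
      obtain ⟨k, hk⟩ : ∃ k, ¬ p ∣ orderOf ((g : G) ^ p ^ k) := by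
        refine ⟨(orderOf (g : G)).factorization p, ?_⟩
        rw [orderOf_pow_of_dvd (pow_ne_zero _ hp.ne_zero) (Nat.ordProj_dvd _ _)]
        exact Nat.not_dvd_ordCompl hp (orderOf_pos (g : G)).ne'
      refine ⟨k, Subtype.ext ?_⟩
      rw [SubmonoidClass.coe_pow]
      exact h.faith _ (hker _ hk (by rw [map_pow, MonoidHom.mem_ker.mp g.2, one_pow]))
    intro v hv
    refine mem_center_of_core h fun a ha => ?_
    have hcomm := Centralizer.commute_core_image A h.ord h.sq
      (by rw [Module.finrank_fin_fun, hdn]; have := h.deg; omega) hV hv (g := a) ha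
    exact (MonoidHom.ker_eq_bot_iff A).mp hinj (by rw [map_mul, map_mul]; exact hcomm.eq)
  · intro z hz
    rw [hV]
    refine ⟨Subgroup.mem_centralizer_singleton_iff.2 (Subgroup.mem_center_iff.1 hz x).symm,
      fun hdvd => ?_⟩
    obtain ⟨c, hc⟩ := hdvd
    have hord : orderOf (z ^ c) = p := by
      have hc0 : c ≠ 0 := by
        rintro rfl
        exact (orderOf_pos z).ne' (by rw [hc, mul_zero])
      rw [orderOf_pow_of_dvd hc0 (Dvd.intro_left p hc.symm), hc,
        Nat.mul_div_cancel _ (Nat.pos_of_ne_zero hc0)]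
    exact h.nn (Subgroup.zpowers (z ^ c))
      ⟨fun w hw g => by
        have hwz : w ∈ Subgroup.center G := (Subgroup.zpowers_le.2 (pow_mem hz c)) hw
        rwa [Subgroup.mem_center_iff.1 hwz g, mul_inv_cancel_right]⟩
      (by rw [Nat.card_zpowers, hord])

theorem card_centralizer_x (h : Hyp p x ζ) :
    Nat.card (Subgroup.centralizer ({x} : Set G)) = p * Nat.card (Subgroup.center G) :=
  card_centralizer h.ord h.sq (isVPart_center h)

theorem not_dvd_center (h : Hyp p x ζ) : ¬ p ∣ Nat.card (Subgroup.center G) :=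
  not_dvd_card_vpart (isVPart_center h)

theorem orderOf_pow_unit (h : Hyp p x ζ) (u : (ZMod p)ˣ) : orderOf (x ^ (u : ZMod p).val) = p := by
  refine orderOf_eq_prime ?_ fun h1 => u.ne_zero (pow_val_inj h.ord (h1.trans (by simp)))
  rw [← pow_mul, mul_comm, pow_mul, pow_eq_one_of_order h.ord, one_pow]

theorem centralizer_pow_unit (h : Hyp p x ζ) (u : (ZMod p)ˣ) :
    Subgroup.centralizer ({x ^ (u : ZMod p).val} : Set G) = Subgroup.centralizer ({x} : Set G) := by
  ext g
  rw [Subgroup.mem_centralizer_singleton_iff, Subgroup.mem_centralizer_singleton_iff]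
  refine ⟨fun hg => ?_, fun hg => ((show Commute g x from hg).pow_right _).eq⟩
  have := (show Commute g (x ^ (u : ZMod p).val) from hg).pow_right
    ((u⁻¹ : (ZMod p)ˣ) : ZMod p).val
  rwa [← pow_val_mul (pow_eq_one_of_order h.ord), ← Units.val_mul, mul_inv_cancel, Units.val_one,
    pow_val_one (pow_eq_one_of_order h.ord)] at this

theorem eq_one_of_isConj (h : Hyp p x ζ) {y w z : G} (hy : y ^ p = 1) (hw : w ^ p = 1)
    (hz : z ∈ Subgroup.center G) (hc : IsConj y (w * z)) : z = 1 := by
  obtain ⟨c, hc⟩ := isConj_iff.1 hc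
  have h1 : (w * z) ^ p = 1 := by rw [← hc, conj_pow, hy]; simp
  rw [(show Commute w z from Subgroup.mem_center_iff.1 hz w).mul_pow, hw, one_mul] at h1
  rcases (Nat.dvd_prime (Fact.out : p.Prime)).1 (orderOf_dvd_of_pow_eq_one h1) with h3 | h3
  · exact orderOf_eq_one_iff.1 h3
  · exact absurd (h3 ▸ Subgroup.orderOf_dvd_natCard _ hz) (not_dvd_center h)

/-- The exponents fusing `x`. -/
abbrev ex (h : Hyp p x ζ) : Subgroup (ZMod p)ˣ := autE (pow_eq_one_of_order h.ord)

/-- The cosets of the exponents fusing `x`. -/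
abbrev Cls (h : Hyp p x ζ) := (ZMod p)ˣ ⧸ ex h

noncomputable instance (h : Hyp p x ζ) : Fintype (ex h) := Fintype.ofFinite _
noncomputable instance (h : Hyp p x ζ) : Fintype (Cls h) := Fintype.ofFinite _

/-- Coordinates with respect to the periods, and the fixed space of `x`. -/
theorem exists_coord (h : Hyp p x ζ) {χ : G → ℂ} (hχ : Cfsg.IsCharacter G χ) :
    ∃ (b : Cls h → ℤ) (c₀ : ℕ), (∀ q, 0 ≤ b q + c₀) ∧
      χ 1 = (((c₀ : ℤ) + ∑ q, (Fintype.card (ex h) : ℤ) * (b q + c₀) : ℤ) : ℂ) ∧
      ∑ a : ZMod p, χ (x ^ a.val) = (p : ℂ) * c₀ ∧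
      ∀ u : (ZMod p)ˣ, χ (x ^ (u : ZMod p).val) =
        ∑ q, (b q : ℂ) * eta (ex h) (q * QuotientGroup.mk u) := by
  classical
  have hxp := pow_eq_one_of_order h.ord
  obtain ⟨c, hc⟩ := exists_mult hxp (V := ⊥)
    (fun v hv => by rw [Subgroup.mem_bot.mp hv]; exact Commute.one_right x) hχ
  simp only [Consequences.aval_bot] at hc
  set E := ex h with hE
  have hinv : ∀ k ∈ E, ∀ z : ZMod p, χ (x ^ (z * (k : ZMod p)).val) = χ (x ^ z.val) := by
    intro k hk z
    obtain ⟨g, hg⟩ := isConj_iff.1 ((mem_autE hxp).mp hk)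
    rw [mul_comm, pow_val_mul hxp, ← hg, conj_pow]
    exact isClassFunction_of_isCharacter hχ _ _
  have hext : ∀ l, ∑ z : ZMod p, χ (x ^ z.val) * chr p (-(l * z)) = (p : ℂ) * c l := by
    intro l
    simp only [hc, Finset.sum_mul, mul_assoc]
    rw [Finset.sum_comm]
    simp only [← Finset.mul_sum]
    have : ∀ m : ZMod p, ∑ z : ZMod p, chr p (m * z) * chr p (-(l * z)) =
        if m = l then (p : ℂ) else 0 := by
      intro m
      rw [← sum_chr_mul_chr m l]
      exact Finset.sum_congr rfl fun z _ => by rw [mul_comm m, mul_comm l]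
    simp only [this, mul_ite, mul_zero, Finset.sum_ite_eq', Finset.mem_univ, if_true]
    ring
  have hcinv : ∀ k ∈ E, ∀ l : ZMod p, c (l * (k : ZMod p)) = c l := by
    intro k hk l
    have h' : (p : ℂ) * c (l * (k : ZMod p)) = (p : ℂ) * c l := by
      rw [← hext, ← hext]
      refine Fintype.sum_equiv (Units.mulRight k) _ _ fun z => ?_
      rw [Units.mulRight_apply, hinv k hk]
      ring_nf
    exact_mod_cast mul_left_cancel₀ (Nat.cast_ne_zero.mpr (Fact.out : p.Prime).ne_zero) h'
  let cq : Cls h → ℕ := fun q => c ((Quotient.out q : (ZMod p)ˣ) : ZMod p)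
  have hfib : ∀ l : (ZMod p)ˣ, cq (QuotientGroup.mk l) = c l := by
    intro l
    obtain ⟨⟨k, hk⟩, h'⟩ := QuotientGroup.mk_out_eq_mul E l
    show c _ = c l
    rw [h', Units.val_mul, hcinv k hk]
  refine ⟨fun q => (cq q : ℤ) - c 0, c 0, fun q => by simp, ?_, ?_, fun u => ?_⟩
  · have h0 := hc 0
    rw [ZMod.val_zero, pow_zero, Consequences.sum_zmod_split] at h0
    simp only [mul_zero, chr_zero, mul_one] at h0
    rw [h0, ← Finset.sum_fiberwise Finset.univ
      (fun l : (ZMod p)ˣ => (QuotientGroup.mk l : (ZMod p)ˣ ⧸ E))]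
    push_cast
    congr 1
    refine Finset.sum_congr rfl fun q _ => ?_
    rw [Finset.sum_congr rfl (g := fun _ => (cq q : ℂ)) fun (l : (ZMod p)ˣ) hl => by
      rw [← hfib, (Finset.mem_filter.mp hl).2], Finset.sum_const, nsmul_eq_mul]
    rw [card_fiber]
    ring
  · have h' := hext 0
    simpa [chr_zero] using h'
  · rw [hc, Consequences.sum_zmod_split, zero_mul, chr_zero, mul_one]
    have h1 : ∑ l : (ZMod p)ˣ, (c l : ℂ) * chr p (l * (u : ZMod p)) =
        ∑ q, (cq q : ℂ) * eta E (q * QuotientGroup.mk u) := by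
      rw [← Finset.sum_fiberwise Finset.univ
        (fun l : (ZMod p)ˣ => (QuotientGroup.mk l : (ZMod p)ˣ ⧸ E))]
      refine Finset.sum_congr rfl fun q _ => ?_
      rw [← Cyclotomy.eta_mul_unit, Finset.mul_sum]
      exact Finset.sum_congr rfl fun l hl => by rw [← hfib, (Finset.mem_filter.mp hl).2]
    rw [h1]
    push_cast
    simp only [sub_mul, Finset.sum_sub_distrib, ← Finset.mul_sum, sum_eta_shift]
    ring

/-- Integral coordinates are unique. -/
theorem coord_unique (h : Hyp p x ζ) {f g : Cls h → ℤ}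
    (hfg : ∀ u : (ZMod p)ˣ, ∑ q, (f q : ℂ) * eta (ex h) (q * QuotientGroup.mk u) =
      ∑ q, (g q : ℂ) * eta (ex h) (q * QuotientGroup.mk u)) : f = g := by
  funext q
  have h1 := Family.inversion (ex h) f q
  have h2 := Family.inversion (ex h) g q
  have hr : ∀ r : Cls h, ∑ a, (f a : ℂ) * eta (ex h) (a * r) =
      ∑ a, (g a : ℂ) * eta (ex h) (a * r) := fun r => by
    obtain ⟨u, rfl⟩ := QuotientGroup.mk_surjective r
    exact hfg u
  simp only [hr] at h1
  have h3 : (p : ℂ) * f q = (p : ℂ) * g q := h1.symm.trans h2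
  exact_mod_cast mul_left_cancel₀ (Nat.cast_ne_zero.mpr (Fact.out : p.Prime).ne_zero) h3

/-- The coordinates of an irreducible character. -/
noncomputable def crd (h : Hyp p x ζ) (χ : Cfsg.IrrCharacter G) : Cls h → ℤ :=
  (exists_coord h (isCharacter_irr χ)).choose

theorem crd_val (h : Hyp p x ζ) (χ : Cfsg.IrrCharacter G) (u : (ZMod p)ˣ) :
    (χ : G → ℂ) (x ^ (u : ZMod p).val) =
      ∑ q, (crd h χ q : ℂ) * eta (ex h) (q * QuotientGroup.mk u) :=
  (exists_coord h (isCharacter_irr χ)).choose_spec.choose_spec.2.2.2 u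

/-- The characters over a central character. -/
noncomputable def slice (_h : Hyp p x ζ) (L : G → ℂ) : Finset (Cfsg.IrrCharacter G) :=
  haveI := Classical.decPred fun χ : Cfsg.IrrCharacter G => ∀ z ∈ Subgroup.center G, lam χ z = L z
  Finset.univ.filter fun χ => ∀ z ∈ Subgroup.center G, lam χ z = L z

theorem mem_slice (h : Hyp p x ζ) {L : G → ℂ} {χ : Cfsg.IrrCharacter G} :
    χ ∈ slice h L ↔ ∀ z ∈ Subgroup.center G, lam χ z = L z := by
  simp [slice]

open scoped Classical in
/-- The columns of the powers of `x` over one central character are orthogonal. -/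
theorem slice_col (h : Hyp p x ζ) (χ₀ : Cfsg.IrrCharacter G) (u w : (ZMod p)ˣ) :
    ∑ χ ∈ slice h (lam χ₀), (χ : G → ℂ) (x ^ (u : ZMod p).val) *
        conj ((χ : G → ℂ) (x ^ (w : ZMod p).val)) =
      if (QuotientGroup.mk u : Cls h) = QuotientGroup.mk w then (p : ℂ) else 0 := by
  haveI := Fintype.ofFinite G
  haveI := Fintype.ofFinite (Subgroup.center G)
  have hxp := pow_eq_one_of_order h.ord
  set y := x ^ (u : ZMod p).val with hy
  set y' := x ^ (w : ZMod p).val with hy'
  have hyp : y ^ p = 1 := by rw [← orderOf_pow_unit h u, hy, pow_orderOf_eq_one]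
  have hyp' : y' ^ p = 1 := by rw [← orderOf_pow_unit h w, hy', pow_orderOf_eq_one]
  let S : Cfsg.IrrCharacter G → ℂ := fun χ =>
    ∑ z : Subgroup.center G, lam χ₀ (z : G) * conj (lam χ (z : G))
  set D : ℂ := if (QuotientGroup.mk u : Cls h) = QuotientGroup.mk w
    then ((p * Nat.card (Subgroup.center G) : ℕ) : ℂ) else 0 with hD
  have hcol : ∀ z : Subgroup.center G, ∑ χ : Cfsg.IrrCharacter G,
      (χ : G → ℂ) y * conj ((χ : G → ℂ) (y' * z)) = if z = 1 then D else 0 := by
    intro z
    rw [BlocksChars5.Basic.second_orthogonality]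
    by_cases hz : z = 1
    · subst hz
      rw [OneMemClass.coe_one, mul_one, if_pos rfl, hD]
      by_cases hq : (QuotientGroup.mk u : Cls h) = QuotientGroup.mk w
      · rw [if_pos hq, if_pos ((isConj_iff_mk hxp u w).mpr hq), hy, centralizer_pow_unit h,
          card_centralizer_x h]
      · rw [if_neg hq, if_neg (fun hc => hq ((isConj_iff_mk hxp u w).mp hc))]
    · rw [if_neg hz, if_neg]
      exact fun hc => hz (Subtype.ext (eq_one_of_isConj h hyp hyp' z.2 hc))
  have hSeq : ∀ χ : Cfsg.IrrCharacter G,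
      S χ = if χ ∈ slice h (lam χ₀) then (Nat.card (Subgroup.center G) : ℂ) else 0 := by
    intro χ
    by_cases hχ : χ ∈ slice h (lam χ₀)
    · rw [if_pos hχ]
      rw [mem_slice] at hχ
      simp only [S, hχ _ (Subtype.prop _), lam_mul_conj χ₀ (Subtype.prop _), Finset.sum_const,
        Finset.card_univ, nsmul_eq_mul, mul_one, Nat.card_eq_fintype_card]
    · rw [if_neg hχ]
      rw [mem_slice] at hχ
      push Not at hχ
      obtain ⟨a, ha, hne⟩ := hχ
      have hshift : lam χ₀ a * conj (lam χ a) * S χ = S χ := by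
        simp only [S, Finset.mul_sum]
        refine Fintype.sum_equiv (Equiv.mulLeft ⟨a, ha⟩) _ _ fun z => ?_
        simp only [Equiv.coe_mulLeft, Subgroup.coe_mul, lam_mul _ z.2, map_mul]
        ring
      have hne1 : lam χ₀ a * conj (lam χ a) - 1 ≠ 0 := fun h0 => hne (by
        calc lam χ a = lam χ₀ a * conj (lam χ a) * lam χ a := by rw [sub_eq_zero.1 h0, one_mul]
          _ = _ := by rw [mul_assoc, mul_comm (conj _), lam_mul_conj χ ha, mul_one])
      exact (mul_eq_zero.1 (by linear_combination hshift :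
        (lam χ₀ a * conj (lam χ a) - 1) * S χ = 0)).resolve_left hne1
  have hsum : ∑ χ : Cfsg.IrrCharacter G, S χ * ((χ : G → ℂ) y * conj ((χ : G → ℂ) y')) = D := by
    simp only [S, Finset.sum_mul]
    rw [Finset.sum_comm, Finset.sum_eq_single (1 : Subgroup.center G)]
    · rw [← (hcol 1).trans (if_pos rfl)]
      refine Finset.sum_congr rfl fun χ _ => ?_
      simp [lam_one]
    · intro z _ hz
      rw [← mul_zero (lam χ₀ (z : G)), ← (hcol z).trans (if_neg hz), Finset.mul_sum]
      refine Finset.sum_congr rfl fun χ _ => ?_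
      rw [apply_mul_central χ z.2, map_mul]
      ring
    · simp
  simp only [hSeq, ite_mul, zero_mul, Finset.sum_ite_mem, Finset.univ_inter] at hsum
  rw [← Finset.mul_sum] at hsum
  have hK : (Nat.card (Subgroup.center G) : ℂ) ≠ 0 := Nat.cast_ne_zero.2 Nat.card_pos.ne'
  refine mul_left_cancel₀ hK ?_
  rw [hsum, hD]
  split_ifs <;> push_cast <;> ring

/-- The inner products of the coordinates over one central character. -/
theorem slice_crd (h : Hyp p x ζ) (χ₀ : Cfsg.IrrCharacter G) [DecidableEq (Cls h)]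
    (q q' : Cls h) : ∑ χ : slice h (lam χ₀), crd h χ q * crd h χ q' =
      (if q = q' then 1 else 0) + (Fintype.card (ex h) : ℤ) := by
  classical
  refine Family.sum_mul_b (ex h) (fun χ : slice h (lam χ₀) => crd h χ) ?_ q q'
  intro r s
  obtain ⟨u, rfl⟩ := QuotientGroup.mk_surjective r
  obtain ⟨w, rfl⟩ := QuotientGroup.mk_surjective s
  simp only [← crd_val]
  rw [← (Finset.sum_coe_sort (slice h (lam χ₀)) fun χ => (χ : G → ℂ) (x ^ (u : ZMod p).val) *
        conj ((χ : G → ℂ) (x ^ (w : ZMod p).val))).symm, slice_col]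
  congr

end Cfsg.Agent.Lib.FeitSmall.Setup
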