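import Cfsg.Agent.Lib.SmallRep.Lift
import Mathlib.GroupTheory.SchurZassenhaus
import Mathlib.LinearAlgebra.Pi

/-!
# A submodule from a cyclic summand on the normalizer

If a subspace stable under `N(⟨x⟩)` is generated by one vector under `x - 1`, of length `b`, and a
functional detects the top of this string and kills the image of `(x - 1) ^ b`, then the subspace
is a summand over the normalizer, and lifts to a `G`-submodule of dimension `b`.
-/

set_option autoImplicit false
set_option linter.unusedSectionVars false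
set_option linter.style.haveILetI false

namespace Cfsg.Agent.Lib.FeitSmall.Summand

open Cfsg.Agent.Lib.SmallRep

variable {k : Type*} [Field k] {W : Type*} [AddCommGroup W] [Module k W] [FiniteDimensional k W]
  {G : Type*} [Group G] [Finite G] {p : ℕ} [Fact p.Prime] [CharP k p] {x : G}

/-- The conjugate of `x` by a normalizing element is a power of it. -/
theorem exists_pow {g : G}
    (hg : g ∈ Subgroup.normalizer (Subgroup.zpowers x : Set G)) : ∃ μ : ℕ, g⁻¹ * x * g = x ^ μ := by
  have h : g⁻¹ * x * g ∈ Subgroup.zpowers x := by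
    have := (Subgroup.mem_normalizer_iff.1 (inv_mem hg) x).1 (Subgroup.mem_zpowers x)
    rwa [inv_inv] at this
  obtain ⟨μ, hμ⟩ := mem_powers_iff_mem_zpowers.2 h
  exact ⟨μ, hμ.symm⟩

theorem exists_summand (c : G →* Module.End k W) (hx : orderOf x = p)
    (hG : ¬ p ^ 2 ∣ Nat.card G) (hW : (c x - 1) ^ (p - 1) = 0) (K : Submodule k W)
    (hK : ∀ g ∈ Subgroup.normalizer (Subgroup.zpowers x : Set G), ∀ w ∈ K, c g w ∈ K)
    {b : ℕ} (hb : 2 ≤ b) (hdim : Module.finrank k K ≤ b) {v : W} (hv : v ∈ K) (φ : W →ₗ[k] k)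
    (hφ : ∀ w, φ (((c x - 1) ^ b) w) = 0) (hφv : φ (((c x - 1) ^ (b - 1)) v) ≠ 0) :
    ∃ U : Submodule k W, (∀ g, ∀ u ∈ U, c g u ∈ U) ∧ Module.finrank k U = b ∧
      ∃ u ∈ U, c x u ≠ u := by
  classical
  set N := c x - 1 with hNdef
  have hφbig : ∀ m, b ≤ m → ∀ w, φ ((N ^ m) w) = 0 := fun m hm w => by
    rw [← Nat.add_sub_cancel' hm, pow_add, Module.End.mul_apply]
    exact hφ _
  set H := Subgroup.normalizer (Subgroup.zpowers x : Set G) with hH
  have hxH : x ∈ H := Subgroup.le_normalizer (Subgroup.mem_zpowers x)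
  have hNK : ∀ w ∈ K, N w ∈ K := fun w hw => by
    rw [hNdef, LinearMap.sub_apply, Module.End.one_apply]
    exact K.sub_mem (hK x hxH w hw) hw
  have hpowK : ∀ i : ℕ, ∀ w ∈ K, (N ^ i) w ∈ K := by
    intro i
    induction i with
    | zero => exact fun w hw => by simpa using hw
    | succ i ih =>
      intro w hw
      rw [pow_succ', Module.End.mul_apply]
      exact hNK _ (ih w hw)
  -- the string
  set Ψ : (Fin b → k) →ₗ[k] W := ∑ i : Fin b,
    (LinearMap.proj i : (Fin b → k) →ₗ[k] k).smulRight ((N ^ i.1) v) with hΨ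
  have hΨapply : ∀ f, Ψ f = ∑ i : Fin b, f i • (N ^ i.1) v := fun f => by
    simp [hΨ, LinearMap.sum_apply]
  set Λ : W →ₗ[k] (Fin b → k) := LinearMap.pi fun i => φ.comp (N ^ i.1) with hΛ
  have hΛapply : ∀ w (i : Fin b), Λ w i = φ ((N ^ i.1) w) := fun w i => rfl
  have hΛΨ : ∀ f, Λ (Ψ f) = 0 → f = 0 := by
    intro f hf
    have key : ∀ n (hn : n < b), f ⟨n, hn⟩ = 0 := by
      intro n
      induction n using Nat.strong_induction_on with
      | _ n ih =>
        intro hn
        have h1 := congrFun hf ⟨b - 1 - n, by omega⟩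
        rw [hΛapply, hΨapply, map_sum, map_sum, Finset.sum_eq_single (⟨n, hn⟩ : Fin b)] at h1
        · rw [map_smul, map_smul, ← Module.End.mul_apply, ← pow_add,
            show b - 1 - n + n = b - 1 by omega, smul_eq_mul, Pi.zero_apply] at h1
          exact (mul_eq_zero.1 h1).resolve_right hφv
        · intro j _ hj
          rcases Nat.lt_or_gt_of_ne (show j.1 ≠ n from fun e => hj (Fin.ext e)) with h | h
          · rw [ih j.1 h j.2, zero_smul, map_zero, map_zero]
          · rw [map_smul, map_smul, ← Module.End.mul_apply, ← pow_add,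
              hφbig _ (by show b ≤ b - 1 - n + j.1; omega), smul_zero]
        · simp
    funext j
    exact key j.1 j.2
  have hΨinj : Function.Injective Ψ := (injective_iff_map_eq_zero Ψ).2 fun f hf =>
    hΛΨ f (by rw [hf, map_zero])
  have hΨK : LinearMap.range Ψ = K := by
    refine Submodule.eq_of_le_of_finrank_le ?_ ?_
    · rintro w ⟨f, rfl⟩
      rw [hΨapply]
      exact K.sum_mem fun i _ => K.smul_mem _ (hpowK _ v hv)
    · rw [LinearMap.finrank_range_of_inj hΨinj, Module.finrank_fin_fun]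
      exact hdim
  -- the projection commuting with `x`
  let Qe := LinearEquiv.ofInjectiveEndo (Λ.comp Ψ) ((injective_iff_map_eq_zero _).2 hΛΨ)
  set π₀ : Module.End k W := Ψ.comp (Qe.symm.toLinearMap.comp Λ) with hπ₀
  have h1 : ∀ w, π₀ w ∈ K := fun w => hΨK ▸ ⟨_, rfl⟩
  have h2 : ∀ w ∈ K, π₀ w = w := by
    intro w hw
    rw [← hΨK] at hw
    obtain ⟨f, rfl⟩ := hw
    show Ψ (Qe.symm (Λ (Ψ f))) = Ψ f
    rw [show Λ (Ψ f) = Qe f from rfl, LinearEquiv.symm_apply_apply]
  have hπN : Commute π₀ N := by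
    refine LinearMap.ext fun w => ?_
    show π₀ (N w) = N (π₀ w)
    have h0 : Λ (w - π₀ w) = 0 := by
      rw [map_sub, sub_eq_zero]
      show Λ w = Λ (Ψ (Qe.symm (Λ w)))
      exact (LinearEquiv.apply_symm_apply Qe (Λ w)).symm
    have h3 : Λ (N (w - π₀ w)) = 0 := by
      funext i
      rw [hΛapply, ← Module.End.mul_apply, ← pow_succ]
      rcases Nat.lt_or_ge (i.1 + 1) b with h | h
      · exact congrFun h0 ⟨i.1 + 1, h⟩
      · exact hφbig _ h _
    have h4 : π₀ (N (w - π₀ w)) = 0 := by
      show Ψ (Qe.symm (Λ (N (w - π₀ w)))) = 0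
      rw [h3, map_zero, map_zero]
    rw [map_sub, map_sub, sub_eq_zero, h2 _ (hNK _ (h1 w))] at h4
    exact h4
  have hπX : Commute π₀ (c x) := by
    have := hπN.add_right (Commute.one_right π₀)
    rwa [hNdef, sub_add_cancel] at this
  -- average over a complement
  set P := (Subgroup.zpowers x).subgroupOf H with hP
  haveI : P.Normal := by
    refine ⟨fun n hn g => ?_⟩
    rw [hP, Subgroup.mem_subgroupOf] at hn ⊢
    exact (Subgroup.mem_normalizer_iff.1 g.2 _).1 hn
  have hcardP : Nat.card P = p := by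
    rw [hP, Nat.card_congr (Subgroup.subgroupOfEquivOfLe Subgroup.le_normalizer).toEquiv,
      Nat.card_zpowers, hx]
  have hndvd : ¬ p ∣ P.index := by
    intro h
    refine hG (dvd_trans ?_ H.card_subgroup_dvd_card)
    rw [← P.card_mul_index, hcardP, pow_two]
    exact mul_dvd_mul dvd_rfl h
  obtain ⟨A, hA⟩ := Subgroup.exists_right_complement'_of_coprime (N := P) (by
    rw [hcardP]; exact (Fact.out : p.Prime).coprime_iff_not_dvd.2 hndvd)
  have hcardA : (Nat.card A : k) ≠ 0 := by
    rw [← hA.symm.index_eq_card, Ne, CharP.cast_eq_zero_iff k p]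
    exact hndvd
  set cA : A →* Module.End k W := c.comp (H.subtype.comp A.subtype) with hcA
  obtain ⟨e, he1, he2, heA, heT⟩ := Lift.exists_average cA hcardA K
    (fun a w hw => hK _ (a : H).2 w hw) π₀ h1 h2
  have heX : Commute e (c x) := by
    refine heT _ fun a => ?_
    obtain ⟨μ, hμ⟩ := exists_pow (a : H).2
    rw [show cA a⁻¹ * c x * cA a = c x ^ μ by
      rw [← map_pow, ← hμ, map_mul, map_mul]
      rfl]
    exact hπX.pow_right μ
  have heH : ∀ g ∈ H, Commute e (c g) := by
    intro g hg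
    obtain ⟨⟨⟨u, hu⟩, a⟩, hua⟩ := hA.2 ⟨g, hg⟩
    have hu' : (u : G) ∈ Subgroup.zpowers x := hu
    obtain ⟨i, hi⟩ := mem_powers_iff_mem_zpowers.2 hu'
    have hgua : g = x ^ i * ((a : H) : G) := by
      rw [show x ^ i = (u : G) from hi]
      exact (congrArg Subtype.val hua).symm
    rw [hgua, map_mul, map_pow]
    exact (heX.pow_right i).mul_right (heA a)
  have hee : ∀ w, e (e w) = e w := fun w => he2 _ (he1 w)
  obtain ⟨Φ, hΦc, -, hΦr, hΦk, -, -⟩ := Lift.exists_lift c hx hG hW e hee heH
  have hre : LinearMap.range e = K :=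
    le_antisymm (by rintro w ⟨u, rfl⟩; exact he1 u) fun w hw => ⟨w, he2 w hw⟩
  have hKb : Module.finrank k K = b := by
    rw [← hΨK, LinearMap.finrank_range_of_inj hΨinj, Module.finrank_fin_fun]
  set U := LinearMap.range Φ with hU
  have hUb : Module.finrank k U = b := by rw [hU, hΦr, hre, hKb]
  refine ⟨U, ?_, hUb, ?_⟩
  · rintro g u ⟨w, rfl⟩
    exact ⟨c g w, LinearMap.congr_fun (hΦc g).eq w⟩
  by_contra hall
  push Not at hall
  let f : U →ₗ[k] K := (e.domRestrict U).codRestrict K fun u => he1 _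
  have hfinj : Function.Injective f := (injective_iff_map_eq_zero f).2 fun u hu =>
    Subtype.ext (hΦk _ u.2 (congrArg Subtype.val hu))
  obtain ⟨u, hu⟩ := (LinearMap.injective_iff_surjective_of_finrank_eq_finrank
    (hUb.trans hKb.symm)).1 hfinj ⟨v, hv⟩
  have huv : e (u : W) = v := congrArg Subtype.val hu
  have hxv : c x v = v := by
    rw [← huv, ← Module.End.mul_apply, ← heX.eq, Module.End.mul_apply, hall _ u.2]
  apply hφv
  rw [show b - 1 = b - 2 + 1 by omega, pow_succ, Module.End.mul_apply, hNdef,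
    LinearMap.sub_apply, Module.End.one_apply, hxv, sub_self, map_zero, map_zero]

end Cfsg.Agent.Lib.FeitSmall.Summand
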