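import Cfsg.Agent.Lib.FeitSmall.Form
import Cfsg.Agent.Lib.FeitSmall.Summand
import Mathlib.Tactic.NoncommRing

/-!
# A small constituent of the alternating square

Let `R` be a matrix representation of degree `n` with `2 n = p + 1` in which `x` is one Jordan
block, the normalizer of `⟨x⟩` preserving its `sl₂`.  On the skew symmetric matrices, with
`T ↦ R g T (R g)ᵀ`, the module `L(2)` for odd `n` and `L(4)` for even `n` is a summand over the
normalizer, and lifts to a constituent of dimension at most five in which `x` is non-trivial.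
-/

set_option autoImplicit false
set_option linter.unusedSectionVars false
set_option linter.style.haveILetI false

namespace Cfsg.Agent.Lib.FeitSmall.Skew

open Matrix
open Cfsg.Agent.Lib.SmallRep.Model Form

variable {k : Type*} [Field k] {n : ℕ}

/-- Powers of a strictly upper triangular matrix. -/
theorem pow_upper {A : Matrix (Fin n) (Fin n) k} (hA : ∀ j i : Fin n, i.1 ≤ j.1 → A j i = 0) :
    ∀ (m : ℕ) (j i : Fin n), i.1 < j.1 + m → (A ^ m) j i = 0 := by
  intro m
  induction m with
  | zero =>
    intro j i h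
    rw [pow_zero, Matrix.one_apply_ne (fun e => by rw [e] at h; omega)]
  | succ m ih =>
    intro j i h
    rw [pow_succ, Matrix.mul_apply]
    refine Finset.sum_eq_zero fun l _ => ?_
    rcases Nat.lt_or_ge l.1 (j.1 + m) with h1 | h1
    · rw [ih j l h1, zero_mul]
    · rw [hA l i (by omega), mul_zero]

/-- The translation minus one. -/
theorem pasc_sub_upper : ∀ j i : Fin n, i.1 ≤ j.1 → (pasc k n - 1) j i = 0 :=
  fun j i h => (isShift_pasc (k := k) (d := n)).upper j i h

theorem pasc_pow_n : (pasc k n - 1) ^ n = 0 := by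
  ext j i
  exact pow_upper pasc_sub_upper n j i (by omega)

theorem pasc_mul_top {m : ℕ} (hm : m + 1 = n) :
    ∀ l : ℕ, pasc k n ^ l * (pasc k n - 1) ^ m = (pasc k n - 1) ^ m := by
  intro l
  induction l with
  | zero => rw [pow_zero, one_mul]
  | succ l ih =>
    have h0 : (pasc k n - 1) * (pasc k n - 1) ^ m = 0 := by
      rw [← pow_succ', hm, pasc_pow_n]
    rw [sub_mul, one_mul, sub_eq_zero] at h0
    rw [pow_succ, mul_assoc, h0, ih]

/-- The congruence action on matrices. -/
def congrAct {G : Type*} [Group G] (R : G →* Matrix (Fin n) (Fin n) k) :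
    G →* Module.End k (Matrix (Fin n) (Fin n) k) where
  toFun g := (LinearMap.mulLeft k (R g)).comp (LinearMap.mulRight k (R g)ᵀ)
  map_one' := LinearMap.ext fun T => by simp
  map_mul' g g' := LinearMap.ext fun T => by simp [Matrix.transpose_mul, mul_assoc]

theorem congrAct_apply {G : Type*} [Group G] (R : G →* Matrix (Fin n) (Fin n) k) (g : G)
    (T : Matrix (Fin n) (Fin n) k) : congrAct R g T = R g * (T * (R g)ᵀ) := rfl

/-- The skew symmetric matrices. -/
def skew (k : Type*) [Field k] (n : ℕ) : Submodule k (Matrix (Fin n) (Fin n) k) where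
  carrier := {T | Tᵀ = -T}
  zero_mem' := by simp
  add_mem' := fun {a b} (ha : aᵀ = -a) (hb : bᵀ = -b) => by
    show (a + b)ᵀ = -(a + b)
    rw [Matrix.transpose_add, ha, hb, neg_add]
  smul_mem' := fun c a (ha : aᵀ = -a) => by
    show (c • a)ᵀ = -(c • a)
    rw [Matrix.transpose_smul, ha, smul_neg]

theorem diag_eq_zero (h2 : (2 : k) ≠ 0) {T : Matrix (Fin n) (Fin n) k} (hT : T ∈ skew k n)
    (i : Fin n) : T i i = 0 := by
  have h := congrFun (congrFun (show Tᵀ = -T from hT) i) i
  rw [Matrix.transpose_apply, Matrix.neg_apply] at h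
  exact (mul_eq_zero.1 (by linear_combination h : (2 : k) * T i i = 0)).resolve_left h2

theorem congrAct_mem {G : Type*} [Group G] (R : G →* Matrix (Fin n) (Fin n) k) (g : G)
    {T : Matrix (Fin n) (Fin n) k} (hT : T ∈ skew k n) : congrAct R g T ∈ skew k n := by
  show (congrAct R g T)ᵀ = -(congrAct R g T)
  rw [congrAct_apply, Matrix.transpose_mul, Matrix.transpose_mul, Matrix.transpose_transpose,
    show Tᵀ = -T from hT, mul_neg, neg_mul, mul_assoc]

/-- The action on the skew symmetric matrices. -/
def skewAct {G : Type*} [Group G] (R : G →* Matrix (Fin n) (Fin n) k) :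
    G →* Module.End k (skew k n) where
  toFun g := (congrAct R g).restrict fun _ hT => congrAct_mem R g hT
  map_one' := LinearMap.ext fun T => Subtype.ext (by simp)
  map_mul' g g' := LinearMap.ext fun T => Subtype.ext (by simp)

theorem coe_skewAct {G : Type*} [Group G] (R : G →* Matrix (Fin n) (Fin n) k) (g : G)
    (T : skew k n) : (skewAct R g T : Matrix (Fin n) (Fin n) k) = congrAct R g T := rfl

variable {G : Type*} [Group G] {x : G} {R : G →* Matrix (Fin n) (Fin n) k}

/-- The sum of the two rotations raised to `2 n - 2` kills the skew symmetric matrices. -/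
theorem skewAct_nilpotent (h2 : (2 : k) ≠ 0) (hR : R x = pasc k n) {m : ℕ} (hm : m + 1 = n) :
    (skewAct R x - 1) ^ (2 * m) = 0 := by
  set J := pasc k n - 1 with hJ
  set a : Module.End k (Matrix (Fin n) (Fin n) k) :=
    LinearMap.mulLeft k J * LinearMap.mulRight k (pasc k n)ᵀ with ha
  set b : Module.End k (Matrix (Fin n) (Fin n) k) := LinearMap.mulRight k Jᵀ with hb
  have hab : congrAct R x - 1 = a + b := by
    refine LinearMap.ext fun T => ?_
    show congrAct R x T - T = J * (T * (pasc k n)ᵀ) + T * Jᵀ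
    rw [congrAct_apply, hR, hJ, Matrix.transpose_sub, Matrix.transpose_one, sub_mul, one_mul,
      mul_sub, mul_one]
    abel
  have hJX : Jᵀ * (pasc k n)ᵀ = (pasc k n)ᵀ * Jᵀ := by
    rw [← Matrix.transpose_mul, ← Matrix.transpose_mul, hJ, mul_sub, sub_mul, mul_one, one_mul]
  have hc : Commute a b := by
    refine LinearMap.ext fun T => ?_
    show J * (T * Jᵀ * (pasc k n)ᵀ) = J * (T * (pasc k n)ᵀ) * Jᵀ
    simp only [mul_assoc, hJX]
  have hapow : ∀ (i : ℕ) T, (a ^ i) T = J ^ i * (T * (pasc k n)ᵀ ^ i) := fun i T => by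
    rw [ha, Commute.mul_pow (LinearMap.commute_mulLeft_right _ _), LinearMap.pow_mulLeft,
      LinearMap.pow_mulRight]
    rfl
  have hbpow : ∀ (i : ℕ) T, (b ^ i) T = T * Jᵀ ^ i := fun i T => by
    rw [hb, LinearMap.pow_mulRight]
    rfl
  have hJn : ∀ i, n ≤ i → J ^ i = 0 := fun i hi => by
    rw [← Nat.add_sub_cancel' hi, pow_add, hJ, pasc_pow_n, zero_mul]
  have hmain : ∀ T ∈ skew k n, ((congrAct R x - 1) ^ (2 * m)) T = 0 := by
    intro T hT
    rw [hab, hc.add_pow, LinearMap.sum_apply]
    refine Finset.sum_eq_zero fun i hi => ?_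
    rw [Finset.mem_range] at hi
    rw [← (Nat.cast_commute ((2 * m).choose i) (a ^ i * b ^ (2 * m - i))).eq,
      Module.End.mul_apply, Module.End.mul_apply, hbpow, hapow]
    suffices J ^ i * (T * Jᵀ ^ (2 * m - i) * (pasc k n)ᵀ ^ i) = 0 by rw [this, map_zero]
    rcases Nat.lt_trichotomy i m with h | h | h
    · rw [← Matrix.transpose_pow, hJn _ (by omega : n ≤ 2 * m - i), Matrix.transpose_zero]
      simp
    · rw [h, show 2 * m - m = m by omega, mul_assoc, ← Matrix.transpose_pow, ← Matrix.transpose_pow,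
        ← Matrix.transpose_mul, pasc_mul_top hm, ← hJ]
      ext r c
      rw [Matrix.zero_apply, Matrix.mul_apply]
      refine Finset.sum_eq_zero fun j _ => ?_
      by_cases hj : j.1 = m
      · rw [Matrix.mul_apply, Finset.sum_eq_zero, mul_zero]
        intro l _
        by_cases hl : l.1 = m
        · rw [show j = l from Fin.ext (hj.trans hl.symm), diag_eq_zero h2 hT, zero_mul]
        · rw [Matrix.transpose_apply, pow_upper pasc_sub_upper m c l (by omega), mul_zero]
      · rw [pow_upper pasc_sub_upper m r j (by omega), zero_mul]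
    · rw [hJn i (by omega), zero_mul]
  refine LinearMap.ext fun T => Subtype.ext ?_
  have hpow : ∀ (i : ℕ) (T : skew k n), (((skewAct R x - 1) ^ i) T : Matrix (Fin n) (Fin n) k) =
      ((congrAct R x - 1) ^ i) T := by
    intro i
    induction i with
    | zero => intro T; simp
    | succ i ih =>
      intro T
      rw [pow_succ', Module.End.mul_apply, pow_succ', Module.End.mul_apply, ← ih]
      rfl
  rw [hpow, hmain _ T.2]
  rfl

/-- Conjugation by a matrix with a given inverse. -/
def conjBy (A B : Matrix (Fin n) (Fin n) k) : Module.End k (Matrix (Fin n) (Fin n) k) :=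
  (LinearMap.mulLeft k A).comp (LinearMap.mulRight k B)

theorem conjBy_apply (A B Y : Matrix (Fin n) (Fin n) k) : conjBy A B Y = A * (Y * B) := rfl

theorem conjBy_mul {A B : Matrix (Fin n) (Fin n) k} (h : B * A = 1) (Y Y' : Matrix (Fin n) (Fin n) k) :
    conjBy A B (Y * Y') = conjBy A B Y * conjBy A B Y' := by
  simp only [conjBy_apply, mul_assoc]
  rw [← mul_assoc B A, h, one_mul]

/-- The generators moved by translation. -/
theorem conjBy_gens {B : Matrix (Fin n) (Fin n) k} (h : pasc k n * B = 1) :
    conjBy (pasc k n) B (lowE k n) = lowE k n ∧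
      conjBy (pasc k n) B (diagH k n) = diagH k n - 2 • lowE k n ∧
      conjBy (pasc k n) B (raiseF k n) = raiseF k n + diagH k n - lowE k n := by
  refine ⟨?_, ?_, ?_⟩ <;> rw [conjBy_apply, ← mul_assoc]
  · rw [pasc_lowE, mul_assoc, h, mul_one]
  · rw [pasc_diagH, mul_assoc, h, mul_one]
  · rw [pasc_raiseF, mul_assoc, h, mul_one]

/-- The strings through `F` and `F ^ 2`. -/
theorem strings {B : Matrix (Fin n) (Fin n) k} (h : pasc k n * B = 1) :
    let D := conjBy (pasc k n) B - 1
    D (D (raiseF k n)) = -(2 • lowE k n) ∧ D (D (D (raiseF k n))) = 0 ∧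
      D (D (D (D (raiseF k n * raiseF k n)))) = 24 • (lowE k n * lowE k n) ∧
      D (D (D (D (D (raiseF k n * raiseF k n))))) = 0 := by
  intro D
  obtain ⟨hE, hH, hF⟩ := conjBy_gens h
  have hmul := conjBy_mul (mul_eq_one_comm.1 h)
  have hD : ∀ Y, D Y = conjBy (pasc k n) B Y - Y := fun Y => rfl
  have h2 : D (D (raiseF k n)) = -(2 • lowE k n) := by
    simp only [hD, map_sub, map_add, hE, hH, hF]
    abel
  have h4 : D (D (D (D (raiseF k n * raiseF k n)))) = 24 • (lowE k n * lowE k n) := by
    simp only [hD, map_sub, map_add, map_nsmul, hmul, hE, hH, hF]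
    noncomm_ring
  refine ⟨h2, ?_, h4, ?_⟩
  · rw [h2, hD, map_neg, map_nsmul, hE, sub_self]
  · rw [h4, hD, map_nsmul, hmul, hE, sub_self]

/-- The symmetrized products. -/
def sym2 (v w : Fin 3 → k) : Matrix (Fin n) (Fin n) k :=
  comb n v * comb n w + comb n w * comb n v

/-- The six generators of the symmetrized products. -/
def gen6 (k : Type*) [Field k] (n : ℕ) : Fin 6 → Matrix (Fin n) (Fin n) k :=
  ![sym2 ![1, 0, 0] ![1, 0, 0], sym2 ![0, 1, 0] ![0, 1, 0], sym2 ![0, 0, 1] ![0, 0, 1],
    sym2 ![1, 0, 0] ![0, 1, 0], sym2 ![1, 0, 0] ![0, 0, 1], sym2 ![0, 1, 0] ![0, 0, 1]]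

theorem sym2_mem (v w : Fin 3 → k) :
    (sym2 v w : Matrix (Fin n) (Fin n) k) ∈ Submodule.span k (Set.range (gen6 k n)) := by
  have h : (sym2 v w : Matrix (Fin n) (Fin n) k) =
      (v 0 * w 0) • gen6 k n 0 + (v 1 * w 1) • gen6 k n 1 + (v 2 * w 2) • gen6 k n 2 +
      (v 0 * w 1 + v 1 * w 0) • gen6 k n 3 + (v 0 * w 2 + v 2 * w 0) • gen6 k n 4 +
      (v 1 * w 2 + v 2 * w 1) • gen6 k n 5 := by
    simp only [gen6, sym2, comb, Matrix.cons_val_zero, Matrix.cons_val_one, Matrix.cons_val,
      one_smul, zero_smul, zero_add, add_zero, add_mul, mul_add, smul_mul_assoc, mul_smul_comm]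
    module
  rw [h]
  have hg : ∀ i, gen6 k n i ∈ Submodule.span k (Set.range (gen6 k n)) := fun i =>
    Submodule.subset_span ⟨i, rfl⟩
  exact add_mem (add_mem (add_mem (add_mem (add_mem (Submodule.smul_mem _ _ (hg 0))
    (Submodule.smul_mem _ _ (hg 1))) (Submodule.smul_mem _ _ (hg 2)))
    (Submodule.smul_mem _ _ (hg 3))) (Submodule.smul_mem _ _ (hg 4)))
    (Submodule.smul_mem _ _ (hg 5))

theorem raiseF_sq_diag (a : Fin n) : (raiseF k n * raiseF k n) a a = 0 := by
  rw [raiseF_mul]
  split_ifs with h
  · rw [raiseF, Matrix.of_apply, if_neg (by simp), mul_zero]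
  · rfl

theorem finrank_comap_subtype_le {V : Type*} [AddCommGroup V] [Module k V] [FiniteDimensional k V]
    (W M : Submodule k V) :
    Module.finrank k (M.comap W.subtype) ≤ Module.finrank k M := by
  rw [← Submodule.finrank_map_subtype_eq]
  exact Submodule.finrank_mono (Submodule.map_comap_le _ _)

variable [Finite G] {p : ℕ} [Fact p.Prime] [CharP k p]

set_option maxHeartbeats 1000000 in
/-- A constituent of dimension at most five in which `x` is non-trivial. -/
theorem exists_small (hx : orderOf x = p) (hG : ¬ p ^ 2 ∣ Nat.card G) (hp : 7 < p)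
    (hn : 2 * n = p + 1) (hR : R x = pasc k n)
    (hN : ∀ g ∈ Subgroup.normalizer (Subgroup.zpowers x : Set G),
      ∀ v, ∃ w, R g * comb n v = comb n w * R g) :
    ∃ U : Submodule k (skew k n), (∀ g, ∀ u ∈ U, skewAct R g u ∈ U) ∧
      Module.finrank k U ≤ 5 ∧ ∃ u ∈ U, skewAct R x u ≠ u := by
  classical
  have hcast : ∀ i : ℕ, 0 < i → i < p → (i : k) ≠ 0 := fun i h0 hi h =>
    Nat.not_dvd_of_pos_of_lt h0 hi ((CharP.cast_eq_zero_iff k p i).1 h)
  have h2 : (2 : k) ≠ 0 := by exact_mod_cast hcast 2 two_pos (by omega)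
  have hnp : n < p := by omega
  have hn1 : 1 ≤ n := by omega
  set Xi := R x⁻¹ with hXi
  have hXXi : pasc k n * Xi = 1 := by rw [← hR, hXi, ← map_mul, mul_inv_cancel, map_one]
  have hXiX : Xi * pasc k n = 1 := mul_eq_one_comm.1 hXXi
  have hXQ := pasc_Qm (k := k) (p := p) hnp h2 hn1
  have hQQi := Qm_mul_Qi (k := k) (p := p) (n := n) hnp.le
  have hQiQ := Qi_mul_Qm (k := k) (p := p) (n := n) hnp.le
  set Q := Qm k n with hQdef
  set D := conjBy (pasc k n) Xi - 1 with hD
  set D' := conjBy Xi (pasc k n) - 1 with hD'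
  -- the operators of the normalizer fix the line of the form
  have hν : ∀ g ∈ Subgroup.normalizer (Subgroup.zpowers x : Set G),
      ∃ ν : k, R g * Q * (R g)ᵀ = ν • Q := by
    intro g hg
    refine ⟨_, eq_smul_Qm (p := p) hnp h2 hn1 fun v => ?_⟩
    obtain ⟨u, hu⟩ := hN g⁻¹ (inv_mem hg) v
    have h' : comb n v * R g = R g * comb n u := by
      have h1 := congrArg (fun M => R g * (M * R g)) hu
      simp only [mul_assoc] at h1
      rw [← map_mul R g⁻¹ g, inv_mul_cancel, map_one, mul_one, ← mul_assoc (R g) (R g⁻¹),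
        ← map_mul, mul_inv_cancel, map_one, one_mul] at h1
      exact h1
    calc _ = comb n v * R g * Q * (R g)ᵀ + R g * Q * (comb n v * R g)ᵀ := by
          simp only [Matrix.transpose_mul, mul_assoc]
      _ = R g * (comb n u * Q + Q * (comb n u)ᵀ) * (R g)ᵀ := by
          rw [h', Matrix.transpose_mul]
          simp only [mul_add, add_mul, mul_assoc]
      _ = 0 := by rw [comb_Qm]; simp
  -- passing to the endomorphisms
  have hstep : ∀ T : Matrix (Fin n) (Fin n) k,
      (congrAct R x T - T) * Qi k n = D (T * Qi k n) := by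
    intro T
    have h1 : Q * Qi k n * T = T := by rw [hQQi, one_mul]
    have h3 : (pasc k n)ᵀ * Qi k n = Qi k n * Xi := by
      calc (pasc k n)ᵀ * Qi k n = Qi k n * Xi * (pasc k n * Q * (pasc k n)ᵀ) * Qi k n := by
            simp only [mul_assoc]
            rw [← mul_assoc Xi, hXiX, one_mul, ← mul_assoc (Qi k n), hQiQ, one_mul]
        _ = Qi k n * Xi := by rw [hXQ]; simp only [mul_assoc, hQQi, mul_one]
    rw [hD, LinearMap.sub_apply, Module.End.one_apply, conjBy_apply, congrAct_apply, hR, sub_mul]
    simp only [mul_assoc, h3]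
  have hiter : ∀ (j : ℕ) (T : skew k n),
      (((skewAct R x - 1) ^ j) T : Matrix (Fin n) (Fin n) k) * Qi k n =
        (D ^ j) ((T : Matrix (Fin n) (Fin n) k) * Qi k n) := by
    intro j
    induction j with
    | zero => intro T; simp
    | succ j ih =>
      intro T
      rw [pow_succ', Module.End.mul_apply, pow_succ', Module.End.mul_apply, ← ih]
      exact hstep _
  have hadj : ∀ (j : ℕ) (A Y : Matrix (Fin n) (Fin n) k),
      (A * (D ^ j) Y).trace = ((D' ^ j) A * Y).trace := by
    intro j
    induction j with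
    | zero => intro A Y; simp
    | succ j ih =>
      intro A Y
      rw [pow_succ, Module.End.mul_apply, ih, pow_succ', Module.End.mul_apply]
      generalize (D' ^ j) A = B
      rw [hD, hD', LinearMap.sub_apply, LinearMap.sub_apply, Module.End.one_apply,
        Module.End.one_apply, mul_sub, sub_mul, Matrix.trace_sub, Matrix.trace_sub, conjBy_apply,
        conjBy_apply]
      congr 1
      rw [← mul_assoc B (pasc k n), ← mul_assoc (B * pasc k n), Matrix.trace_mul_comm, mul_assoc]
      simp only [mul_assoc]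
  have hkill : ∀ (b : ℕ) (A : Matrix (Fin n) (Fin n) k), (D ^ b) A = 0 → (D' ^ b) A = 0 := by
    intro b A hA
    have hDD : D' = -conjBy Xi (pasc k n) * D := by
      refine LinearMap.ext fun Y => ?_
      show Xi * (Y * pasc k n) - Y = -(Xi * ((pasc k n * (Y * Xi) - Y) * pasc k n))
      simp only [sub_mul, mul_sub, mul_assoc, hXiX, mul_one]
      rw [← mul_assoc Xi (pasc k n) Y, hXiX, one_mul]
      abel
    have hcomm : Commute (-conjBy Xi (pasc k n)) D := by
      refine Commute.neg_left (Commute.sub_right ?_ (Commute.one_right _))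
      refine LinearMap.ext fun Y => ?_
      show Xi * (pasc k n * (Y * Xi) * pasc k n) = pasc k n * (Xi * (Y * pasc k n) * Xi)
      simp only [mul_assoc, hXXi, hXiX, mul_one]
      rw [← mul_assoc, hXiX, ← mul_assoc, hXXi]
    rw [hDD, hcomm.mul_pow, Module.End.mul_apply, hA, map_zero]
  -- the generic conclusion
  have hW : (skewAct R x - 1) ^ (p - 1) = 0 := by
    rw [show p - 1 = 2 * (n - 1) by omega]
    exact skewAct_nilpotent h2 hR (by omega)
  have main : ∀ (b : ℕ) (K0 : Submodule k (Matrix (Fin n) (Fin n) k))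
      (A : Matrix (Fin n) (Fin n) k), 2 ≤ b → b ≤ 5 → Module.finrank k K0 ≤ b →
      (∀ g ∈ Subgroup.normalizer (Subgroup.zpowers x : Set G), ∀ Y ∈ K0,
        R g * (Y * R g⁻¹) ∈ K0) →
      A ∈ K0 → A * Q ∈ skew k n → (D ^ b) A = 0 → (A * (D ^ (b - 1)) A).trace ≠ 0 →
      ∃ U : Submodule k (skew k n), (∀ g, ∀ u ∈ U, skewAct R g u ∈ U) ∧
        Module.finrank k U ≤ 5 ∧ ∃ u ∈ U, skewAct R x u ≠ u := by
    intro b K0 A hb hb5 hdim hstab hA hAs hA0 hA1
    set K : Submodule k (skew k n) :=
      (K0.map (LinearMap.mulRight k Q)).comap (skew k n).subtype with hK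
    set φ : skew k n →ₗ[k] k := (Matrix.traceLinearMap (Fin n) k k).comp
      ((LinearMap.mulLeft k A).comp ((LinearMap.mulRight k (Qi k n)).comp (skew k n).subtype))
      with hφdef
    have hφ : ∀ T : skew k n, φ T = (A * ((T : Matrix (Fin n) (Fin n) k) * Qi k n)).trace :=
      fun T => rfl
    refine Exists.imp (fun U h => ⟨h.1, h.2.1.le.trans hb5, h.2.2⟩)
      (Summand.exists_summand (skewAct R) hx hG hW K ?_ hb ?_
        (v := ⟨A * Q, hAs⟩) (Submodule.mem_map_of_mem (f := LinearMap.mulRight k Q) hA) φ ?_ ?_)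
    · intro g hg w hw
      obtain ⟨Y, hY, hYw⟩ := hw
      obtain ⟨ν, hν'⟩ := hν g hg
      refine ⟨ν • (R g * (Y * R g⁻¹)), K0.smul_mem _ (hstab g hg Y hY), ?_⟩
      show ν • (R g * (Y * R g⁻¹)) * Q = congrAct R g w
      rw [congrAct_apply, ← show Y * Q = (w : Matrix (Fin n) (Fin n) k) from hYw, smul_mul_assoc,
        ← mul_smul_comm, ← hν']
      simp only [mul_assoc]
      rw [← mul_assoc (R g⁻¹), ← map_mul, inv_mul_cancel, map_one, one_mul]
    · exact (finrank_comap_subtype_le _ _).trans ((Submodule.finrank_map_le _ _).trans hdim)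
    · intro T
      rw [hφ, hiter, hadj, hkill b A hA0, zero_mul, Matrix.trace_zero]
    · rw [hφ, hiter]
      simpa only [mul_assoc, hQQi, mul_one] using hA1
  obtain ⟨hs2, hs3, hs4, hs5⟩ := strings (k := k) hXXi
  have hmem : ∀ v, comb n v * Q = -(Q * (comb n v)ᵀ) := fun v =>
    eq_neg_of_add_eq_zero_left (comb_Qm v)
  rcases Nat.even_or_odd n with hev | hod
  · -- even degree: the traceless symmetrized products
    set S6 := Submodule.span k (Set.range (gen6 k n)) with hS6
    set K0 := S6 ⊓ LinearMap.ker (Matrix.traceLinearMap (Fin n) k k) with hK0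
    have hEF : (lowE k n * raiseF k n).trace ≠ 0 := by
      intro h
      have h6 := trace_EF (k := k) (d := n)
      rw [h, mul_zero] at h6
      have h' : ((n * (n + 1) * (n - 1) : ℕ) : k) = 0 := by
        rw [Nat.cast_mul, Nat.cast_mul, Nat.cast_sub hn1]
        push_cast
        exact h6.symm
      rw [CharP.cast_eq_zero_iff k p] at h'
      rcases (Fact.out : p.Prime).dvd_mul.1 h' with h'' | h''
      · rcases (Fact.out : p.Prime).dvd_mul.1 h'' with h3 | h3
        · exact absurd (Nat.le_of_dvd (by omega) h3) (by omega)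
        · exact absurd (Nat.le_of_dvd (by omega) h3) (by omega)
      · exact absurd (Nat.le_of_dvd (by omega) h'') (by omega)
    have hlt : K0 < S6 := by
      refine lt_of_le_of_ne inf_le_left fun he => ?_
      have h5 : gen6 k n 5 ∈ K0 := he.symm ▸ Submodule.subset_span ⟨5, rfl⟩
      have h5' := LinearMap.mem_ker.1 h5.2
      simp only [gen6, Matrix.cons_val, sym2, comb, one_smul, zero_smul, zero_add, add_zero,
        Matrix.traceLinearMap_apply, Matrix.trace_add] at h5'
      rw [Matrix.trace_mul_comm (raiseF k n) (lowE k n), ← two_mul] at h5'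
      exact hEF ((mul_eq_zero.1 h5').resolve_left h2)
    have hdim : Module.finrank k K0 ≤ 5 := by
      have h1 := Submodule.finrank_lt_finrank_of_lt hlt
      have h1' := finrank_range_le_card (R := k) (gen6 k n)
      rw [Fintype.card_fin] at h1'
      have : Module.finrank k S6 ≤ 6 := h1'
      omega
    refine main 5 K0 (raiseF k n * raiseF k n) (by norm_num) le_rfl hdim ?_ ?_ ?_ ?_ ?_
    · intro g hg Y hY
      refine ⟨?_, ?_⟩
      · have hle : S6 ≤ S6.comap (conjBy (R g) (R g⁻¹)) := by
          rw [hS6, Submodule.span_le]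
          rintro _ ⟨i, rfl⟩
          obtain ⟨v, w, hvw⟩ : ∃ v w : Fin 3 → k, gen6 k n i = sym2 v w := by
            fin_cases i <;> exact ⟨_, _, rfl⟩
          obtain ⟨v', hv'⟩ := hN g hg v
          obtain ⟨w', hw'⟩ := hN g hg w
          have hgi : R g * R g⁻¹ = 1 := by rw [← map_mul, mul_inv_cancel, map_one]
          show conjBy (R g) (R g⁻¹) (gen6 k n i) ∈ S6
          have : conjBy (R g) (R g⁻¹) (gen6 k n i) = sym2 v' w' := by
            have h' : ∀ {v v' : Fin 3 → k}, R g * comb n v = comb n v' * R g →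
                conjBy (R g) (R g⁻¹) (comb n v) = comb n v' := fun {v v'} hv => by
              rw [conjBy_apply, ← mul_assoc, hv, mul_assoc, hgi, mul_one]
            rw [hvw, sym2, map_add, conjBy_mul (mul_eq_one_comm.1 hgi),
              conjBy_mul (mul_eq_one_comm.1 hgi), sym2, h' hv', h' hw']
          rw [this]
          exact sym2_mem v' w'
        exact hle hY.1
      · show R g * (Y * R g⁻¹) ∈ LinearMap.ker (Matrix.traceLinearMap (Fin n) k k)
        rw [LinearMap.mem_ker, Matrix.traceLinearMap_apply, Matrix.trace_mul_comm, mul_assoc,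
          ← map_mul, inv_mul_cancel, map_one, mul_one]
        exact LinearMap.mem_ker.1 hY.2
    · refine ⟨?_, ?_⟩
      · have h : raiseF k n * raiseF k n = (2 : k)⁻¹ • gen6 k n 2 := by
          simp only [gen6, Matrix.cons_val, sym2, comb, one_smul, zero_smul, zero_add, add_zero]
          rw [← two_smul k, smul_smul, inv_mul_cancel₀ h2, one_smul]
        rw [h]
        exact Submodule.smul_mem _ _ (Submodule.subset_span ⟨2, rfl⟩)
      · show raiseF k n * raiseF k n ∈ LinearMap.ker (Matrix.traceLinearMap (Fin n) k k)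
        rw [LinearMap.mem_ker, Matrix.traceLinearMap_apply, Matrix.trace]
        exact Finset.sum_eq_zero fun a _ => raiseF_sq_diag a
    · have hF : comb n ![(0 : k), 0, 1] = raiseF k n := by simp [comb]
      have hm := hmem ![0, 0, 1]
      rw [hF] at hm
      have hm' : Q * (raiseF k n)ᵀ = -(raiseF k n * Q) := by rw [hm, neg_neg]
      have hT : Qᵀ = -Q := by
        rw [hQdef, Qm_transpose, Odd.neg_one_pow (by obtain ⟨j, hj⟩ := hev; exact ⟨j - 1, by omega⟩),
          neg_smul, one_smul]
      show (raiseF k n * raiseF k n * Q)ᵀ = -(raiseF k n * raiseF k n * Q)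
      rw [Matrix.transpose_mul, Matrix.transpose_mul, hT, neg_mul, ← mul_assoc, hm', neg_mul,
        mul_assoc, hm', mul_neg, neg_neg, ← mul_assoc]
    · simpa only [pow_succ', pow_zero, mul_one, Module.End.mul_apply] using hs5
    · have h4 : (D ^ (5 - 1)) (raiseF k n * raiseF k n) = 24 • (lowE k n * lowE k n) := by
        simpa only [show 5 - 1 = 4 from rfl, pow_succ', pow_zero, mul_one, Module.End.mul_apply]
          using hs4
      rw [h4, mul_smul_comm, Matrix.trace_smul, nsmul_eq_mul, Matrix.trace_mul_comm]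
      refine mul_ne_zero ?_ fun h0 => ?_
      · intro h0
        rw [CharP.cast_eq_zero_iff k p] at h0
        have := Nat.le_of_dvd (by norm_num) h0
        have := (Fact.out : p.Prime)
        rcases eq_or_ne p 11 with rfl | h11
        · norm_num at h0
        · have : p ∣ 2 ∨ p ∣ 12 := (Fact.out : p.Prime).dvd_mul.1 (show p ∣ 2 * 12 from h0)
          rcases this with h | h
          · have := Nat.le_of_dvd two_pos h; omega
          · have h' := Nat.le_of_dvd (by norm_num) h
            interval_cases p <;> omega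
      · have h30 := trace_EEFF (k := k) (n := n)
        rw [h0, mul_zero] at h30
        have h' : (((n + 2) * (n + 1) * n * (n - 1) * (n - 2) : ℕ) : k) = 0 := by
          simp only [Nat.cast_mul, Nat.cast_add, Nat.cast_sub hn1,
            Nat.cast_sub (show 2 ≤ n by omega), Nat.cast_one, Nat.cast_ofNat]
          exact h30.symm
        rw [CharP.cast_eq_zero_iff k p] at h'
        simp only [(Fact.out : p.Prime).dvd_mul] at h'
        rcases h' with (((h' | h') | h') | h') | h' <;>
          exact absurd (Nat.le_of_dvd (by omega) h') (by omega)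
  · -- odd degree: the operators of `sl₂`
    set C : (Fin 3 → k) →ₗ[k] Matrix (Fin n) (Fin n) k :=
      { toFun := fun v => comb n v
        map_add' := fun v w => by simp only [comb, Pi.add_apply, add_smul]; abel
        map_smul' := fun a v => by
          simp only [comb, Pi.smul_apply, smul_eq_mul, smul_add, smul_smul, RingHom.id_apply] }
      with hC
    refine main 3 (LinearMap.range C) (raiseF k n) (by norm_num) (by norm_num)
      ((LinearMap.finrank_range_le C).trans (le_of_eq (Module.finrank_fin_fun k))) ?_ ?_ ?_ ?_ ?_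
    · rintro g hg _ ⟨v, rfl⟩
      obtain ⟨w, hw⟩ := hN g hg v
      refine ⟨w, ?_⟩
      show comb n w = R g * (comb n v * R g⁻¹)
      rw [← mul_assoc, hw, mul_assoc, ← map_mul, mul_inv_cancel, map_one, mul_one]
    · exact ⟨![0, 0, 1], by simp [hC, comb]⟩
    · have hF : comb n ![(0 : k), 0, 1] = raiseF k n := by simp [comb]
      have hm := hmem ![0, 0, 1]
      rw [hF] at hm
      have hT : Qᵀ = Q := by
        rw [hQdef, Qm_transpose, Even.neg_one_pow (by obtain ⟨j, hj⟩ := hod; exact ⟨j, by omega⟩),
          one_smul]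
      show (raiseF k n * Q)ᵀ = -(raiseF k n * Q)
      rw [Matrix.transpose_mul, hT, hm, neg_neg]
    · simpa only [pow_succ', pow_zero, mul_one, Module.End.mul_apply] using hs3
    · have h' : (D ^ (3 - 1)) (raiseF k n) = -(2 • lowE k n) := by
        simpa only [show 3 - 1 = 2 from rfl, pow_succ', pow_zero, mul_one, Module.End.mul_apply]
          using hs2
      rw [h', mul_neg, Matrix.trace_neg, mul_smul_comm, Matrix.trace_smul, neg_ne_zero,
        nsmul_eq_mul, Matrix.trace_mul_comm]
      push_cast
      refine mul_ne_zero h2 fun h => ?_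
      have h6 := trace_EF (k := k) (d := n)
      rw [h, mul_zero] at h6
      have h'' : ((n * (n + 1) * (n - 1) : ℕ) : k) = 0 := by
        rw [Nat.cast_mul, Nat.cast_mul, Nat.cast_sub hn1]
        push_cast
        exact h6.symm
      rw [CharP.cast_eq_zero_iff k p] at h''
      simp only [(Fact.out : p.Prime).dvd_mul] at h''
      rcases h'' with (h' | h') | h' <;> exact absurd (Nat.le_of_dvd (by omega) h') (by omega)

end Cfsg.Agent.Lib.FeitSmall.Skew
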